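import Mathlib
import Groth.Prelude.Def_NonAbH2
import Groth.Prelude.Def_TwC

/-!
# Rigidity of extensions of a commutative group scheme of finite type over a field by a
torsion-free constant group (S8716)

Let `1 → G → E → P → 1` be an fppf-exact sequence of commutative group schemes over a field, with
`G = Z_k` constant, `Z` torsion free, `P` quasi-compact.  An automorphism `φ` of `E` inducing the
identity on `G` and `P` has the form `x ↦ x · u(gam x)` for a homomorphism `gam : E → G` which is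
invariant under translation by `G`.  The index of the component of `gam x` is a locally constant
function on `E`, constant on the fibres of `E → P`; hence it descends to a locally constant function
on the quasi-compact space `P`, which takes finitely many values.  The set of values is stable under
powers, so it consists of elements of finite order; thus `gam = 1`.
-/

set_option autoImplicit false
set_option linter.unusedSectionVars false
set_option linter.unusedVariables false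
set_option linter.style.haveILetI false
set_option linter.unusedSimpArgs false
set_option maxHeartbeats 800000
set_option synthInstance.maxHeartbeats 400000

open CategoryTheory CategoryTheory.Limits MonoidalCategory CartesianMonoidalCategory MonObj
  AlgebraicGeometry

namespace Groth.Agent.Helper6.ExtRigid

universe v u

section Cat

variable {C : Type u} [Category.{v} C] [CartesianMonoidalCategory C] [BraidedCategory C]
  {E G P : C} [GrpObj E] [GrpObj G] [IsCommMonObj E]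
  (u : G ⟶ E) (v : E ⟶ P)

theorem lift_whisker_mul {T : C} (a : T ⟶ E) (h : T ⟶ G) :
    lift a h ≫ (E ◁ u) ≫ μ[E] = a * (h ≫ u) := by
  rw [← Category.assoc, lift_whiskerLeft, Hom.mul_def]

theorem act_eq : (E ◁ u) ≫ μ[E] = fst E G * (snd E G ≫ u) := by
  have h := lift_whisker_mul u (fst E G) (snd E G)
  rwa [lift_fst_snd, Category.id_comp] at h

variable (hpb : IsPullback (fst E G) ((E ◁ u) ≫ μ[E]) v v)

include hpb in
theorem u_cancel {T : C} (a b : T ⟶ G) (h : a ≫ u = b ≫ u) : a = b := by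
  have h1 : lift (1 : T ⟶ E) a = lift (1 : T ⟶ E) b := by
    apply hpb.hom_ext
    · rw [lift_fst, lift_fst]
    · rw [lift_whisker_mul, lift_whisker_mul, h]
  have h2 : lift (1 : T ⟶ E) a ≫ snd E G = lift (1 : T ⟶ E) b ≫ snd E G := by rw [h1]
  rwa [lift_snd, lift_snd] at h2

include hpb in
theorem exists_gamma (φ : E ⟶ E) (hφv : φ ≫ v = v) :
    ∃ gam : E ⟶ G, φ = 𝟙 E * (gam ≫ u) := by
  have hc : 𝟙 E ≫ v = φ ≫ v := by rw [Category.id_comp, hφv]
  obtain ⟨w, hw1, hw2⟩ : ∃ w : E ⟶ E ⊗ G, w ≫ fst E G = 𝟙 E ∧ w ≫ (E ◁ u) ≫ μ[E] = φ :=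
    ⟨hpb.lift (𝟙 E) φ hc, hpb.lift_fst _ _ _, hpb.lift_snd _ _ _⟩
  refine ⟨w ≫ snd E G, ?_⟩
  have h1 : w = lift (𝟙 E) (w ≫ snd E G) := by
    apply CartesianMonoidalCategory.hom_ext
    · rw [lift_fst, hw1]
    · rw [lift_snd]
  have h2 : lift (𝟙 E) (w ≫ snd E G) ≫ (E ◁ u) ≫ μ[E] = φ := by
    rw [← h1]; exact hw2
  rw [lift_whisker_mul] at h2
  exact h2.symm

section Gamma

variable (gam : E ⟶ G) (φ : E ⟶ E) (hφ : φ = 𝟙 E * (gam ≫ u))

include hφ in
theorem comp_phi {T : C} (x : T ⟶ E) : x ≫ φ = x * (x ≫ gam ≫ u) := by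
  rw [hφ, MonObj.comp_mul, Category.comp_id]

include hφ in
theorem phi_eq_id [IsMonHom u] (hgam : gam = 1) : φ = 𝟙 E := by
  rw [hφ, hgam, MonObj.one_comp u, _root_.mul_one]

variable [IsMonHom u] [IsMonHom φ] (hφu : u ≫ φ = u)

include hpb hφ in
theorem gamma_mul {T : C} (x y : T ⟶ E) : (x * y) ≫ gam = (x ≫ gam) * (y ≫ gam) := by
  have h1 : (x * y) ≫ φ = (x ≫ φ) * (y ≫ φ) := MonObj.mul_comp x y φ
  rw [comp_phi u gam φ hφ (x * y), comp_phi u gam φ hφ x, comp_phi u gam φ hφ y] at h1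
  have h1' := h1.trans (mul_mul_mul_comm x (x ≫ gam ≫ u) y (y ≫ gam ≫ u))
  have h2 : (x * y) ≫ gam ≫ u = (x ≫ gam ≫ u) * (y ≫ gam ≫ u) := mul_left_cancel h1'
  apply u_cancel u v hpb
  rw [MonObj.mul_comp (x ≫ gam) (y ≫ gam) u]
  simp only [Category.assoc]
  exact h2

include hpb hφ hφu in
theorem gamma_u {T : C} (g : T ⟶ G) : (g ≫ u) ≫ gam = 1 := by
  have h1 : (g ≫ u) ≫ φ = g ≫ u := by rw [Category.assoc, hφu]
  rw [comp_phi u gam φ hφ (g ≫ u)] at h1
  have h2 : (g ≫ u) ≫ gam ≫ u = 1 := by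
    apply mul_left_cancel (a := g ≫ u)
    rw [h1, _root_.mul_one]
  apply u_cancel u v hpb
  rw [Category.assoc, h2, MonObj.one_comp u]

include hpb hφ hφu in
theorem gamma_one {T : C} : (1 : T ⟶ E) ≫ gam = 1 := by
  have h := gamma_u u v hpb gam φ hφ hφu (1 : T ⟶ G)
  rwa [MonObj.one_comp u] at h

include hpb hφ hφu in
theorem gamma_act : ((E ◁ u) ≫ μ[E]) ≫ gam = fst E G ≫ gam := by
  rw [act_eq u, gamma_mul u v hpb gam φ hφ, gamma_u u v hpb gam φ hφ hφu, _root_.mul_one]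

include hpb hφ hφu in
theorem gamma_pow {T : C} (x : T ⟶ E) (n : ℕ) : (x ^ n) ≫ gam = (x ≫ gam) ^ n := by
  induction n with
  | zero => rw [pow_zero, pow_zero]; exact gamma_one u v hpb gam φ hφ hφu
  | succ n ih => rw [pow_succ, pow_succ, gamma_mul u v hpb gam φ hφ, ih]

end Gamma

end Cat

section Sch

variable {S : Scheme.{u}} {Z : Type u}

/-- The index of the component of the constant scheme `Z_S` containing a point. -/
noncomputable def idx (y : (TwC.const S Z).left) : Z :=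
  ((sigmaMk (fun _ : Z => S)).symm y).1

theorem idx_eq_iff (y : (TwC.const S Z).left) (z : Z) :
    idx y = z ↔ y ∈ Set.range (Sigma.ι (fun _ : Z => S) z) := by
  constructor
  · intro h
    subst h
    have h1 := sigmaMk_mk (fun _ : Z => S) ((sigmaMk (fun _ : Z => S)).symm y).1
      ((sigmaMk (fun _ : Z => S)).symm y).2
    rw [Sigma.eta, Homeomorph.apply_symm_apply] at h1
    exact ⟨_, h1.symm⟩
  · rintro ⟨x, hx⟩
    have h1 := sigmaMk_mk (fun _ : Z => S) z x
    have h2 : (sigmaMk (fun _ : Z => S)).symm y = ⟨z, x⟩ := by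
      rw [Homeomorph.symm_apply_eq, h1]; exact hx.symm
    unfold idx
    rw [h2]

theorem isOpen_idx_fiber (z : Z) : IsOpen (idx (S := S) (Z := Z) ⁻¹' {z}) := by
  have h : idx (S := S) (Z := Z) ⁻¹' {z} = Set.range (Sigma.ι (fun _ : Z => S) z) := by
    ext y; exact idx_eq_iff y z
  rw [h]
  exact (Sigma.ι (fun _ : Z => S) z).isOpenEmbedding.isOpen_range

theorem factor_sigma {X : Scheme.{u}} (f : X ⟶ ∐ fun _ : Z => S) (z : Z)
    (h : Set.range f ⊆ Set.range (Sigma.ι (fun _ : Z => S) z)) :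
    f = (f ≫ Sigma.desc (fun _ : Z => 𝟙 S)) ≫ Sigma.ι (fun _ : Z => S) z := by
  obtain ⟨g, hg⟩ : ∃ g : X ⟶ S, g ≫ Sigma.ι (fun _ : Z => S) z = f :=
    ⟨IsOpenImmersion.lift _ _ h, IsOpenImmersion.lift_fac _ _ _⟩
  have h1 : f ≫ Sigma.desc (fun _ : Z => 𝟙 S) = g := by
    rw [← hg, Category.assoc, Sigma.ι_desc, Category.comp_id]
  rw [h1, hg]

theorem eq_pt_of_idx {T : Over S} (f : T ⟶ TwC.const S Z) (z : Z)
    (h : ∀ t : T.left, idx (f.left t) = z) : f = toUnit T ≫ TwC.pt S Z z := by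
  have hsub : Set.range f.left ⊆ Set.range (Sigma.ι (fun _ : Z => S) z) := by
    rintro _ ⟨t, rfl⟩
    exact (idx_eq_iff _ z).1 (h t)
  have h1 := factor_sigma (S := S) (Z := Z) f.left z hsub
  have hw : f.left ≫ Sigma.desc (fun _ : Z => 𝟙 S) = T.hom := Over.w f
  have h9 : (toUnit T ≫ TwC.pt S Z z).left = T.hom ≫ Sigma.ι (fun _ : Z => S) z := by
    rw [Over.comp_left, Over.toUnit_left]; rfl
  apply Over.OverMorphism.ext
  exact (h1.trans (congrArg (fun m => m ≫ Sigma.ι (fun _ : Z => S) z) hw)).trans h9.symm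

theorem finite_range_idx {E P : Over S} (v : E ⟶ P) (κ : E ⟶ TwC.const S Z)
    [CompactSpace P.left]
    (hfib : ∀ e e' : E.left, v.left e = v.left e' → κ.left e = κ.left e')
    (hloc : NonAbH1.IsLocallyTrivialFor Scheme.fppfPrecoverage (Over.mk v.left : Over P.left)) :
    (Set.range fun e : E.left => idx (κ.left e)).Finite := by
  obtain ⟨R, hR, hsec⟩ := hloc
  have hR' : R ∈ Scheme.precoverage (@Flat ⊓ @LocallyOfFinitePresentation) P.left := hR
  have hmem : ∀ p : P.left, ∃ (Y : Scheme.{u}) (f : Y ⟶ P.left) (s : Y ⟶ E.left) (t : Y),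
      IsOpenMap f ∧ s ≫ v.left = f ∧ f t = p := by
    intro p
    obtain ⟨Y, f, hRf, hx⟩ :=
      (Presieve.mem_comap_jointlySurjectivePrecoverage_iff _).mp hR'.1 p
    obtain ⟨t, ht⟩ := hx
    have hP : (@Flat ⊓ @LocallyOfFinitePresentation : MorphismProperty Scheme.{u}) f :=
      hR'.2 hRf
    haveI : Flat f := hP.1
    haveI : LocallyOfFinitePresentation f := hP.2
    obtain ⟨s, hs⟩ := hsec f hRf
    exact ⟨Y, f, s, t, f.isOpenMap, hs, ht⟩
  choose Y f s t hopen hs ht using hmem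
  have hvs : ∀ p : P.left, v.left ((s p) (t p)) = p := by
    intro p
    rw [← Scheme.Hom.comp_apply, hs p, ht p]
  obtain ⟨c, hcdef⟩ : ∃ c : E.left → Z, ∀ e, c e = idx (κ.left e) := ⟨_, fun _ => rfl⟩
  obtain ⟨cb, hcb⟩ : ∃ cb : P.left → Z, ∀ p, cb p = c ((s p) (t p)) := ⟨_, fun _ => rfl⟩
  have hc : ∀ e : E.left, c e = cb (v.left e) := by
    intro e
    rw [hcb, hcdef e, hcdef, hfib e _ (hvs (v.left e)).symm]
  have hcopen : ∀ z : Z, IsOpen (c ⁻¹' {z}) := by
    intro z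
    have h : c ⁻¹' {z} = κ.left ⁻¹' (idx ⁻¹' {z}) := by
      ext e
      simp only [Set.mem_preimage, Set.mem_singleton_iff, hcdef]
    rw [h]
    exact (isOpen_idx_fiber z).preimage κ.left.continuous
  have hlc : IsLocallyConstant cb := by
    rw [IsLocallyConstant.iff_isOpen_fiber]
    intro z
    rw [isOpen_iff_forall_mem_open]
    intro p hp
    refine ⟨f p '' ((s p) ⁻¹' (c ⁻¹' {z})), ?_, ?_, ?_⟩
    · rintro _ ⟨y, hy, rfl⟩
      show cb ((f p) y) = z
      have h1 : v.left ((s p) y) = (f p) y := by rw [← Scheme.Hom.comp_apply, hs p]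
      rw [← h1, ← hc]
      exact hy
    · apply hopen p
      exact (hcopen z).preimage (s p).continuous
    · refine ⟨t p, ?_, ht p⟩
      show c ((s p) (t p)) = z
      rw [← hcb]
      exact hp
  have hfin := hlc.range_finite
  have hfun : (fun e : E.left => idx (κ.left e)) = c := funext fun e => (hcdef e).symm
  rw [hfun]
  refine hfin.subset ?_
  rintro _ ⟨e, rfl⟩
  exact ⟨v.left e, (hc e).symm⟩

theorem pt_one {G : Over S} [GrpObj G] [Group Z] (eG : G ≅ TwC.const S Z)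
    (hG : TwC.IsConstGrp Z G eG) : TwC.pt S Z (1 : Z) ≫ eG.inv = 1 := by
  have h := hG 1 1
  rw [show (1 : Z) * 1 = 1 from _root_.mul_one 1] at h
  apply mul_left_cancel (a := TwC.pt S Z (1 : Z) ≫ eG.inv)
  rw [h, _root_.mul_one]

theorem pt_pow {G : Over S} [GrpObj G] [Group Z] (eG : G ≅ TwC.const S Z)
    (hG : TwC.IsConstGrp Z G eG) (z : Z) (n : ℕ) :
    (TwC.pt S Z z ≫ eG.inv) ^ n = TwC.pt S Z (z ^ n) ≫ eG.inv := by
  induction n with
  | zero => rw [pow_zero, pow_zero, pt_one eG hG]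
  | succ n ih => rw [pow_succ, ih, hG, pow_succ]

theorem pow_mem_range {E G : Over S} [GrpObj E] [GrpObj G] [Group Z] (gam : E ⟶ G)
    (eG : G ≅ TwC.const S Z) (hG : TwC.IsConstGrp Z G eG)
    (hgampow : ∀ {T : Over S} (x : T ⟶ E) (n : ℕ), (x ^ n) ≫ gam = (x ≫ gam) ^ n)
    (e : E.left) (n : ℕ) :
    ∃ e' : E.left, idx ((gam ≫ eG.hom).left e') = idx ((gam ≫ eG.hom).left e) ^ n := by
  obtain ⟨z, hz⟩ : ∃ z, idx ((gam ≫ eG.hom).left e) = z := ⟨_, rfl⟩
  rw [hz]
  let U : E.left.Opens := ⟨(fun e' : E.left => idx ((gam ≫ eG.hom).left e')) ⁻¹' {z},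
    (isOpen_idx_fiber z).preimage (gam ≫ eG.hom).left.continuous⟩
  obtain ⟨T, x, t0, hxall⟩ : ∃ (T : Over S) (x : T ⟶ E) (t0 : T.left),
      ∀ t : T.left, idx ((gam ≫ eG.hom).left (x.left t)) = z := by
    refine ⟨Over.mk (U.ι ≫ E.hom), Over.homMk U.ι rfl, (⟨e, hz⟩ : U), ?_⟩
    intro t
    exact t.2
  have h1 : (x ≫ gam) ≫ eG.hom = toUnit T ≫ TwC.pt S Z z := by
    apply eq_pt_of_idx
    intro t
    have h2 : ((x ≫ gam) ≫ eG.hom).left t = (gam ≫ eG.hom).left (x.left t) := by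
      rw [Category.assoc, Over.comp_left _ _ _ x (gam ≫ eG.hom), Scheme.Hom.comp_apply]
    rw [h2]
    exact hxall t
  have h3 : x ≫ gam = toUnit T ≫ TwC.pt S Z z ≫ eG.inv := by
    have h := congrArg (fun m => m ≫ eG.inv) h1
    simp only [Category.assoc, Iso.hom_inv_id, Category.comp_id] at h
    exact h
  have h4 : (x ^ n) ≫ gam = toUnit T ≫ TwC.pt S Z (z ^ n) ≫ eG.inv := by
    rw [hgampow, h3, ← MonObj.comp_pow, pt_pow eG hG]
  have h5 : ((x ^ n) ≫ gam) ≫ eG.hom = toUnit T ≫ TwC.pt S Z (z ^ n) := by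
    rw [h4]
    simp only [Category.assoc, Iso.inv_hom_id, Category.comp_id]
  refine ⟨(x ^ n).left t0, ?_⟩
  have h6 : (((x ^ n) ≫ gam) ≫ eG.hom).left t0 = (gam ≫ eG.hom).left ((x ^ n).left t0) := by
    rw [Category.assoc, Over.comp_left _ _ _ (x ^ n) (gam ≫ eG.hom), Scheme.Hom.comp_apply]
  have h7 : (toUnit T ≫ TwC.pt S Z (z ^ n)).left t0 =
      (Sigma.ι (fun _ : Z => S) (z ^ n)) (T.hom t0) := by
    rw [Over.comp_left, Over.toUnit_left, Scheme.Hom.comp_apply]; rfl
  rw [← h6, h5]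
  exact (idx_eq_iff _ _).2 ⟨T.hom t0, h7.symm⟩

end Sch

theorem main (k : Type u) [Field k]
    (Z : Type u) [CommGroup Z] (hZ : ∀ z : Z, IsOfFinOrder z → z = 1)
    (P E G : Over (Spec (CommRingCat.of k))) [GrpObj P] [GrpObj E] [GrpObj G]
    [IsCommMonObj P] [IsCommMonObj E]
    [LocallyOfFiniteType P.hom] [QuasiCompact P.hom]
    (eG : G ≅ TwC.const (Spec (CommRingCat.of k)) Z) (hG : TwC.IsConstGrp Z G eG)
    (u : G ⟶ E) (v : E ⟶ P) (hex : NonAbH1.IsExactSeq Scheme.fppfPrecoverage u v)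
    (φ : E ≅ E) [IsMonHom φ.hom] (hφu : u ≫ φ.hom = u) (hφv : φ.hom ≫ v = v) :
    φ.hom = 𝟙 E := by
  obtain ⟨hu, hv, huv, hpb, hloc⟩ := hex
  haveI := hu
  obtain ⟨gam, hφ⟩ := exists_gamma u v hpb φ.hom hφv
  apply phi_eq_id u gam φ.hom hφ
  haveI : CompactSpace P.left := QuasiCompact.compactSpace_of_compactSpace P.hom
  have hact := gamma_act u v hpb gam φ.hom hφ hφu
  have hact' : ((E ◁ u) ≫ μ[E]) ≫ gam ≫ eG.hom = fst E G ≫ gam ≫ eG.hom := by
    rw [← Category.assoc, hact, Category.assoc]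
  have hpbS : IsPullback (fst E G).left ((E ◁ u) ≫ μ[E]).left v.left v.left :=
    hpb.map (Over.forget _)
  have hfib : ∀ e e' : E.left, v.left e = v.left e' →
      (gam ≫ eG.hom).left e = (gam ≫ eG.hom).left e' := by
    intro e e' hee
    obtain ⟨t, ht1, ht2⟩ :=
      Scheme.Pullback.exists_preimage_pullback (f := v.left) (g := v.left) e e' hee
    have h1 : (fst E G).left (hpbS.isoPullback.inv t) = e := by
      rw [← Scheme.Hom.comp_apply, hpbS.isoPullback_inv_fst]; exact ht1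
    have h2 : ((E ◁ u) ≫ μ[E]).left (hpbS.isoPullback.inv t) = e' := by
      rw [← Scheme.Hom.comp_apply, hpbS.isoPullback_inv_snd]; exact ht2
    have h3 : (((E ◁ u) ≫ μ[E]) ≫ gam ≫ eG.hom).left (hpbS.isoPullback.inv t) =
        (fst E G ≫ gam ≫ eG.hom).left (hpbS.isoPullback.inv t) := by rw [hact']
    rw [Over.comp_left _ _ _ ((E ◁ u) ≫ μ[E]) (gam ≫ eG.hom),
      Over.comp_left _ _ _ (fst E G) (gam ≫ eG.hom), Scheme.Hom.comp_apply,
      Scheme.Hom.comp_apply, h1, h2] at h3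
    exact h3.symm
  have hfin := finite_range_idx v (gam ≫ eG.hom) hfib hloc
  have hpow : ∀ (e : E.left) (n : ℕ), idx ((gam ≫ eG.hom).left e) ^ n ∈
      Set.range fun e : E.left => idx ((gam ≫ eG.hom).left e) := by
    intro e n
    obtain ⟨e', he'⟩ := pow_mem_range gam eG hG
      (fun x n => gamma_pow u v hpb gam φ.hom hφ hφu x n) e n
    exact ⟨e', he'⟩
  have hone : ∀ e : E.left, idx ((gam ≫ eG.hom).left e) = 1 := by
    intro e
    apply hZ
    by_contra hn
    have hinj := injective_pow_iff_not_isOfFinOrder.2 hn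
    obtain ⟨a, b, hab, heq⟩ := Set.Finite.exists_lt_map_eq_of_forall_mem
      (f := fun n : ℕ => idx ((gam ≫ eG.hom).left e) ^ n) (hpow e) hfin
    exact (ne_of_lt hab) (hinj heq)
  have hκ : gam ≫ eG.hom = toUnit E ≫ TwC.pt _ Z 1 := eq_pt_of_idx _ 1 hone
  have hgam : gam = toUnit E ≫ TwC.pt _ Z 1 ≫ eG.inv := by
    have h := congrArg (fun m => m ≫ eG.inv) hκ
    simp only [Category.assoc, Iso.hom_inv_id, Category.comp_id] at h
    exact h
  rw [hgam, pt_one eG hG, MonObj.comp_one]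

end Groth.Agent.Helper6.ExtRigid
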