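import Mathlib
import Groth.Prelude.Def_NonAbH2
import Groth.Prelude.Def_TwC
import Groth.Prelude.Def_CAlg2
import Groth.Agent.Lib.Helper6.ExtRigid.ER1
import Groth.Agent.Lib.Helper6.TwCEt.TE1
import Groth.Agent.Lib.Helper4.Act1
import Groth.Agent.Lib.Helper4.TorsNormal1
import Groth.Agent.Lib.Helper4.UniComp2
import Groth.Agent.Lib.Lead.GUnib11

/-!
# Torsors under a torsion-free constant group over a scheme smooth over an irreducible
geometrically unibranch base are trivial (S8707)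

Part A: local irreducibility of schemes smooth over an irreducible geometrically unibranch base.
Part B: translation automorphisms of an object with a group action.
-/

set_option autoImplicit false
set_option linter.unusedSectionVars false
set_option linter.unusedVariables false
set_option linter.style.haveILetI false
set_option linter.unusedSimpArgs false
set_option maxHeartbeats 800000
set_option synthInstance.maxHeartbeats 400000

open CategoryTheory CategoryTheory.Limits MonoidalCategory CartesianMonoidalCategory MonObj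
  AlgebraicGeometry

namespace Groth.Agent.Helper6.ExtRigid

universe v u

section RingA

theorem isPrime_nilradical_of_encard_le_one (A : Type*) [CommRing A] [Nontrivial A]
    (h : (minimalPrimes A).encard ≤ 1) : (nilradical A).IsPrime := by
  obtain ⟨M, hM⟩ := Ideal.exists_maximal A
  haveI : M.IsPrime := hM.isPrime
  obtain ⟨p, hp, -⟩ := Ideal.exists_minimalPrimes_le (I := (⊥ : Ideal A)) (J := M) bot_le
  have hp' : p ∈ minimalPrimes A := hp
  have hmin : minimalPrimes A = {p} := by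
    ext r
    constructor
    · intro hr
      exact (Set.encard_le_one_iff.mp h) r p hr hp'
    · rintro rfl
      exact hp'
  have h1 : sInf (⊥ : Ideal A).minimalPrimes = (⊥ : Ideal A).radical := Ideal.sInf_minimalPrimes
  have h2 : (⊥ : Ideal A).minimalPrimes = {p} := hmin
  rw [h2, sInf_singleton] at h1
  have hnil : nilradical A = p := by rw [h1]; rfl
  rw [hnil]
  exact hp.1.1

theorem finite_minimalPrimes_of_flat_finiteType (R E : Type u) [CommRing R] [CommRing E]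
    [Algebra R E] [Module.Flat R E] [Algebra.FiniteType R E] (hN : (nilradical R).IsPrime) :
    (minimalPrimes E).Finite := by
  haveI := hN
  have hover : ∀ q ∈ minimalPrimes E, q.comap (algebraMap R E) = nilradical R := by
    intro q hq
    have h1 := Groth.Agent.Lead.GUnib.comap_mem_minimalPrimes_of_flat (B := R) (C := E) q hq
    haveI : (q.comap (algebraMap R E)).IsPrime := h1.1.1
    have h2 : nilradical R ≤ q.comap (algebraMap R E) := nilradical_le_prime _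
    exact le_antisymm (h1.2 ⟨hN, bot_le⟩ h2) h2
  haveI : IsNoetherianRing ((nilradical R).Fiber E) :=
    Algebra.FiniteType.isNoetherianRing (nilradical R).ResidueField ((nilradical R).Fiber E)
  have hfin : (minimalPrimes ((nilradical R).Fiber E)).Finite :=
    minimalPrimes.finite_of_isNoetherianRing _
  have hfin' : {Q : PrimeSpectrum ((nilradical R).Fiber E) |
      Q.asIdeal ∈ minimalPrimes ((nilradical R).Fiber E)}.Finite :=
    hfin.preimage (fun a _ b _ h => PrimeSpectrum.ext h)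
  refine (hfin'.image
    (fun Q => ((PrimeSpectrum.primesOverOrderIsoFiber R E (nilradical R)).symm Q).1)).subset ?_
  intro q hq
  haveI hqp : q.IsPrime := hq.1.1
  have hmem : q ∈ (nilradical R).primesOver E := ⟨hqp, ⟨(hover q hq).symm⟩⟩
  refine ⟨PrimeSpectrum.primesOverOrderIsoFiber R E (nilradical R) ⟨q, hmem⟩, ?_, ?_⟩
  · refine ⟨⟨PrimeSpectrum.isPrime _, bot_le⟩, ?_⟩
    rintro J ⟨hJ, -⟩ hle
    have h3 : (⟨J, hJ⟩ : PrimeSpectrum ((nilradical R).Fiber E)) ≤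
        PrimeSpectrum.primesOverOrderIsoFiber R E (nilradical R) ⟨q, hmem⟩ := hle
    have h4 : (PrimeSpectrum.primesOverOrderIsoFiber R E (nilradical R)).symm ⟨J, hJ⟩ ≤
        ⟨q, hmem⟩ := by
      rw [OrderIso.symm_apply_le]
      exact h3
    have h5 : q ≤ ((PrimeSpectrum.primesOverOrderIsoFiber R E (nilradical R)).symm ⟨J, hJ⟩).1 :=
      hq.2 ⟨((PrimeSpectrum.primesOverOrderIsoFiber R E (nilradical R)).symm ⟨J, hJ⟩).2.1,
        bot_le⟩ h4
    have h6 : (⟨q, hmem⟩ : (nilradical R).primesOver E) ≤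
        (PrimeSpectrum.primesOverOrderIsoFiber R E (nilradical R)).symm ⟨J, hJ⟩ := h5
    have h7 : PrimeSpectrum.primesOverOrderIsoFiber R E (nilradical R) ⟨q, hmem⟩ ≤
        (⟨J, hJ⟩ : PrimeSpectrum ((nilradical R).Fiber E)) := by
      rw [← OrderIso.le_symm_apply]
      exact h6
    exact h7
  · simp only [OrderIso.symm_apply_apply]

end RingA

section SchA

open Groth.Agent.Lead.GUnib

theorem exists_irreducible_nhd_smooth {Y S : Scheme.{u}} (g : Y ⟶ S) [Smooth g]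
    [IrreducibleSpace S] (y : Y) (hS : CAlg2.IsGeomUnibranch (S.presheaf.stalk (g y))) :
    ∃ N : Y.Opens, y ∈ N ∧ IsIrreducible (N : Set Y) := by
  obtain ⟨_, ⟨V, hV, rfl⟩, hxV, -⟩ :=
    S.isBasis_affineOpens.exists_subset_of_mem_open (Set.mem_univ (g y)) isOpen_univ
  obtain ⟨_, ⟨W, hW, rfl⟩, hxW, hWle⟩ :=
    Y.isBasis_affineOpens.exists_subset_of_mem_open
      (show y ∈ ((g ⁻¹ᵁ V : Y.Opens) : Set Y) from hxV) (g ⁻¹ᵁ V).2
  have e : W ≤ g ⁻¹ᵁ V := fun z hz => hWle hz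
  have hsm : (g.appLE V W e).hom.Smooth :=
    HasRingHomProperty.appLE @Smooth g inferInstance ⟨V, hV⟩ ⟨W, hW⟩ e
  have hfl : (g.appLE V W e).hom.Flat :=
    HasRingHomProperty.appLE @Flat g inferInstance ⟨V, hV⟩ ⟨W, hW⟩ e
  have hft : (g.appLE V W e).hom.FiniteType :=
    HasRingHomProperty.appLE @LocallyOfFiniteType g inferInstance ⟨V, hV⟩ ⟨W, hW⟩ e
  algebraize [(g.appLE V W e).hom]
  haveI : Algebra.Smooth Γ(S, V) Γ(Y, W) := hsm
  haveI : Module.Flat Γ(S, V) Γ(Y, W) := hfl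
  haveI : Algebra.FiniteType Γ(S, V) Γ(Y, W) := hft
  let q : Ideal Γ(Y, W) := (hW.primeIdealOf ⟨y, hxW⟩).asIdeal
  let p : Ideal Γ(S, V) := (hV.primeIdealOf ⟨g y, hxV⟩).asIdeal
  haveI : p.IsPrime := (hV.primeIdealOf ⟨g y, hxV⟩).isPrime
  haveI : q.IsPrime := (hW.primeIdealOf ⟨y, hxW⟩).isPrime
  have hqp : q.comap (algebraMap Γ(S, V) Γ(Y, W)) = p :=
    congr($(IsAffineOpen.comap_primeIdealOf_appLE V hV W hW e hxW).1)
  have hN : (nilradical Γ(S, V)).IsPrime := isPrime_nilradical_of_isAffineOpen hV ⟨g y, hxV⟩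
  have hgu : CAlg2.IsGeomUnibranch (Localization.AtPrime p) :=
    isGeomUnibranch_atPrime_of_stalk hV (g y) hxV hS
  have hfin := finite_minimalPrimes_of_flat_finiteType Γ(S, V) Γ(Y, W) hN
  obtain ⟨Ash, _, _, _, _, hSH⟩ :=
    Groth.Agent.Helper7.SHens.exists_isStrictHenselization (Localization.AtPrime p)
  have key := encard_minimalPrimes_atPrime_le_strictHenselization Γ(S, V) Γ(Y, W) p q hqp Ash
  have huniq := (Groth.Agent.Helper8.HensGU.isGeomUnibranch_iff_hasUniqueMinimalPrime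
    (Localization.AtPrime p) Ash).mp hgu
  have hone : (minimalPrimes Ash).encard = 1 := by
    obtain ⟨𝔭, h𝔭, h𝔭'⟩ := huniq
    have : minimalPrimes Ash = {𝔭} := by
      ext 𝔮
      constructor
      · intro h𝔮
        exact h𝔭' 𝔮 h𝔮
      · rintro rfl
        exact h𝔭
    rw [this, Set.encard_singleton]
  have hQn : (nilradical (Localization.AtPrime q)).IsPrime :=
    isPrime_nilradical_of_encard_le_one _ (by rw [← hone]; exact key)
  obtain ⟨g₀, hgq, hirr⟩ := exists_basicOpen_isIrreducible hfin q hQn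
  refine ⟨Y.basicOpen g₀, ?_, ?_⟩
  · have h1 : hW.primeIdealOf ⟨y, hxW⟩ ∈ hW.fromSpec ⁻¹ᵁ Y.basicOpen g₀ := by
      rw [hW.fromSpec_preimage_basicOpen]
      exact hgq
    change hW.fromSpec _ ∈ Y.basicOpen g₀ at h1
    rwa [hW.fromSpec_primeIdealOf] at h1
  · rw [← hW.fromSpec_image_basicOpen]
    exact hirr.image _ hW.fromSpec.continuous.continuousOn

theorem hloc_smooth {Y S : Scheme.{u}} (g : Y ⟶ S) [Smooth g] [IrreducibleSpace S]
    (hS : ∀ s : S, CAlg2.IsGeomUnibranch (S.presheaf.stalk s)) :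
    ∀ y : Y, ∃ N : Set Y, IsOpen N ∧ y ∈ N ∧ IsIrreducible N := by
  intro y
  obtain ⟨N, hyN, hN⟩ := exists_irreducible_nhd_smooth g y (hS _)
  exact ⟨N, N.2, hyN, hN⟩

end SchA

section ActB

variable {C : Type u} [Category.{v} C] [CartesianMonoidalCategory C]
  {G X : C} [GrpObj G] (act : G ⊗ X ⟶ X)
  (one_act : (η[G] ▷ X) ≫ act = (λ_ X).hom)
  (mul_act : (μ[G] ▷ X) ≫ act = (α_ G G X).hom ≫ (G ◁ act) ≫ act)

/-- Translation by a global point of the group. -/
def tr (c : 𝟙_ C ⟶ G) : X ⟶ X := lift (toUnit X ≫ c) (𝟙 X) ≫ act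

theorem comp_tr {T : C} (x : T ⟶ X) (c : 𝟙_ C ⟶ G) :
    x ≫ tr act c = lift (toUnit T ≫ c) x ≫ act := by
  have h1 : x ≫ toUnit X ≫ c = toUnit T ≫ c := by rw [← Category.assoc, comp_toUnit]
  unfold tr
  rw [← Category.assoc, comp_lift, Category.comp_id, h1]

include one_act in
theorem tr_one : tr act (1 : 𝟙_ C ⟶ G) = 𝟙 X := by
  unfold tr
  rw [MonObj.comp_one]
  exact Groth.Agent.Helper4.Act.one_smul' act one_act (𝟙 X)

include mul_act in
theorem tr_mul (c d : 𝟙_ C ⟶ G) : tr act (c * d) = tr act d ≫ tr act c := by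
  rw [comp_tr]
  unfold tr
  rw [MonObj.comp_mul]
  exact Groth.Agent.Helper4.Act.mul_smul' act mul_act _ _ _

end ActB

section OverC

variable {P : Scheme.{u}} {Z : Type u} [Group Z] {G X : Over P} [GrpObj G]
  (eG : G ≅ TwC.const P Z) (hG : TwC.IsConstGrp Z G eG) (a : AlgGrp.Action G X)

/-- The global point of `G` of index `z`. -/
noncomputable def cz (z : Z) : 𝟙_ (Over P) ⟶ G := TwC.pt P Z z ≫ eG.inv

/-- Translation by the point of index `z`. -/
noncomputable def az (z : Z) : X ⟶ X := tr a.act (cz eG z)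

include hG in
theorem cz_mul (z w : Z) : cz eG z * cz eG w = cz eG (z * w) := hG z w

include hG in
theorem cz_one : cz eG (1 : Z) = 1 := pt_one eG hG

include hG in
theorem az_one : az eG a (1 : Z) = 𝟙 X := by
  unfold az
  rw [cz_one eG hG]
  exact tr_one a.act a.one_act

include hG in
theorem az_mul (z w : Z) : az eG a (z * w) = az eG a w ≫ az eG a z := by
  unfold az
  rw [← cz_mul eG hG z w]
  exact tr_mul a.act a.mul_act _ _

include hG in
theorem az_mul_apply (z w : Z) (x : X.left) :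
    (az eG a (z * w)).left x = (az eG a z).left ((az eG a w).left x) := by
  rw [az_mul eG hG a z w, Over.comp_left, Scheme.Hom.comp_apply]

include hG in
theorem az_one_apply (x : X.left) : (az eG a (1 : Z)).left x = x := by
  rw [az_one eG hG a]
  rfl

include hG in
theorem az_inv_apply (z : Z) (x : X.left) : (az eG a z⁻¹).left ((az eG a z).left x) = x := by
  rw [← az_mul_apply eG hG a, inv_mul_cancel, az_one_apply eG hG a]

include hG in
theorem az_apply_inv (z : Z) (x : X.left) : (az eG a z).left ((az eG a z⁻¹).left x) = x := by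
  rw [← az_mul_apply eG hG a, mul_inv_cancel, az_one_apply eG hG a]

theorem hom_az_apply (z : Z) (x : X.left) : X.hom ((az eG a z).left x) = X.hom x := by
  rw [← Scheme.Hom.comp_apply, Over.w]

include hG in
theorem act_apply_eq_az {T : Over P} (m : T ⟶ G ⊗ X) (τ : T.left) :
    (m ≫ a.act).left τ =
      (az eG a (idx ((m ≫ fst G X ≫ eG.hom).left τ))).left ((m ≫ snd G X).left τ) := by
  obtain ⟨z, hz⟩ : ∃ z, idx ((m ≫ fst G X ≫ eG.hom).left τ) = z := ⟨_, rfl⟩
  rw [hz]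
  let U : T.left.Opens := ⟨(fun t : T.left => idx ((m ≫ fst G X ≫ eG.hom).left t)) ⁻¹' {z},
    (isOpen_idx_fiber z).preimage (m ≫ fst G X ≫ eG.hom).left.continuous⟩
  obtain ⟨T', ι', τ', hτ', hall⟩ : ∃ (T' : Over P) (ι' : T' ⟶ T) (τ' : T'.left),
      ι'.left τ' = τ ∧ ∀ t : T'.left, idx ((m ≫ fst G X ≫ eG.hom).left (ι'.left t)) = z := by
    refine ⟨Over.mk (U.ι ≫ T.hom), Over.homMk U.ι rfl, (⟨τ, hz⟩ : U), rfl, ?_⟩
    intro t
    exact t.2
  have h1 : (ι' ≫ m ≫ fst G X) ≫ eG.hom = toUnit T' ≫ TwC.pt P Z z := by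
    apply eq_pt_of_idx
    intro t
    have h2 : ((ι' ≫ m ≫ fst G X) ≫ eG.hom).left t =
        (m ≫ fst G X ≫ eG.hom).left (ι'.left t) := by
      rw [Category.assoc, Category.assoc, Over.comp_left _ _ _ ι' (m ≫ fst G X ≫ eG.hom),
        Scheme.Hom.comp_apply]
    rw [h2]
    exact hall t
  have h3 : ι' ≫ m ≫ fst G X = toUnit T' ≫ cz eG z := by
    have h := congrArg (fun k => k ≫ eG.inv) h1
    simp only [Category.assoc, Iso.hom_inv_id, Category.comp_id] at h
    exact h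
  have h4 : ι' ≫ m = lift (ι' ≫ m ≫ fst G X) (ι' ≫ m ≫ snd G X) := by
    apply CartesianMonoidalCategory.hom_ext
    · rw [lift_fst, Category.assoc]
    · rw [lift_snd, Category.assoc]
  have h5 : ι' ≫ m ≫ a.act = (ι' ≫ m ≫ snd G X) ≫ az eG a z := by
    unfold az
    rw [comp_tr, ← h3, ← h4, Category.assoc]
  have hL : (ι' ≫ m ≫ a.act).left τ' = (m ≫ a.act).left τ := by
    rw [Over.comp_left _ _ _ ι' (m ≫ a.act), Scheme.Hom.comp_apply, hτ']
  have hR : ((ι' ≫ m ≫ snd G X) ≫ az eG a z).left τ' =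
      (az eG a z).left ((m ≫ snd G X).left τ) := by
    rw [Over.comp_left _ _ _ (ι' ≫ m ≫ snd G X) (az eG a z), Scheme.Hom.comp_apply,
      Over.comp_left _ _ _ ι' (m ≫ snd G X), Scheme.Hom.comp_apply, hτ']
  rw [← hL, ← hR]
  exact congrArg (fun k => k.left τ') h5

variable (hps : IsIso (lift a.act (snd G X)))

include hps in
theorem inv_shear_act : inv (lift a.act (snd G X)) ≫ a.act = fst X X := by
  rw [IsIso.inv_comp_eq, lift_fst]

include hps in
theorem inv_shear_snd : inv (lift a.act (snd G X)) ≫ snd G X = snd X X := by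
  rw [IsIso.inv_comp_eq, lift_snd]

include hG hps in
theorem exists_translate {T : Over P} (a₁ a₂ : T ⟶ X) (τ : T.left) :
    ∃ z : Z, a₁.left τ = (az eG a z).left (a₂.left τ) := by
  obtain ⟨m, hm⟩ : ∃ m : T ⟶ G ⊗ X, m = lift a₁ a₂ ≫ inv (lift a.act (snd G X)) := ⟨_, rfl⟩
  have hm1 : m ≫ a.act = a₁ := by
    rw [hm, Category.assoc, inv_shear_act a hps, lift_fst]
  have hm2 : m ≫ snd G X = a₂ := by
    rw [hm, Category.assoc, inv_shear_snd a hps, lift_snd]
  have h := act_apply_eq_az eG hG a m τ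
  rw [hm1, hm2] at h
  exact ⟨_, h⟩

include hG hps in
theorem eq_of_forall_translate {T : Over P} (a₁ a₂ : T ⟶ X)
    (h : ∀ (τ : T.left) (z : Z), a₁.left τ = (az eG a z).left (a₂.left τ) → z = 1) :
    a₁ = a₂ := by
  obtain ⟨m, hm⟩ : ∃ m : T ⟶ G ⊗ X, m = lift a₁ a₂ ≫ inv (lift a.act (snd G X)) := ⟨_, rfl⟩
  have hm1 : m ≫ a.act = a₁ := by
    rw [hm, Category.assoc, inv_shear_act a hps, lift_fst]
  have hm2 : m ≫ snd G X = a₂ := by
    rw [hm, Category.assoc, inv_shear_snd a hps, lift_snd]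
  have hidx : ∀ τ : T.left, idx ((m ≫ fst G X ≫ eG.hom).left τ) = 1 := by
    intro τ
    have h1 := act_apply_eq_az eG hG a m τ
    rw [hm1, hm2] at h1
    exact h τ _ h1
  have h2 : (m ≫ fst G X) ≫ eG.hom = toUnit T ≫ TwC.pt P Z 1 := by
    apply eq_pt_of_idx
    intro τ
    rw [Category.assoc]
    exact hidx τ
  have h3 : m ≫ fst G X = 1 := by
    have h' := congrArg (fun k => k ≫ eG.inv) h2
    simp only [Category.assoc, Iso.hom_inv_id, Category.comp_id] at h'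
    rw [h']
    show toUnit T ≫ cz eG (1 : Z) = 1
    rw [cz_one eG hG, MonObj.comp_one]
  have h4 : m = lift (m ≫ fst G X) (m ≫ snd G X) := by
    apply CartesianMonoidalCategory.hom_ext
    · rw [lift_fst]
    · rw [lift_snd]
  calc a₁ = m ≫ a.act := hm1.symm
    _ = lift (m ≫ fst G X) (m ≫ snd G X) ≫ a.act := by rw [← h4]
    _ = lift (1 : T ⟶ G) a₂ ≫ a.act := by rw [h3, hm2]
    _ = a₂ := Groth.Agent.Helper4.Act.one_smul' a.act a.one_act a₂

include hG hps in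
theorem idx_graph (z : Z) (x : X.left) :
    idx ((inv (lift a.act (snd G X)) ≫ fst G X ≫ eG.hom).left
      ((lift (az eG a z) (𝟙 X)).left x)) = z := by
  have h1 : lift (az eG a z) (𝟙 X) =
      lift (toUnit X ≫ cz eG z) (𝟙 X) ≫ lift a.act (snd G X) := by
    rw [comp_lift, lift_snd]
    rfl
  have h2 : lift (az eG a z) (𝟙 X) ≫ inv (lift a.act (snd G X)) ≫ fst G X ≫ eG.hom =
      toUnit X ≫ TwC.pt P Z z := by
    rw [h1, Category.assoc, IsIso.hom_inv_id_assoc, lift_fst_assoc]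
    unfold cz
    rw [Category.assoc, Category.assoc, Iso.inv_hom_id, Category.comp_id]
  have h3 : (inv (lift a.act (snd G X)) ≫ fst G X ≫ eG.hom).left
      ((lift (az eG a z) (𝟙 X)).left x) = (toUnit X ≫ TwC.pt P Z z).left x := by
    rw [← h2, Over.comp_left _ _ _ (lift (az eG a z) (𝟙 X))
      (inv (lift a.act (snd G X)) ≫ fst G X ≫ eG.hom), Scheme.Hom.comp_apply]
  have h7 : (toUnit X ≫ TwC.pt P Z z).left x = (Sigma.ι (fun _ : Z => P) z) (X.hom x) := by
    rw [Over.comp_left, Over.toUnit_left, Scheme.Hom.comp_apply]; rfl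
  rw [h3]
  exact (idx_eq_iff _ _).2 ⟨X.hom x, h7.symm⟩

end OverC

section OverD

variable {P : Scheme.{u}} {Z : Type u} [Group Z] {G X : Over P} [GrpObj G]
  (eG : G ≅ TwC.const P Z) (hG : TwC.IsConstGrp Z G eG) (a : AlgGrp.Action G X)
  (hps : IsIso (lift a.act (snd G X)))
  (hloc : ∀ x : X.left, ∃ N : Set X.left, IsOpen N ∧ x ∈ N ∧ IsIrreducible N)
  (hZ : ∀ z : Z, IsOfFinOrder z → z = 1)

include hloc in
theorem image_subset {C₁ C₂ : Set X.left} (h₁ : C₁ ∈ irreducibleComponents X.left)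
    (h₂ : C₂ ∈ irreducibleComponents X.left) (z : Z) (y₂ : X.left) (hy₂ : y₂ ∈ C₂)
    (hy₁ : (az eG a z).left y₂ ∈ C₁) : (az eG a z).left '' C₂ ⊆ C₁ := by
  have hirr : IsIrreducible ((az eG a z).left '' C₂) :=
    h₂.1.image _ (az eG a z).left.continuous.continuousOn
  obtain ⟨C, hC, hsub⟩ := exists_mem_irreducibleComponents_subset_of_isIrreducible _ hirr
  have hmem : (az eG a z).left y₂ ∈ C := hsub ⟨y₂, hy₂, rfl⟩
  have huniq := (Groth.Agent.Lead.GUnib.existsUnique_irreducibleComponent hloc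
    ((az eG a z).left y₂)).unique ⟨hC, hmem⟩ ⟨h₁, hy₁⟩
  rw [← huniq]
  exact hsub

include hG in
theorem good_pow {C : Set X.left} (w : Z) (hw : (az eG a w).left '' C ⊆ C) (n : ℕ) :
    (az eG a (w ^ n)).left '' C ⊆ C := by
  induction n with
  | zero =>
    rintro _ ⟨y, hy, rfl⟩
    rw [pow_zero, az_one_apply eG hG a]
    exact hy
  | succ n ih =>
    rintro _ ⟨y, hy, rfl⟩
    rw [pow_succ, az_mul_apply eG hG a]
    exact ih ⟨_, hw ⟨y, hy, rfl⟩, rfl⟩

include hG hps hloc hZ in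
theorem eq_one_of_translate_in_component {C : Set X.left}
    (hC : C ∈ irreducibleComponents X.left) (x₁ x₂ : X.left) (hx₁ : x₁ ∈ C) (hx₂ : x₂ ∈ C)
    (z : Z) (hz : x₁ = (az eG a z).left x₂) : z = 1 := by
  have hCo : IsOpen C := Groth.Agent.Lead.GUnib.isOpen_of_mem_irreducibleComponents hloc hC
  have hgz : (az eG a z).left '' C ⊆ C :=
    image_subset eG a hloc hC hC z x₂ hx₂ (by rw [← hz]; exact hx₁)
  have hgz' : (az eG a z⁻¹).left '' C ⊆ C := by
    apply image_subset eG a hloc hC hC z⁻¹ x₁ hx₁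
    rw [hz, az_inv_apply eG hG a]
    exact hx₂
  have hgn' : ∀ n : ℕ, (az eG a (z ^ n)⁻¹).left '' C ⊆ C := by
    intro n
    rw [← inv_pow]
    exact good_pow eG hG a z⁻¹ hgz' n
  obtain ⟨_, ⟨V, hV, rfl⟩, hxV, -⟩ :=
    P.isBasis_affineOpens.exists_subset_of_mem_open (Set.mem_univ (X.hom x₂)) isOpen_univ
  obtain ⟨_, ⟨W, hW, rfl⟩, hxW, hWle⟩ :=
    X.left.isBasis_affineOpens.exists_subset_of_mem_open
      (show x₂ ∈ ((X.hom ⁻¹ᵁ V : X.left.Opens) : Set X.left) ∩ C from ⟨hxV, hx₂⟩)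
      ((X.hom ⁻¹ᵁ V).2.inter hCo)
  have e : W ≤ X.hom ⁻¹ᵁ V := fun y hy => (hWle hy).1
  have hxn : ∀ n : ℕ, ∃ y : X.left, y ∈ (W : Set X.left) ∧
      (az eG a (z ^ n)).left y ∈ (W : Set X.left) := by
    intro n
    have hO : IsOpen ((az eG a (z ^ n)).left ⁻¹' (W : Set X.left)) :=
      W.2.preimage (az eG a (z ^ n)).left.continuous
    have h1 : (C ∩ (W : Set X.left)).Nonempty := ⟨x₂, hx₂, hxW⟩
    have h2 : (C ∩ ((az eG a (z ^ n)).left ⁻¹' (W : Set X.left))).Nonempty := by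
      refine ⟨(az eG a (z ^ n)⁻¹).left x₂, hgn' n ⟨x₂, hx₂, rfl⟩, ?_⟩
      show (az eG a (z ^ n)).left ((az eG a (z ^ n)⁻¹).left x₂) ∈ (W : Set X.left)
      rw [az_apply_inv eG hG a]
      exact hxW
    obtain ⟨y, -, hyW, hyO⟩ := hC.1.2 _ _ W.2 hO h1 h2
    exact ⟨y, hyW, hyO⟩
  haveI : IsAffine (Scheme.Opens.toScheme W) := hW
  haveI : IsAffine (Scheme.Opens.toScheme V) := hV
  obtain ⟨mapK, hmapK⟩ : ∃ mapK : pullback (X.hom.resLE V W e) (X.hom.resLE V W e) ⟶
      (X ⊗ X).left, Set.range mapK =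
        (fst X X).left ⁻¹' (W : Set X.left) ∩ (snd X X).left ⁻¹' (W : Set X.left) := by
    refine ⟨pullback.map (X.hom.resLE V W e) (X.hom.resLE V W e) X.hom X.hom (Scheme.Opens.ι W) (Scheme.Opens.ι W) (Scheme.Opens.ι V)
      (Scheme.Hom.resLE_comp_ι X.hom e) (Scheme.Hom.resLE_comp_ι X.hom e), ?_⟩
    have h := Scheme.Pullback.range_map (X.hom.resLE V W e) (X.hom.resLE V W e) X.hom X.hom
      (Scheme.Opens.ι W) (Scheme.Opens.ι W) (Scheme.Opens.ι V) (Scheme.Hom.resLE_comp_ι X.hom e) (Scheme.Hom.resLE_comp_ι X.hom e)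
    rw [Scheme.Opens.range_ι] at h
    exact h
  obtain ⟨κ, hκ⟩ : ∃ κ : X ⊗ X ⟶ TwC.const P Z,
      κ = inv (lift a.act (snd G X)) ≫ fst G X ≫ eG.hom := ⟨_, rfl⟩
  have hlc : IsLocallyConstant
      (fun k : ↥(pullback (X.hom.resLE V W e) (X.hom.resLE V W e)) =>
        idx (κ.left (mapK k))) := by
    rw [IsLocallyConstant.iff_isOpen_fiber]
    intro z'
    exact ((isOpen_idx_fiber z').preimage κ.left.continuous).preimage mapK.continuous
  have hfin := hlc.range_finite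
  have hpow : ∀ n : ℕ, z ^ n ∈ Set.range
      (fun k : ↥(pullback (X.hom.resLE V W e) (X.hom.resLE V W e)) =>
        idx (κ.left (mapK k))) := by
    intro n
    obtain ⟨y, hyW, hyO⟩ := hxn n
    have hk : (lift (az eG a (z ^ n)) (𝟙 X)).left y ∈ Set.range mapK := by
      rw [hmapK]
      constructor
      · show (fst X X).left ((lift (az eG a (z ^ n)) (𝟙 X)).left y) ∈ (W : Set X.left)
        rw [← Scheme.Hom.comp_apply, ← Over.comp_left, lift_fst]
        exact hyO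
      · show (snd X X).left ((lift (az eG a (z ^ n)) (𝟙 X)).left y) ∈ (W : Set X.left)
        rw [← Scheme.Hom.comp_apply, ← Over.comp_left, lift_snd]
        exact hyW
    obtain ⟨k, hk'⟩ := hk
    refine ⟨k, ?_⟩
    show idx (κ.left (mapK k)) = z ^ n
    rw [hk', hκ]
    exact idx_graph eG hG a hps (z ^ n) y
  apply hZ
  by_contra hn
  have hinj := injective_pow_iff_not_isOfFinOrder.2 hn
  obtain ⟨i, j, hij, heq⟩ := Set.Finite.exists_lt_map_eq_of_forall_mem
    (f := fun n : ℕ => z ^ n) hpow hfin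
  exact (ne_of_lt hij) (hinj heq)

include hG hps hloc in
theorem image_hom_subset {C₁ C₂ : Set X.left} (h₁ : C₁ ∈ irreducibleComponents X.left)
    (h₂ : C₂ ∈ irreducibleComponents X.left) (x₁ x₂ : X.left) (hx₁ : x₁ ∈ C₁) (hx₂ : x₂ ∈ C₂)
    (h : X.hom x₁ = X.hom x₂) : X.hom '' C₂ ⊆ X.hom '' C₁ := by
  obtain ⟨τ, hτ1, hτ2⟩ :=
    Scheme.Pullback.exists_preimage_pullback (f := X.hom) (g := X.hom) x₁ x₂ h
  obtain ⟨z, hz⟩ := exists_translate eG hG a hps (fst X X) (snd X X) τ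
  have hτ1' : (fst X X).left τ = x₁ := hτ1
  have hτ2' : (snd X X).left τ = x₂ := hτ2
  rw [hτ1', hτ2'] at hz
  have hsub := image_subset eG a hloc h₁ h₂ z x₂ hx₂ (by rw [← hz]; exact hx₁)
  rintro _ ⟨y, hy, rfl⟩
  exact ⟨(az eG a z).left y, hsub ⟨y, hy, rfl⟩, hom_az_apply eG a z y⟩

include hG hps hloc hZ in
theorem exists_section [Etale X.hom] [Surjective X.hom] :
    ∃ s : P ⟶ X.left, s ≫ X.hom = 𝟙 P := by
  classical
  obtain ⟨rep, hrep⟩ : ∃ rep : Set P → Set X.left, ∀ C ∈ irreducibleComponents X.left,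
      rep (X.hom '' C) ∈ irreducibleComponents X.left ∧
        X.hom '' rep (X.hom '' C) = X.hom '' C := by
    refine ⟨fun O => if h : ∃ C ∈ irreducibleComponents X.left, X.hom '' C = O
      then h.choose else ∅, ?_⟩
    intro C hC
    have h : ∃ C' ∈ irreducibleComponents X.left, X.hom '' C' = X.hom '' C := ⟨C, hC, rfl⟩
    beta_reduce
    rw [dif_pos h]
    exact h.choose_spec
  obtain ⟨𝒟, h𝒟⟩ : ∃ 𝒟 : Set (Set X.left),
      𝒟 = {D | ∃ C ∈ irreducibleComponents X.left, D = rep (X.hom '' C)} := ⟨_, rfl⟩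
  have hD𝒞 : ∀ D ∈ 𝒟, D ∈ irreducibleComponents X.left := by
    intro D hD
    rw [h𝒟] at hD
    obtain ⟨C, hC, rfl⟩ := hD
    exact (hrep C hC).1
  have hDuniq : ∀ D₁ ∈ 𝒟, ∀ D₂ ∈ 𝒟, ∀ x₁ ∈ D₁, ∀ x₂ ∈ D₂, X.hom x₁ = X.hom x₂ → D₁ = D₂ := by
    intro D₁ hD₁ D₂ hD₂ x₁ hx₁ x₂ hx₂ h
    have hc₁ := hD𝒞 D₁ hD₁
    have hc₂ := hD𝒞 D₂ hD₂
    have himg : X.hom '' D₁ = X.hom '' D₂ :=
      Set.Subset.antisymm (image_hom_subset eG hG a hps hloc hc₂ hc₁ x₂ x₁ hx₂ hx₁ h.symm)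
        (image_hom_subset eG hG a hps hloc hc₁ hc₂ x₁ x₂ hx₁ hx₂ h)
    rw [h𝒟] at hD₁ hD₂
    obtain ⟨C₁, hC₁, rfl⟩ := hD₁
    obtain ⟨C₂, hC₂, rfl⟩ := hD₂
    rw [(hrep C₁ hC₁).2, (hrep C₂ hC₂).2] at himg
    rw [himg]
  have hXo : IsOpen (⋃₀ 𝒟) := isOpen_sUnion fun D hD =>
    Groth.Agent.Lead.GUnib.isOpen_of_mem_irreducibleComponents hloc (hD𝒞 D hD)
  obtain ⟨X', hX'⟩ : ∃ X' : X.left.Opens, (X' : Set X.left) = ⋃₀ 𝒟 := ⟨⟨_, hXo⟩, rfl⟩
  have hsurj : Function.Surjective (X'.ι ≫ X.hom) := by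
    intro p
    obtain ⟨x, hx⟩ := Scheme.Hom.surjective X.hom p
    obtain ⟨C, ⟨hC, hxC⟩, -⟩ :=
      Groth.Agent.Lead.GUnib.existsUnique_irreducibleComponent hloc x
    have h1 : X.hom x ∈ X.hom '' rep (X.hom '' C) := by
      rw [(hrep C hC).2]
      exact ⟨x, hxC, rfl⟩
    obtain ⟨x', hx', hx'x⟩ := h1
    have hx'X : x' ∈ Set.range X'.ι := by
      rw [Scheme.Opens.range_ι, hX']
      refine ⟨rep (X.hom '' C), ?_, hx'⟩
      rw [h𝒟]
      exact ⟨C, hC, rfl⟩
    obtain ⟨w, hw⟩ := hx'X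
    refine ⟨w, ?_⟩
    rw [Scheme.Hom.comp_apply, hw, hx'x, hx]
  haveI hmono : Mono (X'.ι ≫ X.hom) := by
    constructor
    intro T₀ α β hαβ
    obtain ⟨a₁, ha₁⟩ : ∃ a₁ : Over.mk (α ≫ X'.ι ≫ X.hom) ⟶ X, a₁.left = α ≫ X'.ι :=
      ⟨Over.homMk (α ≫ X'.ι) (by rw [Category.assoc]; rfl), rfl⟩
    obtain ⟨a₂, ha₂⟩ : ∃ a₂ : Over.mk (α ≫ X'.ι ≫ X.hom) ⟶ X, a₂.left = β ≫ X'.ι :=
      ⟨Over.homMk (β ≫ X'.ι) (by rw [Category.assoc]; exact hαβ.symm), rfl⟩
    have key : a₁ = a₂ := by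
      apply eq_of_forall_translate eG hG a hps
      intro τ z hτ
      rw [ha₁, ha₂, Scheme.Hom.comp_apply, Scheme.Hom.comp_apply] at hτ
      have hm₁ : X'.ι (α τ) ∈ ⋃₀ 𝒟 := by
        rw [← hX', ← Scheme.Opens.range_ι]
        exact ⟨_, rfl⟩
      have hm₂ : X'.ι (β τ) ∈ ⋃₀ 𝒟 := by
        rw [← hX', ← Scheme.Opens.range_ι]
        exact ⟨_, rfl⟩
      obtain ⟨D₁, hD₁, hx₁⟩ := hm₁
      obtain ⟨D₂, hD₂, hx₂⟩ := hm₂
      have hq : X.hom (X'.ι (α τ)) = X.hom (X'.ι (β τ)) := by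
        rw [hτ, hom_az_apply eG a]
      have hDD : D₁ = D₂ := hDuniq D₁ hD₁ D₂ hD₂ _ hx₁ _ hx₂ hq
      subst hDD
      exact eq_one_of_translate_in_component eG hG a hps hloc hZ (hD𝒞 D₁ hD₁) _ _ hx₁ hx₂ z hτ
    have h3 : α ≫ X'.ι = β ≫ X'.ι := by rw [← ha₁, ← ha₂, key]
    exact (cancel_mono X'.ι).1 h3
  haveI : Etale (X'.ι ≫ X.hom) := inferInstance
  haveI : IsOpenImmersion (X'.ι ≫ X.hom) := IsOpenImmersion.of_flat_of_mono _
  haveI : Surjective (X'.ι ≫ X.hom) := ⟨hsurj⟩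
  haveI : IsIso (X'.ι ≫ X.hom) :=
    (isIso_iff_isOpenImmersion_and_surjective _).2 ⟨inferInstance, inferInstance⟩
  refine ⟨inv (X'.ι ≫ X.hom) ≫ X'.ι, ?_⟩
  rw [Category.assoc, IsIso.inv_hom_id]

end OverD

section Main

theorem S8707_main (S : Scheme.{u}) [IrreducibleSpace ↥S]
    (hS : ∀ s : ↥S, CAlg2.IsGeomUnibranch ↑(S.presheaf.stalk s))
    (Z : Type u) [Group Z] (hZ : ∀ z : Z, IsOfFinOrder z → z = 1)
    (P : Scheme.{u}) (f : P ⟶ S) [Smooth f]
    (G : Over P) [GrpObj G] (eG : G ≅ TwC.const P Z) (hG : TwC.IsConstGrp Z G eG)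
    (E : NonAbH1.TorsorSch G Scheme.fppfPrecoverage) :
    NonAbH1.HasSectionOver E.X (𝟙 P) := by
  have hGet : Etale G.hom := by
    have h1 : eG.hom.left ≫ (TwC.const P Z).hom = G.hom := Over.w eG.hom
    haveI : IsIso eG.hom.left := by
      have := (Over.forget P).map_isIso eG.hom
      exact this
    haveI : Etale (TwC.const P Z).hom := Groth.Agent.Helper6.TwCEt.etale_dd P Z
    rw [← h1]
    infer_instance
  have hGs : Surjective G.hom := by
    have h : η[G].left ≫ G.hom = 𝟙 P := Over.w η[G]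
    refine ⟨fun s => ⟨η[G].left s, ?_⟩⟩
    rw [← Scheme.Hom.comp_apply, h]
    rfl
  have hEet : Etale E.X.hom :=
    Groth.Agent.Lib.Helper4.TorsNormal1.torsor_hom_prop @Etale G E.X hGet E.act E.isTorsor
  have hEs : Surjective E.X.hom :=
    Groth.Agent.Lib.Helper4.TorsNormal1.torsor_hom_prop @Surjective G E.X hGs E.act E.isTorsor
  haveI := hEet
  haveI := hEs
  haveI : Smooth (E.X.hom ≫ f) := inferInstance
  have hloc := hloc_smooth (E.X.hom ≫ f) hS
  exact exists_section eG hG E.act E.isTorsor.1 hloc hZ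

end Main

end Groth.Agent.Helper6.ExtRigid
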