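import Mathlib
import Groth.Prelude.Def_NonAbH2
import Groth.Prelude.Def_TwC
import Groth.Prelude.Def_MoreMor
import Groth.Agent.Lib.Helper6.ExtRigid.ER2
import Groth.Agent.Lib.Helper7.GeomConn.SectionComp
import Groth.Agent.Lib.Helper4.SecNbhd5

/-!
# Torsors under a constant group over a smooth morphism with geometrically connected fibres
and a section (S8706)

The torsor `E → P` is étale and separated; the union `U` of the connected components of the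
fibres of `E → S` through the section `e'` is open (S15351).  If the torsor is trivial on every
fibre `P_s`, then `U → P` is étale, surjective and a monomorphism, hence an isomorphism, and its
inverse is the section through `e'`.
-/

set_option autoImplicit false
set_option linter.unusedSectionVars false
set_option linter.unusedVariables false
set_option linter.style.haveILetI false
set_option linter.unusedSimpArgs false
set_option maxHeartbeats 800000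
set_option synthInstance.maxHeartbeats 400000

open CategoryTheory CategoryTheory.Limits MonoidalCategory CartesianMonoidalCategory MonObj
  AlgebraicGeometry

namespace Groth.Agent.Helper6.ExtRigid

universe u

open Groth.Agent.Helper7.GeomConn

section DZ

variable {P : Scheme.{u}} {Z : Type u} [Group Z] {G X : Over P} [GrpObj G]
  (eG : G ≅ TwC.const P Z) (hG : TwC.IsConstGrp Z G eG) (a : AlgGrp.Action G X)
  (hps : IsIso (lift a.act (snd G X)))

/-- The difference of two `T`-points of a pseudo-torsor under a constant group, as a function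
on the points of `T`. -/
noncomputable def dz {T : Over P} (a₁ a₂ : T ⟶ X) (τ : T.left) : Z :=
  idx (((lift a₁ a₂ ≫ inv (lift a.act (snd G X))) ≫ fst G X ≫ eG.hom).left τ)

include hG in
theorem dz_spec {T : Over P} (a₁ a₂ : T ⟶ X) (τ : T.left) :
    a₁.left τ = (az eG a (dz eG a hps a₁ a₂ τ)).left (a₂.left τ) := by
  obtain ⟨m, hm⟩ : ∃ m : T ⟶ G ⊗ X, m = lift a₁ a₂ ≫ inv (lift a.act (snd G X)) := ⟨_, rfl⟩
  have hm1 : m ≫ a.act = a₁ := by
    rw [hm, Category.assoc, inv_shear_act a hps, lift_fst]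
  have hm2 : m ≫ snd G X = a₂ := by
    rw [hm, Category.assoc, inv_shear_snd a hps, lift_snd]
  have h := act_apply_eq_az eG hG a m τ
  rw [hm1, hm2] at h
  unfold dz
  rw [← hm]
  exact h

theorem dz_comp {T T' : Over P} (g : T' ⟶ T) (a₁ a₂ : T ⟶ X) (t : T'.left) :
    dz eG a hps (g ≫ a₁) (g ≫ a₂) t = dz eG a hps a₁ a₂ (g.left t) := by
  have h : lift (g ≫ a₁) (g ≫ a₂) = g ≫ lift a₁ a₂ := (comp_lift g a₁ a₂).symm
  have h2 : (lift (g ≫ a₁) (g ≫ a₂) ≫ inv (lift a.act (snd G X))) ≫ fst G X ≫ eG.hom =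
      g ≫ ((lift a₁ a₂ ≫ inv (lift a.act (snd G X))) ≫ fst G X ≫ eG.hom) := by
    rw [h]
    simp only [Category.assoc]
  unfold dz
  rw [h2, Over.comp_left _ _ _ g _, Scheme.Hom.comp_apply]

include hG in
theorem dz_az {T : Over P} (a₂ : T ⟶ X) (z : Z) (τ : T.left) :
    dz eG a hps (a₂ ≫ az eG a z) a₂ τ = z := by
  have h1 : lift (a₂ ≫ az eG a z) a₂ = a₂ ≫ lift (az eG a z) (𝟙 X) := by
    rw [comp_lift, Category.comp_id]
  have h2 : (lift (a₂ ≫ az eG a z) a₂ ≫ inv (lift a.act (snd G X))) ≫ fst G X ≫ eG.hom =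
      a₂ ≫ lift (az eG a z) (𝟙 X) ≫ (inv (lift a.act (snd G X)) ≫ fst G X ≫ eG.hom) := by
    rw [h1]
    simp only [Category.assoc]
  unfold dz
  rw [h2, Over.comp_left _ _ _ a₂ _, Scheme.Hom.comp_apply,
    Over.comp_left _ _ _ (lift (az eG a z) (𝟙 X)) _, Scheme.Hom.comp_apply]
  exact idx_graph eG hG a hps z (a₂.left τ)

include hG in
theorem eq_of_dz {T : Over P} (a₁ a₂ : T ⟶ X) (z : Z)
    (h : ∀ τ : T.left, dz eG a hps a₁ a₂ τ = z) : a₁ = a₂ ≫ az eG a z := by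
  obtain ⟨m, hm⟩ : ∃ m : T ⟶ G ⊗ X, m = lift a₁ a₂ ≫ inv (lift a.act (snd G X)) := ⟨_, rfl⟩
  have hm1 : m ≫ a.act = a₁ := by
    rw [hm, Category.assoc, inv_shear_act a hps, lift_fst]
  have hm2 : m ≫ snd G X = a₂ := by
    rw [hm, Category.assoc, inv_shear_snd a hps, lift_snd]
  have h1 : (m ≫ fst G X) ≫ eG.hom = toUnit T ≫ TwC.pt P Z z := by
    apply eq_pt_of_idx
    intro τ
    have h0 := h τ
    unfold dz at h0
    rw [← hm] at h0
    rw [Category.assoc]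
    exact h0
  have h3 : m ≫ fst G X = toUnit T ≫ cz eG z := by
    have h' := congrArg (fun k => k ≫ eG.inv) h1
    simp only [Category.assoc, Iso.hom_inv_id, Category.comp_id] at h'
    exact h'
  have h4 : m = lift (m ≫ fst G X) (m ≫ snd G X) := by
    apply CartesianMonoidalCategory.hom_ext
    · rw [lift_fst]
    · rw [lift_snd]
  have h5 : m ≫ a.act = (m ≫ snd G X) ≫ az eG a z := by
    unfold az
    rw [comp_tr, ← h3, ← h4]
  rw [← hm1, h5, hm2]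

theorem isLocallyConstant_dz {T : Over P} (a₁ a₂ : T ⟶ X) :
    IsLocallyConstant (dz eG a hps a₁ a₂) := by
  rw [IsLocallyConstant.iff_isOpen_fiber]
  intro z
  exact (isOpen_idx_fiber z).preimage
    ((lift a₁ a₂ ≫ inv (lift a.act (snd G X))) ≫ fst G X ≫ eG.hom).left.continuous

include hG in
theorem dz_self {T : Over P} (a₂ : T ⟶ X) (τ : T.left) : dz eG a hps a₂ a₂ τ = 1 := by
  have h3 := dz_az eG hG a hps a₂ 1 τ
  rw [az_one eG hG a, Category.comp_id] at h3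
  exact h3

include hG in
theorem eq_of_dz_one {T : Over P} (a₁ a₂ : T ⟶ X)
    (h : ∀ τ : T.left, dz eG a hps a₁ a₂ τ = 1) : a₁ = a₂ := by
  have h1 := eq_of_dz eG hG a hps a₁ a₂ 1 h
  rw [az_one eG hG a, Category.comp_id] at h1
  exact h1

end DZ

section Fib

variable {X' Y' : Scheme.{u}} (f : X' ⟶ Y') (s₀ : Y' ⟶ X') (hs₀ : s₀ ≫ f = 𝟙 Y')

theorem apply_fiberι (y : Y') (w : f.fiber y) : f (f.fiberι y w) = y := by
  have h : f.fiberι y w ∈ f ⁻¹' {y} := by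
    rw [← f.range_fiberι y]
    exact ⟨w, rfl⟩
  exact h

theorem fiber_hom_ext {T' : Scheme.{u}} (y : Y') (c₁ c₂ : T' ⟶ f.fiber y)
    (h1 : c₁ ≫ f.fiberι y = c₂ ≫ f.fiberι y)
    (h2 : c₁ ≫ f.fiberToSpecResidueField y = c₂ ≫ f.fiberToSpecResidueField y) : c₁ = c₂ :=
  pullback.hom_ext h1 h2

theorem mem_sectionComponents_of_fiber (y : Y') (w : f.fiber y)
    (hw : w ∈ connectedComponent (fibrePt f s₀ hs₀ y)) :
    f.fiberι y w ∈ MoreMor.sectionComponents f s₀ := by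
  have hy : f (f.fiberι y w) = y := apply_fiberι f y w
  rw [mem_sectionComponents_iff f s₀ hs₀]
  have key : ∀ (y' : Y') (hy' : y' = y) (w' : f.fiber y'),
      f.fiberι y' w' = f.fiberι y w → w' ∈ connectedComponent (fibrePt f s₀ hs₀ y') := by
    rintro y' rfl w' hw'
    have h1 : w' = w := (f.fiberι y').isEmbedding.injective hw'
    rw [h1]
    exact hw
  exact key _ hy _ (f.fiberι_asFiber _)

theorem exists_fiber_of_mem_sectionComponents (x : X') (hx : x ∈ MoreMor.sectionComponents f s₀) :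
    ∃ (y : Y') (w : f.fiber y), f.fiberι y w = x ∧
      w ∈ connectedComponent (fibrePt f s₀ hs₀ y) :=
  ⟨f x, f.asFiber x, f.fiberι_asFiber x, (mem_sectionComponents_iff f s₀ hs₀ x).1 hx⟩

include hs₀ in
theorem section_mem_sectionComponents (y : Y') : s₀ y ∈ MoreMor.sectionComponents f s₀ := by
  rw [← fiberι_fibrePt f s₀ hs₀ y]
  exact mem_sectionComponents_of_fiber f s₀ hs₀ y _ mem_connectedComponent

include hs₀ in
/-- Openness of the section components for a smooth quasi-separated morphism (no global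
quasi-separatedness of the source). -/
theorem isOpen_sectionComponents_of_qs [Smooth f] [QuasiSeparated f] :
    IsOpen (MoreMor.sectionComponents f s₀) := by
  rw [isOpen_iff_forall_mem_open]
  intro u hu
  obtain ⟨_, ⟨V, hV, rfl⟩, hxV, -⟩ :=
    Y'.isBasis_affineOpens.exists_subset_of_mem_open (Set.mem_univ (f u)) isOpen_univ
  haveI : IsAffine (Scheme.Opens.toScheme V) := hV
  have hc : IsPullback (Scheme.Opens.ι (f ⁻¹ᵁ V)) (f ∣_ V) f (Scheme.Opens.ι V) :=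
    (isPullback_morphismRestrict f V).flip
  obtain ⟨s', hs'⟩ : ∃ s' : Scheme.Opens.toScheme V ⟶ Scheme.Opens.toScheme (f ⁻¹ᵁ V),
      s' ≫ Scheme.Opens.ι (f ⁻¹ᵁ V) = Scheme.Opens.ι V ≫ s₀ := by
    refine ⟨IsOpenImmersion.lift (Scheme.Opens.ι (f ⁻¹ᵁ V)) (Scheme.Opens.ι V ≫ s₀) ?_,
      IsOpenImmersion.lift_fac _ _ _⟩
    rintro _ ⟨v, rfl⟩
    rw [Scheme.Opens.range_ι]
    have h1 : f ((Scheme.Opens.ι V ≫ s₀) v) = (Scheme.Opens.ι V) v := by
      rw [Scheme.Hom.comp_apply, ← Scheme.Hom.comp_apply s₀ f, hs₀]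
      rfl
    show f ((Scheme.Opens.ι V ≫ s₀) v) ∈ (V : Set Y')
    rw [h1]
    exact v.2
  have hs'1 : s' ≫ (f ∣_ V) = 𝟙 _ := by
    rw [← cancel_mono (Scheme.Opens.ι V), Category.assoc, morphismRestrict_ι, ← Category.assoc,
      hs', Category.assoc, hs₀, Category.comp_id, Category.id_comp]
  have hbc := sectionComponents_baseChange f s₀ hs₀ (f ∣_ V) (Scheme.Opens.ι (f ⁻¹ᵁ V))
    (Scheme.Opens.ι V) hc s' hs'1 hs'
  haveI : QuasiSeparated (f ∣_ V) :=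
    MorphismProperty.of_isPullback (P := @QuasiSeparated) hc inferInstance
  haveI : Smooth (f ∣_ V) := MorphismProperty.of_isPullback (P := @Smooth) hc inferInstance
  haveI : QuasiSeparatedSpace ↥(Scheme.Opens.toScheme (f ⁻¹ᵁ V)) :=
    quasiSeparatedSpace_of_quasiSeparated (f ∣_ V)
  have hop := Groth.Agent.Lib.Helper4.SecNbhd5.isOpen_sectionComponents_of_smooth (f ∣_ V) s' hs'1
  rw [hbc] at hop
  refine ⟨Scheme.Opens.ι (f ⁻¹ᵁ V) ''
    (Scheme.Opens.ι (f ⁻¹ᵁ V) ⁻¹' MoreMor.sectionComponents f s₀), ?_, ?_, ?_⟩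
  · rintro _ ⟨w, hw, rfl⟩
    exact hw
  · exact (Scheme.Opens.ι (f ⁻¹ᵁ V)).isOpenEmbedding.isOpenMap _ hop
  · exact ⟨⟨u, hxV⟩, hu, rfl⟩

end Fib

section Main

variable {S P : Scheme.{u}} (p : P ⟶ S) {Z : Type u} [Group Z] {G : Over P} (X : Over P)
  [GrpObj G]

/-- The map from the fibre of `X → S` to the fibre of `P → S`. -/
noncomputable def fibMap (s : S) : (X.hom ≫ p).fiber s ⟶ p.fiber s :=
  pullback.lift ((X.hom ≫ p).fiberι s ≫ X.hom) ((X.hom ≫ p).fiberToSpecResidueField s) (by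
    rw [Category.assoc]
    exact (X.hom ≫ p).fiber_fac s)

theorem fibMap_fiberι (s : S) :
    fibMap p X s ≫ p.fiberι s = (X.hom ≫ p).fiberι s ≫ X.hom :=
  pullback.lift_fst _ _ _

theorem fibMap_toSpec (s : S) :
    fibMap p X s ≫ p.fiberToSpecResidueField s = (X.hom ≫ p).fiberToSpecResidueField s :=
  pullback.lift_snd _ _ _

variable {X}
variable (eG : G ≅ TwC.const P Z) (hG : TwC.IsConstGrp Z G eG) (a : AlgGrp.Action G X)
  (hps : IsIso (lift a.act (snd G X)))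
  (e' : S ⟶ X.left) (he' : e' ≫ X.hom ≫ p = 𝟙 S)

include hG hps in
theorem fibre_data (s : S) (σ : p.fiber s ⟶ X.left) (hσ : σ ≫ X.hom = p.fiberι s) :
    ∃ z₀ : Z,
      (∀ w ∈ connectedComponent (fibrePt (X.hom ≫ p) e' he' s),
        (X.hom ≫ p).fiberι s w = (az eG a z₀).left (σ (fibMap p X s w))) ∧
      (∀ {T' : Scheme.{u}} (b : T' ⟶ (X.hom ≫ p).fiber s),
        (∀ t, b t ∈ connectedComponent (fibrePt (X.hom ≫ p) e' he' s)) →
        b ≫ (X.hom ≫ p).fiberι s = (b ≫ fibMap p X s ≫ σ) ≫ (az eG a z₀).left) := by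
  obtain ⟨A₁, hA₁⟩ : ∃ A₁ : Over.mk ((X.hom ≫ p).fiberι s ≫ X.hom) ⟶ X,
      A₁.left = (X.hom ≫ p).fiberι s := ⟨Over.homMk ((X.hom ≫ p).fiberι s) rfl, rfl⟩
  obtain ⟨A₃, hA₃⟩ : ∃ A₃ : Over.mk ((X.hom ≫ p).fiberι s ≫ X.hom) ⟶ X,
      A₃.left = fibMap p X s ≫ σ :=
    ⟨Over.homMk (fibMap p X s ≫ σ) (by
      show (fibMap p X s ≫ σ) ≫ X.hom = (X.hom ≫ p).fiberι s ≫ X.hom
      rw [Category.assoc, hσ, fibMap_fiberι]), rfl⟩
  have hlc := isLocallyConstant_dz eG a hps A₁ A₃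
  obtain ⟨z₀, hz₀⟩ : ∃ z₀, z₀ = dz eG a hps A₁ A₃ (fibrePt (X.hom ≫ p) e' he' s) := ⟨_, rfl⟩
  have hconst : ∀ w ∈ connectedComponent (fibrePt (X.hom ≫ p) e' he' s),
      dz eG a hps A₁ A₃ w = z₀ := by
    intro w hw
    rw [hz₀]
    exact hlc.apply_eq_of_isPreconnected isPreconnected_connectedComponent hw
      mem_connectedComponent
  refine ⟨z₀, ?_, ?_⟩
  · intro w hw
    have h1 := dz_spec eG hG a hps A₁ A₃ w
    rw [hconst w hw, hA₁, hA₃, Scheme.Hom.comp_apply] at h1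
    exact h1
  · intro T' b hb
    obtain ⟨B, hB⟩ : ∃ B : Over.mk (b ≫ (X.hom ≫ p).fiberι s ≫ X.hom) ⟶
        Over.mk ((X.hom ≫ p).fiberι s ≫ X.hom), B.left = b := ⟨Over.homMk b rfl, rfl⟩
    have h1 : B ≫ A₁ = (B ≫ A₃) ≫ az eG a z₀ := by
      apply eq_of_dz eG hG a hps
      intro t
      rw [dz_comp eG a hps B A₁ A₃ t, hB]
      exact hconst _ (hb t)
    have h2 := congrArg (fun k => k.left) h1
    simp only [Over.comp_left, hA₁, hA₃, hB] at h2
    exact h2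

include hG hps he' in
theorem exists_mem_sectionComponents_over [GeometricallyConnected p]
    (hfib : ∀ s : S, ∃ σ : p.fiber s ⟶ X.left, σ ≫ X.hom = p.fiberι s) (x : P) :
    ∃ u ∈ MoreMor.sectionComponents (X.hom ≫ p) e', X.hom u = x := by
  obtain ⟨s, hs⟩ : ∃ s, s = p x := ⟨_, rfl⟩
  obtain ⟨σ, hσ⟩ := hfib s
  obtain ⟨z₀, hFD1, -⟩ := fibre_data p eG hG a hps e' he' s σ hσ
  obtain ⟨y, hy⟩ : x ∈ Set.range (p.fiberι s) := by
    rw [p.range_fiberι s]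
    exact hs.symm
  obtain ⟨σ', hσ'⟩ : ∃ σ' : p.fiber s ⟶ (X.hom ≫ p).fiber s,
      σ' ≫ (X.hom ≫ p).fiberι s = σ ≫ (az eG a z₀).left := by
    refine ⟨pullback.lift (σ ≫ (az eG a z₀).left) (p.fiberToSpecResidueField s) ?_,
      pullback.lift_fst _ _ _⟩
    have h1 : (az eG a z₀).left ≫ X.hom = X.hom := Over.w (az eG a z₀)
    calc (σ ≫ (az eG a z₀).left) ≫ X.hom ≫ p
        = σ ≫ ((az eG a z₀).left ≫ X.hom) ≫ p := by simp only [Category.assoc]
      _ = (σ ≫ X.hom) ≫ p := by rw [h1, Category.assoc]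
      _ = p.fiberι s ≫ p := by rw [hσ]
      _ = _ := p.fiber_fac s
  have hinj := ((X.hom ≫ p).fiberι s).isEmbedding.injective
  obtain ⟨w₀, hw₀⟩ : ∃ w₀, w₀ = fibrePt (X.hom ≫ p) e' he' s := ⟨_, rfl⟩
  rw [← hw₀] at hFD1
  have hfix : σ' (fibMap p X s w₀) = w₀ := by
    apply hinj
    calc ((X.hom ≫ p).fiberι s) (σ' (fibMap p X s w₀))
        = (σ' ≫ (X.hom ≫ p).fiberι s) (fibMap p X s w₀) := (Scheme.Hom.comp_apply _ _ _).symm
      _ = (σ ≫ (az eG a z₀).left) (fibMap p X s w₀) := by rw [hσ']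
      _ = (az eG a z₀).left (σ (fibMap p X s w₀)) := Scheme.Hom.comp_apply _ _ _
      _ = ((X.hom ≫ p).fiberι s) w₀ := (hFD1 w₀ mem_connectedComponent).symm
  have hpre : _root_.IsPreconnected (Set.range σ') := isPreconnected_range σ'.continuous
  have hsub : Set.range σ' ⊆ connectedComponent w₀ :=
    hpre.subset_connectedComponent ⟨fibMap p X s w₀, hfix⟩
  refine ⟨(X.hom ≫ p).fiberι s (σ' y), ?_, ?_⟩
  · exact mem_sectionComponents_of_fiber (X.hom ≫ p) e' he' s (σ' y)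
      (by rw [← hw₀]; exact hsub ⟨y, rfl⟩)
  · calc X.hom (((X.hom ≫ p).fiberι s) (σ' y))
        = X.hom ((σ' ≫ (X.hom ≫ p).fiberι s) y) := by rw [Scheme.Hom.comp_apply]
      _ = X.hom ((σ ≫ (az eG a z₀).left) y) := by rw [hσ']
      _ = X.hom ((az eG a z₀).left (σ y)) := by rw [Scheme.Hom.comp_apply]
      _ = X.hom (σ y) := hom_az_apply eG a z₀ (σ y)
      _ = (σ ≫ X.hom) y := (Scheme.Hom.comp_apply _ _ _).symm
      _ = x := by rw [hσ, hy]

include hG hps he' in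
theorem eq_of_mem_sectionComponents {T' : Scheme.{u}} (b₁ b₂ : T' ⟶ X.left)
    (hb : b₁ ≫ X.hom = b₂ ≫ X.hom) (s : S) (r : T' ⟶ Spec (S.residueField s))
    (hr : r ≫ S.fromSpecResidueField s = b₁ ≫ X.hom ≫ p)
    (σ : p.fiber s ⟶ X.left) (hσ : σ ≫ X.hom = p.fiberι s)
    (h₁ : ∀ t, b₁ t ∈ MoreMor.sectionComponents (X.hom ≫ p) e')
    (h₂ : ∀ t, b₂ t ∈ MoreMor.sectionComponents (X.hom ≫ p) e') : b₁ = b₂ := by
  obtain ⟨z₀, -, hFD⟩ := fibre_data p eG hG a hps e' he' s σ hσ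
  have hr₂ : r ≫ S.fromSpecResidueField s = b₂ ≫ X.hom ≫ p := by
    rw [hr, ← Category.assoc, hb, Category.assoc]
  obtain ⟨c₁, hc₁ι, hc₁r⟩ : ∃ c₁ : T' ⟶ (X.hom ≫ p).fiber s,
      c₁ ≫ (X.hom ≫ p).fiberι s = b₁ ∧ c₁ ≫ (X.hom ≫ p).fiberToSpecResidueField s = r :=
    ⟨pullback.lift b₁ r hr.symm, pullback.lift_fst _ _ _, pullback.lift_snd _ _ _⟩
  obtain ⟨c₂, hc₂ι, hc₂r⟩ : ∃ c₂ : T' ⟶ (X.hom ≫ p).fiber s,
      c₂ ≫ (X.hom ≫ p).fiberι s = b₂ ∧ c₂ ≫ (X.hom ≫ p).fiberToSpecResidueField s = r :=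
    ⟨pullback.lift b₂ r hr₂.symm, pullback.lift_fst _ _ _, pullback.lift_snd _ _ _⟩
  have hmem : ∀ (c : T' ⟶ (X.hom ≫ p).fiber s) (t : T'),
      (c ≫ (X.hom ≫ p).fiberι s) t ∈ MoreMor.sectionComponents (X.hom ≫ p) e' →
      c t ∈ connectedComponent (fibrePt (X.hom ≫ p) e' he' s) := by
    intro c t ht
    obtain ⟨y, w, hw1, hw2⟩ := exists_fiber_of_mem_sectionComponents (X.hom ≫ p) e' he' _ ht
    have hy : y = s := by
      have h1 : (X.hom ≫ p) (((X.hom ≫ p).fiberι y) w) = y := apply_fiberι _ y w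
      have h2 : (X.hom ≫ p) ((c ≫ (X.hom ≫ p).fiberι s) t) = s := by
        rw [Scheme.Hom.comp_apply c]
        exact apply_fiberι _ s (c t)
      rw [← h1, hw1]
      exact h2
    subst hy
    have h3 : c t = w := by
      apply ((X.hom ≫ p).fiberι y).isEmbedding.injective
      rw [hw1]
      exact (Scheme.Hom.comp_apply _ _ _).symm
    rw [h3]
    exact hw2
  have e₁ := hFD c₁ (fun t => hmem c₁ t (by rw [hc₁ι]; exact h₁ t))
  have e₂ := hFD c₂ (fun t => hmem c₂ t (by rw [hc₂ι]; exact h₂ t))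
  have hπ : c₁ ≫ fibMap p X s = c₂ ≫ fibMap p X s := by
    apply fiber_hom_ext p s
    · rw [Category.assoc, Category.assoc, fibMap_fiberι, ← Category.assoc, ← Category.assoc,
        hc₁ι, hc₂ι, hb]
    · rw [Category.assoc, Category.assoc, fibMap_toSpec, hc₁r, hc₂r]
  rw [← hc₁ι, ← hc₂ι, e₁, e₂, ← Category.assoc c₁, ← Category.assoc c₂, hπ]

include hG hps he' in
theorem exists_section_of_fibres [Smooth p] [QuasiSeparated p] [GeometricallyConnected p]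
    [Etale X.hom] [IsSeparated X.hom]
    (hfib : ∀ s : S, ∃ σ : p.fiber s ⟶ X.left, σ ≫ X.hom = p.fiberι s) :
    ∃ g : P ⟶ X.left, g ≫ X.hom = 𝟙 P ∧ (e' ≫ X.hom) ≫ g = e' := by
  haveI : Smooth (X.hom ≫ p) := inferInstance
  haveI : QuasiSeparated (X.hom ≫ p) := inferInstance
  have hopen := isOpen_sectionComponents_of_qs (X.hom ≫ p) e' he'
  obtain ⟨U', hU'⟩ : ∃ U' : X.left.Opens,
      (U' : Set X.left) = MoreMor.sectionComponents (X.hom ≫ p) e' := ⟨⟨_, hopen⟩, rfl⟩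
  have hrange : Set.range U'.ι = MoreMor.sectionComponents (X.hom ≫ p) e' := by
    rw [Scheme.Opens.range_ι, hU']
  have hsurj : Function.Surjective (U'.ι ≫ X.hom) := by
    intro x
    obtain ⟨u, hu, hux⟩ := exists_mem_sectionComponents_over p eG hG a hps e' he' hfib x
    rw [← hrange] at hu
    obtain ⟨w, hw⟩ := hu
    refine ⟨w, ?_⟩
    rw [Scheme.Hom.comp_apply, hw, hux]
  haveI hmono : Mono (U'.ι ≫ X.hom) := by
    constructor
    intro T₀ α β hαβ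
    obtain ⟨a₁, ha₁⟩ : ∃ a₁ : Over.mk (α ≫ U'.ι ≫ X.hom) ⟶ X, a₁.left = α ≫ U'.ι :=
      ⟨Over.homMk (α ≫ U'.ι) (by rw [Category.assoc]; rfl), rfl⟩
    obtain ⟨a₂, ha₂⟩ : ∃ a₂ : Over.mk (α ≫ U'.ι ≫ X.hom) ⟶ X, a₂.left = β ≫ U'.ι :=
      ⟨Over.homMk (β ≫ U'.ι) (by rw [Category.assoc]; exact hαβ.symm), rfl⟩
    have key : a₁ = a₂ := by
      apply eq_of_dz_one eG hG a hps
      intro τ
      obtain ⟨h, hh⟩ : ∃ h : T₀ ⟶ S, h = α ≫ U'.ι ≫ X.hom ≫ p := ⟨_, rfl⟩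
      obtain ⟨t, ht⟩ : ∃ t : Spec (T₀.residueField τ) ⟶ T₀, t = T₀.fromSpecResidueField τ :=
        ⟨_, rfl⟩
      obtain ⟨pt, hpt⟩ : ∃ pt : ↥(Spec (T₀.residueField τ)), t pt = τ := by
        refine ⟨IsLocalRing.closedPoint (T₀.residueField τ), ?_⟩
        rw [ht]
        exact Scheme.fromSpecResidueField_apply τ _
      obtain ⟨t', ht'⟩ : ∃ t' : Over.mk (t ≫ α ≫ U'.ι ≫ X.hom) ⟶ Over.mk (α ≫ U'.ι ≫ X.hom),
          t'.left = t := ⟨Over.homMk t rfl, rfl⟩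
      have hr : Spec.map (h.residueFieldMap τ) ≫ S.fromSpecResidueField (h τ) =
          (t ≫ α ≫ U'.ι) ≫ X.hom ≫ p := by
        rw [Scheme.Hom.SpecMap_residueFieldMap_fromSpecResidueField h τ, hh, ht]
        simp only [Category.assoc]
      obtain ⟨σ, hσ⟩ := hfib (h τ)
      have hb : (t ≫ α ≫ U'.ι) ≫ X.hom = (t ≫ β ≫ U'.ι) ≫ X.hom := by
        simp only [Category.assoc]
        rw [hαβ]
      have hin : ∀ (γ' : T₀ ⟶ (U' : Scheme.{u})) (t₁ : ↥(Spec (T₀.residueField τ))),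
          (t ≫ γ' ≫ U'.ι) t₁ ∈ MoreMor.sectionComponents (X.hom ≫ p) e' := by
        intro γ' t₁
        rw [← hrange, Scheme.Hom.comp_apply, Scheme.Hom.comp_apply]
        exact ⟨_, rfl⟩
      have hbb : t ≫ α ≫ U'.ι = t ≫ β ≫ U'.ι :=
        eq_of_mem_sectionComponents p eG hG a hps e' he' _ _ hb (h τ) _ hr σ hσ
          (hin α) (hin β)
      have heq : t' ≫ a₁ = t' ≫ a₂ := by
        apply Over.OverMorphism.ext
        rw [Over.comp_left _ _ _ t' a₁, Over.comp_left _ _ _ t' a₂, ha₁, ha₂, ht']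
        exact hbb
      have h5 := dz_comp eG a hps t' a₁ a₂ pt
      rw [ht', hpt] at h5
      have h6 : dz eG a hps (t' ≫ a₂) (t' ≫ a₂) pt = 1 := dz_self eG hG a hps (t' ≫ a₂) pt
      rw [← h5, heq]
      exact h6
    have h3 : α ≫ U'.ι = β ≫ U'.ι := by rw [← ha₁, ← ha₂, key]
    exact (cancel_mono U'.ι).1 h3
  haveI : Etale (U'.ι ≫ X.hom) := inferInstance
  haveI : IsOpenImmersion (U'.ι ≫ X.hom) := IsOpenImmersion.of_flat_of_mono _
  haveI : Surjective (U'.ι ≫ X.hom) := ⟨hsurj⟩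
  haveI : IsIso (U'.ι ≫ X.hom) :=
    (isIso_iff_isOpenImmersion_and_surjective _).2 ⟨inferInstance, inferInstance⟩
  obtain ⟨e'', he''⟩ : ∃ e'' : S ⟶ (U' : Scheme.{u}), e'' ≫ U'.ι = e' := by
    refine ⟨IsOpenImmersion.lift U'.ι e' ?_, IsOpenImmersion.lift_fac _ _ _⟩
    rintro _ ⟨s, rfl⟩
    rw [hrange]
    exact section_mem_sectionComponents (X.hom ≫ p) e' he' s
  refine ⟨inv (U'.ι ≫ X.hom) ≫ U'.ι, ?_, ?_⟩
  · rw [Category.assoc, IsIso.inv_hom_id]
  · calc (e' ≫ X.hom) ≫ inv (U'.ι ≫ X.hom) ≫ U'.ι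
        = e'' ≫ ((U'.ι ≫ X.hom) ≫ inv (U'.ι ≫ X.hom)) ≫ U'.ι := by
          rw [← he'']
          simp only [Category.assoc]
      _ = e'' ≫ U'.ι := by rw [IsIso.hom_inv_id, Category.id_comp]
      _ = e' := he''

include hG hps in
theorem section_unique [GeometricallyConnected p] (e : S ⟶ P) (he : e ≫ p = 𝟙 S)
    (g₁ g₂ : P ⟶ X.left) (hg₁ : g₁ ≫ X.hom = 𝟙 P) (hg₂ : g₂ ≫ X.hom = 𝟙 P)
    (hge : e ≫ g₁ = e ≫ g₂) : g₁ = g₂ := by
  obtain ⟨a₁, ha₁⟩ : ∃ a₁ : Over.mk (𝟙 P) ⟶ X, a₁.left = g₁ := ⟨Over.homMk g₁ hg₁, rfl⟩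
  obtain ⟨a₂, ha₂⟩ : ∃ a₂ : Over.mk (𝟙 P) ⟶ X, a₂.left = g₂ := ⟨Over.homMk g₂ hg₂, rfl⟩
  have key : a₁ = a₂ := by
    apply eq_of_dz_one eG hG a hps
    intro x
    obtain ⟨s, hs⟩ : ∃ s, s = p x := ⟨_, rfl⟩
    have hF : _root_.IsPreconnected (p ⁻¹' {s}) := (p.isConnected_preimage_singleton s).isPreconnected
    have hx : x ∈ p ⁻¹' {s} := hs.symm
    have hes : e s ∈ p ⁻¹' {s} := by
      show p (e s) = s
      rw [← Scheme.Hom.comp_apply, he]
      rfl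
    have h1 : dz eG a hps a₁ a₂ x = dz eG a hps a₁ a₂ (e s) :=
      (isLocallyConstant_dz eG a hps a₁ a₂).apply_eq_of_isPreconnected hF hx hes
    obtain ⟨E', hE'⟩ : ∃ E' : Over.mk e ⟶ Over.mk (𝟙 P), E'.left = e :=
      ⟨Over.homMk e (Category.comp_id _), rfl⟩
    have heq : E' ≫ a₁ = E' ≫ a₂ := by
      apply Over.OverMorphism.ext
      rw [Over.comp_left _ _ _ E' a₁, Over.comp_left _ _ _ E' a₂, ha₁, ha₂, hE']
      exact hge
    have h5 := dz_comp eG a hps E' a₁ a₂ s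
    rw [hE'] at h5
    have h6 : dz eG a hps (E' ≫ a₂) (E' ≫ a₂) s = 1 := dz_self eG hG a hps (E' ≫ a₂) s
    rw [h1, ← h5, heq]
    exact h6
  rw [← ha₁, ← ha₂, key]

end Main

section Final

theorem S8706_main (S P : Scheme.{u}) (p : P ⟶ S)
    [Smooth p] [QuasiCompact p] [QuasiSeparated p] [GeometricallyConnected p]
    (e : S ⟶ P) (he : e ≫ p = 𝟙 S)
    (Z : Type u) [Group Z] (G : Over P) [GrpObj G] (eG : G ≅ TwC.const P Z)
    (hG : TwC.IsConstGrp Z G eG)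
    (E : NonAbH1.TorsorSch G Scheme.fppfPrecoverage)
    (e' : S ⟶ E.X.left) (he' : e' ≫ E.X.hom = e) :
    (NonAbH1.HasSectionOver E.X (𝟙 P) ↔
        ∀ s : ↥S, NonAbH1.HasSectionOver E.X (pullback.fst p (S.fromSpecResidueField s))) ∧
      (NonAbH1.HasSectionOver E.X (𝟙 P) →
        ∃! g : P ⟶ E.X.left, g ≫ E.X.hom = 𝟙 P ∧ e ≫ g = e') := by
  haveI : IsIso eG.hom.left := by
    have := (Over.forget P).map_isIso eG.hom
    exact this
  have h1 : eG.hom.left ≫ (TwC.const P Z).hom = G.hom := Over.w eG.hom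
  have hGet : Etale G.hom := by
    haveI : Etale (TwC.const P Z).hom := Groth.Agent.Helper6.TwCEt.etale_dd P Z
    rw [← h1]
    infer_instance
  have hGsep : IsSeparated G.hom := by
    haveI : IsSeparated (TwC.const P Z).hom := Groth.Agent.Helper6.TwCEt.isSeparated_dd P Z
    rw [← h1]
    infer_instance
  have hEet : Etale E.X.hom :=
    Groth.Agent.Lib.Helper4.TorsNormal1.torsor_hom_prop @Etale G E.X hGet E.act E.isTorsor
  have hEsep : IsSeparated E.X.hom :=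
    Groth.Agent.Lib.Helper4.TorsNormal1.torsor_hom_prop @IsSeparated G E.X hGsep E.act E.isTorsor
  haveI := hEet
  haveI := hEsep
  have he'f : e' ≫ E.X.hom ≫ p = 𝟙 S := by rw [← Category.assoc, he', he]
  have hfwd : NonAbH1.HasSectionOver E.X (𝟙 P) →
      ∀ s : ↥S, NonAbH1.HasSectionOver E.X (pullback.fst p (S.fromSpecResidueField s)) := by
    rintro ⟨σ, hσ⟩ s
    exact ⟨pullback.fst p (S.fromSpecResidueField s) ≫ σ, by
      rw [Category.assoc, hσ, Category.comp_id]⟩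
  have hex : (∀ s : ↥S, NonAbH1.HasSectionOver E.X (pullback.fst p (S.fromSpecResidueField s))) →
      ∃ g : P ⟶ E.X.left, g ≫ E.X.hom = 𝟙 P ∧ e ≫ g = e' := by
    intro h
    have hfib : ∀ s : S, ∃ σ : p.fiber s ⟶ E.X.left, σ ≫ E.X.hom = p.fiberι s := fun s => h s
    obtain ⟨g, hg1, hg2⟩ := exists_section_of_fibres p eG hG E.act E.isTorsor.1 e' he'f hfib
    rw [he'] at hg2
    exact ⟨g, hg1, hg2⟩
  refine ⟨⟨hfwd, fun h => ?_⟩, fun hsec => ?_⟩
  · obtain ⟨g, hg1, -⟩ := hex h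
    exact ⟨g, hg1⟩
  · obtain ⟨g, hg1, hg2⟩ := hex (hfwd hsec)
    refine ⟨g, ⟨hg1, hg2⟩, ?_⟩
    rintro g' ⟨hg'1, hg'2⟩
    exact section_unique p eG hG E.act E.isTorsor.1 e he g' g hg'1 hg1 (hg'2.trans hg2.symm)

end Final

end Groth.Agent.Helper6.ExtRigid
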