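import Mathlib
import Groth.Prelude.Def_NonAbH2
import Groth.Prelude.Def_TwC
import Groth.Agent.Lib.Helper6.ExtRigid.ER3
import Groth.Agent.Lib.Helper4.GrpConn2
import Groth.Agent.Lib.Helper4.GrpIrr3
import Groth.Agent.Lib.Helper4.FlatClosed1

/-!
# Extensions of a connected group scheme locally of finite type over a field by a torsion-free
constant group are rigid and split (S8708)

Let `1 → G → E → P → 1` be an fppf-exact sequence of group schemes over a field `k` with `G = Z_k`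
constant, `Z` torsion free, and `P` connected and locally of finite type.  Then `E → P` is étale
(it is a `G`-torsor), so `E` is locally of finite type and its connected components are open.  The
identity component `E⁰` (a quasi-compact flat closed subgroup scheme) maps to `P` by a flat
quasi-compact morphism which is surjective (the translates of `E⁰` under `Z` cover `E`, because `P` is
irreducible) and a monomorphism (the stabiliser of `E⁰` in `Z` is finite by quasi-compactness of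
`E⁰ ×_P E⁰`, hence trivial), hence an isomorphism.  Its inverse is the splitting, and rigidity
follows because an automorphism as in the statement is the identity on `E⁰` (which is connected)
and commutes with the translations by `Z`.
-/

set_option autoImplicit false
set_option linter.unusedSectionVars false
set_option linter.unusedVariables false
set_option linter.style.haveILetI false
set_option linter.unusedSimpArgs false
set_option maxHeartbeats 800000
set_option synthInstance.maxHeartbeats 400000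

open CategoryTheory CategoryTheory.Limits MonoidalCategory CartesianMonoidalCategory MonObj
  AlgebraicGeometry

namespace Groth.Agent.Helper6.ExtRigid

universe v u

section CatN

variable {C : Type u} [Category.{v} C] [CartesianMonoidalCategory C]
  {E G P : C} [GrpObj E] [GrpObj G] [GrpObj P]
  (u : G ⟶ E) (v : E ⟶ P)

theorem lift_whisker_mulN {T : C} (a : T ⟶ E) (h : T ⟶ G) :
    lift a h ≫ (E ◁ u) ≫ μ[E] = a * (h ≫ u) := by
  rw [← Category.assoc, lift_whiskerLeft, Hom.mul_def]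

/-- Right translation of `E` by the image of a global point of `G`. -/
def rt (c : 𝟙_ C ⟶ G) : E ⟶ E := 𝟙 E * (toUnit E ≫ c ≫ u)

theorem comp_rt {T : C} (x : T ⟶ E) (c : 𝟙_ C ⟶ G) :
    x ≫ rt u c = x * (toUnit T ≫ c ≫ u) := by
  have h1 : x ≫ toUnit E ≫ c ≫ u = toUnit T ≫ c ≫ u := by
    rw [← Category.assoc x (toUnit E) (c ≫ u), comp_toUnit]
  unfold rt
  rw [MonObj.comp_mul, Category.comp_id, h1]

theorem rt_one [IsMonHom u] : rt u (1 : 𝟙_ C ⟶ G) = 𝟙 E := by
  unfold rt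
  rw [MonObj.one_comp u, MonObj.comp_one, _root_.mul_one]

theorem rt_mul [IsMonHom u] (c d : 𝟙_ C ⟶ G) : rt u (c * d) = rt u c ≫ rt u d := by
  rw [comp_rt]
  unfold rt
  rw [MonObj.mul_comp c d u, MonObj.comp_mul, _root_.mul_assoc]

theorem rt_v [IsMonHom v] (huv : u ≫ v = 1) (c : 𝟙_ C ⟶ G) : rt u c ≫ v = v := by
  have h1 : (toUnit E ≫ c ≫ u) ≫ v = 1 := by
    rw [Category.assoc, Category.assoc, huv, MonObj.comp_one, MonObj.comp_one]
  unfold rt
  rw [MonObj.mul_comp (𝟙 E) (toUnit E ≫ c ≫ u) v, h1, Category.id_comp, _root_.mul_one]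

theorem lift_rt {T : C} (a : T ⟶ E) (c : 𝟙_ C ⟶ G) :
    lift a (toUnit T ≫ c) ≫ (E ◁ u) ≫ μ[E] = a ≫ rt u c := by
  rw [lift_whisker_mulN, comp_rt, Category.assoc]

theorem rt_phi (φ : E ⟶ E) [IsMonHom φ] (hφu : u ≫ φ = u) (c : 𝟙_ C ⟶ G) :
    rt u c ≫ φ = φ ≫ rt u c := by
  have h1 : (toUnit E ≫ c ≫ u) ≫ φ = toUnit E ≫ c ≫ u := by
    rw [Category.assoc, Category.assoc, hφu]
  rw [comp_rt]
  unfold rt
  rw [MonObj.mul_comp (𝟙 E) (toUnit E ≫ c ≫ u) φ, h1, Category.id_comp]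

theorem comp_phiN (gam : E ⟶ G) (φ : E ⟶ E) (hφ : φ = 𝟙 E * (gam ≫ u)) {T : C} (x : T ⟶ E) :
    x ≫ φ = x * (x ≫ gam ≫ u) := by
  rw [hφ, MonObj.comp_mul, Category.comp_id]

variable (hpb : IsPullback (fst E G) ((E ◁ u) ≫ μ[E]) v v)

include hpb in
theorem snd_of_rt {T : C} (m : T ⟶ E ⊗ G) (c : 𝟙_ C ⟶ G)
    (hm : m ≫ (E ◁ u) ≫ μ[E] = (m ≫ fst E G) ≫ rt u c) : m ≫ snd E G = toUnit T ≫ c := by
  have h1 : m = lift (m ≫ fst E G) (toUnit T ≫ c) := by
    apply hpb.hom_ext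
    · rw [lift_fst]
    · rw [lift_rt, hm]
  calc m ≫ snd E G = lift (m ≫ fst E G) (toUnit T ≫ c) ≫ snd E G := by rw [← h1]
    _ = toUnit T ≫ c := lift_snd _ _

include hpb in
theorem u_cancelN {T : C} (a b : T ⟶ G) (h : a ≫ u = b ≫ u) : a = b := by
  have h1 : lift (1 : T ⟶ E) a = lift (1 : T ⟶ E) b := by
    apply hpb.hom_ext
    · rw [lift_fst, lift_fst]
    · rw [lift_whisker_mulN, lift_whisker_mulN, h]
  have h2 : lift (1 : T ⟶ E) a ≫ snd E G = lift (1 : T ⟶ E) b ≫ snd E G := by rw [h1]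
  rwa [lift_snd, lift_snd] at h2

include hpb in
theorem exists_gammaN (φ : E ⟶ E) (hφv : φ ≫ v = v) :
    ∃ gam : E ⟶ G, φ = 𝟙 E * (gam ≫ u) := by
  have hc : 𝟙 E ≫ v = φ ≫ v := by rw [Category.id_comp, hφv]
  obtain ⟨w, hw1, hw2⟩ : ∃ w : E ⟶ E ⊗ G, w ≫ fst E G = 𝟙 E ∧ w ≫ (E ◁ u) ≫ μ[E] = φ :=
    ⟨hpb.lift (𝟙 E) φ hc, hpb.lift_fst _ _ _, hpb.lift_snd _ _ _⟩
  refine ⟨w ≫ snd E G, ?_⟩
  have h1 : w = lift (𝟙 E) (w ≫ snd E G) := by
    apply CartesianMonoidalCategory.hom_ext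
    · rw [lift_fst, hw1]
    · rw [lift_snd]
  have h2 : lift (𝟙 E) (w ≫ snd E G) ≫ (E ◁ u) ≫ μ[E] = φ := by
    rw [← h1]; exact hw2
  rw [lift_whisker_mulN] at h2
  exact h2.symm

include hpb in
theorem gam_of_fixed [IsMonHom u] (gam : E ⟶ G) (φ : E ⟶ E) (hφ : φ = 𝟙 E * (gam ≫ u))
    {T : C} (x : T ⟶ E) (hx : x ≫ φ = x) : x ≫ gam = 1 := by
  have h1 : x * (x ≫ gam ≫ u) = x * 1 := by
    rw [← comp_phiN u gam φ hφ x, hx, _root_.mul_one]
  have h2 : x ≫ gam ≫ u = 1 := mul_left_cancel h1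
  apply u_cancelN u v hpb
  rw [Category.assoc, h2, MonObj.one_comp u]

end CatN

section SchN

variable {S : Scheme.{u}} {Z : Type u} [Group Z] {E G P : Over S} [GrpObj E] [GrpObj G] [GrpObj P]
  (eG : G ≅ TwC.const S Z) (hG : TwC.IsConstGrp Z G eG) (u : G ⟶ E) (v : E ⟶ P)

/-- Right translation of `E` by the point of index `z` of the constant group. -/
noncomputable def rz (z : Z) : E ⟶ E := rt u (cz eG z)

include hG in
theorem rz_one [IsMonHom u] : rz eG u (1 : Z) = 𝟙 E := by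
  unfold rz
  rw [cz_one eG hG]
  exact rt_one u

include hG in
theorem rz_mul [IsMonHom u] (z w : Z) : rz eG u (z * w) = rz eG u z ≫ rz eG u w := by
  unfold rz
  rw [← cz_mul eG hG z w]
  exact rt_mul u _ _

include hG in
theorem rz_mul_apply [IsMonHom u] (z w : Z) (x : E.left) :
    (rz eG u (z * w)).left x = (rz eG u w).left ((rz eG u z).left x) := by
  rw [rz_mul eG hG u z w, Over.comp_left, Scheme.Hom.comp_apply]

include hG in
theorem rz_one_apply [IsMonHom u] (x : E.left) : (rz eG u (1 : Z)).left x = x := by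
  rw [rz_one eG hG u]
  rfl

include hG in
theorem rz_inv_apply [IsMonHom u] (z : Z) (x : E.left) :
    (rz eG u z⁻¹).left ((rz eG u z).left x) = x := by
  rw [← rz_mul_apply eG hG u, mul_inv_cancel, rz_one_apply eG hG u]

include hG in
theorem rz_apply_inv [IsMonHom u] (z : Z) (x : E.left) :
    (rz eG u z).left ((rz eG u z⁻¹).left x) = x := by
  rw [← rz_mul_apply eG hG u, inv_mul_cancel, rz_one_apply eG hG u]

theorem rz_v [IsMonHom v] (huv : u ≫ v = 1) (z : Z) : rz eG u z ≫ v = v := rt_v u v huv _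

theorem rz_v_apply [IsMonHom v] (huv : u ≫ v = 1) (z : Z) (x : E.left) :
    v.left ((rz eG u z).left x) = v.left x := by
  rw [← Scheme.Hom.comp_apply, ← Over.comp_left, rz_v eG u v huv z]

theorem rz_phi (φ : E ⟶ E) [IsMonHom φ] (hφu : u ≫ φ = u) (z : Z) :
    rz eG u z ≫ φ = φ ≫ rz eG u z := rt_phi u φ hφu _

theorem idx_cz {T : Over S} (z : Z) (τ : T.left) :
    idx (((toUnit T ≫ cz eG z) ≫ eG.hom).left τ) = z := by
  have h2 : (toUnit T ≫ cz eG z) ≫ eG.hom = toUnit T ≫ TwC.pt S Z z := by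
    unfold cz
    simp only [Category.assoc, Iso.inv_hom_id, Category.comp_id]
  rw [h2]
  have h7 : (toUnit T ≫ TwC.pt S Z z).left τ = (Sigma.ι (fun _ : Z => S) z) (T.hom τ) := by
    rw [Over.comp_left, Over.toUnit_left, Scheme.Hom.comp_apply]; rfl
  exact (idx_eq_iff _ _).2 ⟨T.hom τ, h7.symm⟩

include hG in
theorem ract_apply {T : Over S} (m : T ⟶ E ⊗ G) (τ : T.left) :
    (m ≫ (E ◁ u) ≫ μ[E]).left τ =
      (rz eG u (idx ((m ≫ snd E G ≫ eG.hom).left τ))).left ((m ≫ fst E G).left τ) := by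
  obtain ⟨z, hz⟩ : ∃ z, idx ((m ≫ snd E G ≫ eG.hom).left τ) = z := ⟨_, rfl⟩
  rw [hz]
  let U : T.left.Opens := ⟨(fun t : T.left => idx ((m ≫ snd E G ≫ eG.hom).left t)) ⁻¹' {z},
    (isOpen_idx_fiber z).preimage (m ≫ snd E G ≫ eG.hom).left.continuous⟩
  obtain ⟨T', ι', τ', hτ', hall⟩ : ∃ (T' : Over S) (ι' : T' ⟶ T) (τ' : T'.left),
      ι'.left τ' = τ ∧ ∀ t : T'.left, idx ((m ≫ snd E G ≫ eG.hom).left (ι'.left t)) = z := by
    refine ⟨Over.mk (U.ι ≫ T.hom), Over.homMk U.ι rfl, (⟨τ, hz⟩ : U), rfl, ?_⟩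
    intro t
    exact t.2
  have h1 : (ι' ≫ m ≫ snd E G) ≫ eG.hom = toUnit T' ≫ TwC.pt S Z z := by
    apply eq_pt_of_idx
    intro t
    have h2 : ((ι' ≫ m ≫ snd E G) ≫ eG.hom).left t =
        (m ≫ snd E G ≫ eG.hom).left (ι'.left t) := by
      rw [Category.assoc, Category.assoc, Over.comp_left _ _ _ ι' (m ≫ snd E G ≫ eG.hom),
        Scheme.Hom.comp_apply]
    rw [h2]
    exact hall t
  have h3 : ι' ≫ m ≫ snd E G = toUnit T' ≫ cz eG z := by
    have h := congrArg (fun k => k ≫ eG.inv) h1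
    simp only [Category.assoc, Iso.hom_inv_id, Category.comp_id] at h
    exact h
  have h4 : ι' ≫ m = lift (ι' ≫ m ≫ fst E G) (ι' ≫ m ≫ snd E G) := by
    apply CartesianMonoidalCategory.hom_ext
    · rw [lift_fst, Category.assoc]
    · rw [lift_snd, Category.assoc]
  have h5 : ι' ≫ m ≫ (E ◁ u) ≫ μ[E] = (ι' ≫ m ≫ fst E G) ≫ rz eG u z := by
    unfold rz
    rw [← lift_rt u (ι' ≫ m ≫ fst E G) (cz eG z), ← h3, ← h4, Category.assoc]
  have hL : (ι' ≫ m ≫ (E ◁ u) ≫ μ[E]).left τ' = (m ≫ (E ◁ u) ≫ μ[E]).left τ := by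
    rw [Over.comp_left _ _ _ ι' (m ≫ (E ◁ u) ≫ μ[E]), Scheme.Hom.comp_apply, hτ']
  have hR : ((ι' ≫ m ≫ fst E G) ≫ rz eG u z).left τ' =
      (rz eG u z).left ((m ≫ fst E G).left τ) := by
    rw [Over.comp_left _ _ _ (ι' ≫ m ≫ fst E G) (rz eG u z), Scheme.Hom.comp_apply,
      Over.comp_left _ _ _ ι' (m ≫ fst E G), Scheme.Hom.comp_apply, hτ']
  rw [← hL, ← hR]
  exact congrArg (fun k => k.left τ') h5

theorem ract_eq_of_idx {T : Over S} (m : T ⟶ E ⊗ G) (z : Z)
    (h : ∀ τ : T.left, idx ((m ≫ snd E G ≫ eG.hom).left τ) = z) :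
    m ≫ (E ◁ u) ≫ μ[E] = (m ≫ fst E G) ≫ rz eG u z := by
  have h1 : (m ≫ snd E G) ≫ eG.hom = toUnit T ≫ TwC.pt S Z z := by
    apply eq_pt_of_idx
    intro τ
    rw [Category.assoc]
    exact h τ
  have h3 : m ≫ snd E G = toUnit T ≫ cz eG z := by
    have h' := congrArg (fun k => k ≫ eG.inv) h1
    simp only [Category.assoc, Iso.hom_inv_id, Category.comp_id] at h'
    exact h'
  have h4 : m = lift (m ≫ fst E G) (m ≫ snd E G) := by
    apply CartesianMonoidalCategory.hom_ext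
    · rw [lift_fst]
    · rw [lift_snd]
  unfold rz
  rw [← lift_rt u (m ≫ fst E G) (cz eG z), ← h3, ← h4]

theorem idx_of_rz (hpb : IsPullback (fst E G) ((E ◁ u) ≫ μ[E]) v v) {T : Over S}
    (m : T ⟶ E ⊗ G) (z : Z)
    (hm : m ≫ (E ◁ u) ≫ μ[E] = (m ≫ fst E G) ≫ rz eG u z) (τ : T.left) :
    idx ((m ≫ snd E G ≫ eG.hom).left τ) = z := by
  have h1 : m ≫ snd E G = toUnit T ≫ cz eG z := snd_of_rt u v hpb m (cz eG z) hm
  have h2 : m ≫ snd E G ≫ eG.hom = (toUnit T ≫ cz eG z) ≫ eG.hom := by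
    rw [← Category.assoc, h1]
  rw [h2]
  exact idx_cz eG z τ

include hG in
theorem exists_rz_of_v_eq (hpb : IsPullback (fst E G) ((E ◁ u) ≫ μ[E]) v v)
    (x₁ x₂ : E.left) (h : v.left x₁ = v.left x₂) :
    ∃ z : Z, x₁ = (rz eG u z).left x₂ := by
  have hpbS : IsPullback (fst E G).left ((E ◁ u) ≫ μ[E]).left v.left v.left :=
    hpb.map (Over.forget _)
  obtain ⟨t, ht1, ht2⟩ :=
    Scheme.Pullback.exists_preimage_pullback (f := v.left) (g := v.left) x₂ x₁ h.symm
  have h1 : (fst E G).left (hpbS.isoPullback.inv t) = x₂ := by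
    rw [← Scheme.Hom.comp_apply, hpbS.isoPullback_inv_fst]; exact ht1
  have h2 : ((E ◁ u) ≫ μ[E]).left (hpbS.isoPullback.inv t) = x₁ := by
    rw [← Scheme.Hom.comp_apply, hpbS.isoPullback_inv_snd]; exact ht2
  have h3 := ract_apply eG hG u (𝟙 (E ⊗ G)) (hpbS.isoPullback.inv t)
  simp only [Category.id_comp] at h3
  rw [h1, h2] at h3
  exact ⟨_, h3⟩

end SchN

section FieldN

open Groth.Agent.Lib.Helper4.GrpIrr1 Groth.Agent.Lib.Helper4.GrpConn1
  Groth.Agent.Lib.Helper4.GrpIrr3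

variable {k : Type u} [Field k] {Z : Type u} [Group Z]
  {P E G : Over (Spec (CommRingCat.of k))} [GrpObj P] [GrpObj E] [GrpObj G]
  (eG : G ≅ TwC.const (Spec (CommRingCat.of k)) Z) (hG : TwC.IsConstGrp Z G eG)
  (u : G ⟶ E) (v : E ⟶ P)

include eG in
theorem etale_v (hpb : IsPullback (fst E G) ((E ◁ u) ≫ μ[E]) v v)
    (hloc : NonAbH1.IsLocallyTrivialFor Scheme.fppfPrecoverage (Over.mk v.left : Over P.left)) :
    Etale v.left := by
  haveI : IsIso eG.hom.left := by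
    have := (Over.forget (Spec (CommRingCat.of k))).map_isIso eG.hom
    exact this
  have h1 : eG.hom.left ≫ (TwC.const (Spec (CommRingCat.of k)) Z).hom = G.hom := Over.w eG.hom
  have hGet : Etale G.hom := by
    haveI : Etale (TwC.const (Spec (CommRingCat.of k)) Z).hom :=
      Groth.Agent.Helper6.TwCEt.etale_dd (Spec (CommRingCat.of k)) Z
    rw [← h1]
    infer_instance
  have hpbS : IsPullback (fst E G).left ((E ◁ u) ≫ μ[E]).left v.left v.left :=
    hpb.map (Over.forget _)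
  have hfstG : Etale (fst E G).left := by
    show Etale (pullback.fst E.hom G.hom)
    exact MorphismProperty.pullback_fst (P := @Etale) E.hom G.hom hGet
  have hfst : Etale (pullback.fst v.left v.left) := by
    have e2 : pullback.fst v.left v.left = hpbS.isoPullback.inv ≫ (fst E G).left := by
      rw [hpbS.isoPullback_inv_fst]
    rw [e2]
    infer_instance
  have hsnd : Etale (pullback.snd v.left v.left) := by
    have e3 : pullback.snd v.left v.left =
        (pullbackSymmetry v.left v.left).hom ≫ pullback.fst v.left v.left :=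
      (pullbackSymmetry_hom_comp_fst _ _).symm
    rw [e3]
    infer_instance
  obtain ⟨R, hR, hsec⟩ := hloc
  apply MorphismProperty.IsLocalAtTarget.of_forall_pullbackSnd (P := @Etale)
    (K := Scheme.fppfPrecoverage) hR
  intro U g _ hg
  obtain ⟨s, hs⟩ := hsec g hg
  have hs' : s ≫ v.left = g := hs
  let l : pullback v.left g ⟶ pullback v.left v.left :=
    pullback.lift (pullback.fst v.left g) (pullback.snd v.left g ≫ s) (by
      rw [Category.assoc, hs', pullback.condition])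
  have sq : IsPullback l (pullback.snd v.left g) (pullback.snd v.left v.left) s := by
    refine IsPullback.of_right ?_ (pullback.lift_snd _ _ _)
      (IsPullback.of_hasPullback v.left v.left)
    have : l ≫ pullback.fst v.left v.left = pullback.fst v.left g := pullback.lift_fst _ _ _
    rw [this, hs']
    exact IsPullback.of_hasPullback v.left g
  exact MorphismProperty.of_isPullback sq hsnd

theorem surjective_v
    (hloc : NonAbH1.IsLocallyTrivialFor Scheme.fppfPrecoverage (Over.mk v.left : Over P.left)) :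
    Function.Surjective v.left := by
  obtain ⟨R, hR, hsec⟩ := hloc
  have hR' : R ∈ Scheme.precoverage (@Flat ⊓ @LocallyOfFinitePresentation) P.left := hR
  intro p
  obtain ⟨Y, f, hRf, hx⟩ :=
    (Presieve.mem_comap_jointlySurjectivePrecoverage_iff _).mp hR'.1 p
  obtain ⟨t, ht⟩ := hx
  obtain ⟨s, hs⟩ := hsec f hRf
  have hs' : s ≫ v.left = f := hs
  refine ⟨s t, ?_⟩
  rw [← Scheme.Hom.comp_apply, hs']
  exact ht

theorem exists_lift_i {G₀ T' : Over (Spec (CommRingCat.of k))} (i : G₀ ⟶ E)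
    [IsClosedImmersion i.left] [Flat i.left] (f : T' ⟶ E)
    (h : Set.range f.left ⊆ Set.range i.left) : ∃ f' : T' ⟶ G₀, f' ≫ i = f := by
  obtain ⟨f', hf'⟩ :=
    Groth.Agent.Lib.Helper4.FlatClosed1.exists_lift_of_flat_closedImmersion i.left f.left h
  refine ⟨Over.homMk f' ?_, ?_⟩
  · rw [← Over.w i, ← Category.assoc, hf']
    exact Over.w f
  · ext
    exact hf'

theorem rz_maps_Z0 (z : Z) (y : E.left) (hy : y ∈ Z0 E) (hzy : (rz eG u z).left y ∈ Z0 E) :
    ∀ y' ∈ Z0 E, (rz eG u z).left y' ∈ Z0 E := by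
  intro y' hy'
  have himg : _root_.IsPreconnected ((rz eG u z).left '' Z0 E) := by
    rw [← connectedComponent_ept (G := E)]
    exact isPreconnected_connectedComponent.image _ (rz eG u z).left.continuous.continuousOn
  have hsub := himg.subset_connectedComponent
    (show (rz eG u z).left y ∈ (rz eG u z).left '' Z0 E from ⟨y, hy, rfl⟩)
  have h1 : connectedComponent ((rz eG u z).left y) = Z0 E := by
    rw [← connectedComponent_ept (G := E)] at hzy ⊢
    exact (connectedComponent_eq hzy).symm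
  rw [h1] at hsub
  exact hsub ⟨y', hy', rfl⟩

include hG in
theorem coset_decomp [LocallyOfFiniteType E.hom] [IrreducibleSpace P.left] [IsMonHom u]
    (hpb : IsPullback (fst E G) ((E ◁ u) ≫ μ[E]) v v) (hopen : IsOpenMap v.left) (x : E.left) :
    ∃ (z : Z) (x₀ : E.left), x₀ ∈ Z0 E ∧ (rz eG u z).left x₀ = x := by
  have hCopen : IsOpen (connectedComponent x) := by
    rw [connectedComponent_eq_irreducibleComponent E x]
    exact isOpen_irreducibleComponent E x
  have h0open : IsOpen (Z0 E) := isOpen_irreducibleComponent E (ept E)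
  have hA : IsOpen (v.left '' connectedComponent x) := hopen _ hCopen
  have hB : IsOpen (v.left '' Z0 E) := hopen _ h0open
  have hAne : (v.left '' connectedComponent x).Nonempty :=
    ⟨_, x, mem_connectedComponent, rfl⟩
  have hBne : (v.left '' Z0 E).Nonempty := ⟨_, ept E, ept_mem_Z0 E, rfl⟩
  obtain ⟨p, ⟨y, hyC, hy⟩, ⟨y₀, hy₀, hy₀p⟩⟩ := nonempty_preirreducible_inter hA hB hAne hBne
  obtain ⟨z, hz⟩ := exists_rz_of_v_eq eG hG u v hpb y y₀ (hy.trans hy₀p.symm)
  refine ⟨z, (rz eG u z⁻¹).left x, ?_, rz_apply_inv eG hG u z x⟩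
  have himg : _root_.IsPreconnected ((rz eG u z⁻¹).left '' connectedComponent x) :=
    isPreconnected_connectedComponent.image _ (rz eG u z⁻¹).left.continuous.continuousOn
  have hy₀mem : y₀ ∈ (rz eG u z⁻¹).left '' connectedComponent x :=
    ⟨y, hyC, by rw [hz, rz_inv_apply eG hG u]⟩
  have hsub := himg.subset_connectedComponent hy₀mem
  have h1 : connectedComponent y₀ = Z0 E := by
    rw [← connectedComponent_ept (G := E)] at hy₀ ⊢
    exact (connectedComponent_eq hy₀).symm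
  rw [h1] at hsub
  exact hsub ⟨x, mem_connectedComponent, rfl⟩

include hG in
theorem finite_stab [IsMonHom u] [IsMonHom v] (huv : u ≫ v = 1)
    (hpb : IsPullback (fst E G) ((E ◁ u) ≫ μ[E]) v v)
    (G₀ : Over (Spec (CommRingCat.of k))) [GrpObj G₀] (i : G₀ ⟶ E) [IsMonHom i]
    [IsClosedImmersion i.left] [Flat i.left] (hrange : Set.range i.left = Z0 E)
    [CompactSpace G₀.left] :
    {w : Z | ∀ y ∈ Z0 E, (rz eG u w).left y ∈ Z0 E}.Finite := by
  obtain ⟨j, hj⟩ : ∃ j : G₀ ⟶ P, j = i ≫ v := ⟨_, rfl⟩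
  haveI : QuasiSeparatedSpace P.left := inferInstance
  haveI : QuasiCompact j.left := inferInstance
  haveI hWc : CompactSpace ↥(pullback j.left j.left) := inferInstance
  obtain ⟨a₁, ha₁⟩ : ∃ a₁ : Over.mk (pullback.fst j.left j.left ≫ G₀.hom) ⟶ G₀,
      a₁.left = pullback.fst j.left j.left := ⟨Over.homMk (pullback.fst j.left j.left) rfl, rfl⟩
  have hcond : pullback.snd j.left j.left ≫ G₀.hom = pullback.fst j.left j.left ≫ G₀.hom := by
    have hw : j.left ≫ P.hom = G₀.hom := Over.w j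
    rw [← hw, ← Category.assoc, ← Category.assoc, pullback.condition]
  obtain ⟨a₂, ha₂⟩ : ∃ a₂ : Over.mk (pullback.fst j.left j.left ≫ G₀.hom) ⟶ G₀,
      a₂.left = pullback.snd j.left j.left :=
    ⟨Over.homMk (pullback.snd j.left j.left) hcond, rfl⟩
  have h12 : a₁ ≫ j = a₂ ≫ j := by
    apply Over.OverMorphism.ext
    rw [Over.comp_left _ _ _ a₁ j, Over.comp_left _ _ _ a₂ j, ha₁, ha₂]
    exact pullback.condition
  have hc : (a₂ ≫ i) ≫ v = (a₁ ≫ i) ≫ v := by
    rw [Category.assoc, Category.assoc, ← hj, h12]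
  obtain ⟨m, hm1, hm2⟩ : ∃ m : Over.mk (pullback.fst j.left j.left ≫ G₀.hom) ⟶ E ⊗ G,
      m ≫ fst E G = a₂ ≫ i ∧ m ≫ (E ◁ u) ≫ μ[E] = a₁ ≫ i :=
    ⟨hpb.lift (a₂ ≫ i) (a₁ ≫ i) hc, hpb.lift_fst _ _ _, hpb.lift_snd _ _ _⟩
  obtain ⟨c, hc_def⟩ : ∃ c : ↥(pullback j.left j.left) → Z,
      ∀ τ, c τ = idx ((m ≫ snd E G ≫ eG.hom).left τ) := ⟨_, fun _ => rfl⟩
  have hlc : IsLocallyConstant c := by
    rw [IsLocallyConstant.iff_isOpen_fiber]
    intro z
    have h : c ⁻¹' {z} = (m ≫ snd E G ≫ eG.hom).left ⁻¹' (idx ⁻¹' {z}) := by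
      ext τ
      simp only [Set.mem_preimage, Set.mem_singleton_iff, hc_def]
    rw [h]
    exact (isOpen_idx_fiber z).preimage (m ≫ snd E G ≫ eG.hom).left.continuous
  have hfin := hlc.range_finite
  refine hfin.subset ?_
  intro w hw
  have hw' : ∀ y ∈ Z0 E, (rz eG u w).left y ∈ Z0 E := hw
  obtain ⟨pt⟩ : Nonempty ↥(𝟙_ (Over (Spec (CommRingCat.of k)))).left :=
    ⟨IsLocalRing.closedPoint k⟩
  obtain ⟨b₁, hb₁⟩ : ∃ b₁ : 𝟙_ (Over (Spec (CommRingCat.of k))) ⟶ G₀,
      b₁ ≫ i = η[E] ≫ rz eG u w := by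
    apply exists_lift_i i
    rintro _ ⟨t, rfl⟩
    rw [hrange, Over.comp_left, Scheme.Hom.comp_apply, eta_apply]
    exact hw' _ (ept_mem_Z0 E)
  have hb : b₁ ≫ j = η[G₀] ≫ j := by
    have e1 : b₁ ≫ i ≫ v = η[E] ≫ v := by
      rw [← Category.assoc, hb₁, Category.assoc, rz_v eG u v huv w]
    have e2 : η[G₀] ≫ i ≫ v = η[E] ≫ v := by
      rw [← Category.assoc, IsMonHom.one_hom i]
    rw [hj, e1, e2]
  obtain ⟨q, hq1, hq2⟩ : ∃ q : (𝟙_ (Over (Spec (CommRingCat.of k)))).left ⟶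
      pullback j.left j.left,
      q ≫ pullback.fst j.left j.left = b₁.left ∧
        q ≫ pullback.snd j.left j.left = (η[G₀]).left := by
    have hc' : b₁.left ≫ j.left = (η[G₀]).left ≫ j.left := by
      rw [← Over.comp_left, ← Over.comp_left, hb]
    exact ⟨pullback.lift b₁.left (η[G₀]).left hc', pullback.lift_fst _ _ _,
      pullback.lift_snd _ _ _⟩
  obtain ⟨Q, hQ⟩ : ∃ Q : 𝟙_ (Over (Spec (CommRingCat.of k))) ⟶
      Over.mk (pullback.fst j.left j.left ≫ G₀.hom), Q.left = q := by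
    refine ⟨Over.homMk q ?_, rfl⟩
    show q ≫ pullback.fst j.left j.left ≫ G₀.hom = _
    rw [← Category.assoc, hq1]
    exact Over.w b₁
  have hQ1 : Q ≫ a₁ = b₁ := by
    apply Over.OverMorphism.ext
    rw [Over.comp_left _ _ _ Q a₁, hQ, ha₁, hq1]
  have hQ2 : Q ≫ a₂ = η[G₀] := by
    apply Over.OverMorphism.ext
    rw [Over.comp_left _ _ _ Q a₂, hQ, ha₂, hq2]
  have hL : (Q ≫ m) ≫ (E ◁ u) ≫ μ[E] = η[E] ≫ rz eG u w := by
    rw [Category.assoc, hm2, ← Category.assoc, hQ1, hb₁]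
  have hR : (Q ≫ m) ≫ fst E G = η[E] := by
    rw [Category.assoc, hm1, ← Category.assoc, hQ2, IsMonHom.one_hom i]
  have hm' : (Q ≫ m) ≫ (E ◁ u) ≫ μ[E] = ((Q ≫ m) ≫ fst E G) ≫ rz eG u w := by
    rw [hL, hR]
  have hidx := idx_of_rz eG u v hpb (Q ≫ m) w hm' pt
  refine ⟨q pt, ?_⟩
  rw [hc_def]
  have h9 : ((Q ≫ m) ≫ snd E G ≫ eG.hom).left pt = (m ≫ snd E G ≫ eG.hom).left (q pt) := by
    rw [Category.assoc, Over.comp_left _ _ _ Q (m ≫ snd E G ≫ eG.hom), Scheme.Hom.comp_apply, hQ]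
  rw [← h9]
  exact hidx

include hG in
theorem stab_eq_one (hZ : ∀ z : Z, IsOfFinOrder z → z = 1) [IsMonHom u] [IsMonHom v]
    (huv : u ≫ v = 1) (hpb : IsPullback (fst E G) ((E ◁ u) ≫ μ[E]) v v)
    (G₀ : Over (Spec (CommRingCat.of k))) [GrpObj G₀] (i : G₀ ⟶ E) [IsMonHom i]
    [IsClosedImmersion i.left] [Flat i.left] (hrange : Set.range i.left = Z0 E)
    [CompactSpace G₀.left]
    (z : Z) (y : E.left) (hy : y ∈ Z0 E) (hzy : (rz eG u z).left y ∈ Z0 E) : z = 1 := by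
  have hfin := finite_stab eG hG u v huv hpb G₀ i hrange
  have hQ1 : ∀ y' ∈ Z0 E, (rz eG u z).left y' ∈ Z0 E := rz_maps_Z0 eG u z y hy hzy
  have hQn : ∀ n : ℕ, ∀ y' ∈ Z0 E, (rz eG u (z ^ n)).left y' ∈ Z0 E := by
    intro n
    induction n with
    | zero =>
      intro y' hy'
      rw [pow_zero, rz_one_apply eG hG u]
      exact hy'
    | succ n ih =>
      intro y' hy'
      rw [pow_succ, rz_mul_apply eG hG u]
      exact hQ1 _ (ih y' hy')
  apply hZ
  by_contra hn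
  have hinj := injective_pow_iff_not_isOfFinOrder.2 hn
  obtain ⟨a, b, hab, heq⟩ := Set.Finite.exists_lt_map_eq_of_forall_mem
    (f := fun n : ℕ => z ^ n) (t := {w : Z | ∀ y ∈ Z0 E, (rz eG u w).left y ∈ Z0 E})
    (fun n => hQn n) hfin
  exact (ne_of_lt hab) (hinj heq)

include hG in
theorem isIso_comp_v (hZ : ∀ z : Z, IsOfFinOrder z → z = 1) [IsMonHom u] [IsMonHom v]
    [LocallyOfFiniteType E.hom] [IrreducibleSpace P.left] [Etale v.left]
    (huv : u ≫ v = 1) (hpb : IsPullback (fst E G) ((E ◁ u) ≫ μ[E]) v v)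
    (hsurj : Function.Surjective v.left)
    (G₀ : Over (Spec (CommRingCat.of k))) [GrpObj G₀] (i : G₀ ⟶ E) [IsMonHom i]
    [IsClosedImmersion i.left] [Flat i.left] (hrange : Set.range i.left = Z0 E)
    [CompactSpace G₀.left] : IsIso (i ≫ v) := by
  have hopen : IsOpenMap v.left := v.left.isOpenMap
  haveI : Mono i := Over.mono_of_mono_left i
  haveI : QuasiSeparatedSpace P.left := inferInstance
  haveI hfl : Flat (i ≫ v).left := by
    show Flat (i.left ≫ v.left)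
    infer_instance
  haveI hqc : QuasiCompact (i ≫ v).left := inferInstance
  haveI hsj : Surjective (i ≫ v).left := by
    constructor
    intro p
    obtain ⟨x, hx⟩ := hsurj p
    obtain ⟨z, x₀, hx₀, hxz⟩ := coset_decomp eG hG u v hpb hopen x
    rw [← hrange] at hx₀
    obtain ⟨y₀, hy₀⟩ := hx₀
    refine ⟨y₀, ?_⟩
    rw [Over.comp_left, Scheme.Hom.comp_apply, hy₀, ← rz_v_apply eG u v huv z x₀, hxz, hx]
  haveI hmono : Mono (i ≫ v).left := by
    constructor
    intro T₀ α β hαβ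
    obtain ⟨a₁, ha₁⟩ : ∃ a₁ : Over.mk (α ≫ G₀.hom) ⟶ G₀, a₁.left = α :=
      ⟨Over.homMk α rfl, rfl⟩
    have hβ : β ≫ G₀.hom = α ≫ G₀.hom := by
      have hw : (i ≫ v).left ≫ P.hom = G₀.hom := Over.w (i ≫ v)
      rw [← hw, ← Category.assoc, ← Category.assoc, hαβ]
    obtain ⟨a₂, ha₂⟩ : ∃ a₂ : Over.mk (α ≫ G₀.hom) ⟶ G₀, a₂.left = β :=
      ⟨Over.homMk β hβ, rfl⟩
    have h12 : a₁ ≫ (i ≫ v) = a₂ ≫ (i ≫ v) := by
      apply Over.OverMorphism.ext
      rw [Over.comp_left _ _ _ a₁ (i ≫ v), Over.comp_left _ _ _ a₂ (i ≫ v), ha₁, ha₂]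
      exact hαβ
    have hc : (a₂ ≫ i) ≫ v = (a₁ ≫ i) ≫ v := by
      rw [Category.assoc, Category.assoc, h12]
    obtain ⟨m, hm1, hm2⟩ : ∃ m : Over.mk (α ≫ G₀.hom) ⟶ E ⊗ G,
        m ≫ fst E G = a₂ ≫ i ∧ m ≫ (E ◁ u) ≫ μ[E] = a₁ ≫ i :=
      ⟨hpb.lift (a₂ ≫ i) (a₁ ≫ i) hc, hpb.lift_fst _ _ _, hpb.lift_snd _ _ _⟩
    have hone : ∀ τ, idx ((m ≫ snd E G ≫ eG.hom).left τ) = 1 := by
      intro τ
      have h1 := ract_apply eG hG u m τ
      rw [hm1, hm2] at h1
      refine stab_eq_one eG hG u v hZ huv hpb G₀ i hrange _ ((a₂ ≫ i).left τ) ?_ ?_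
      · rw [← hrange, Over.comp_left, Scheme.Hom.comp_apply]
        exact ⟨_, rfl⟩
      · rw [← h1, ← hrange, Over.comp_left, Scheme.Hom.comp_apply]
        exact ⟨_, rfl⟩
    have h5 := ract_eq_of_idx eG u m 1 hone
    rw [hm1, hm2, rz_one eG hG u, Category.comp_id] at h5
    have h6 : a₁ = a₂ := (cancel_mono i).1 h5
    rw [← ha₁, ← ha₂, h6]
  haveI hiso : IsIso (i ≫ v).left := Flat.isIso_of_surjective_of_mono _
  haveI : IsIso ((Over.forget (Spec (CommRingCat.of k))).map (i ≫ v)) := hiso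
  exact isIso_of_reflects_iso (i ≫ v) (Over.forget (Spec (CommRingCat.of k)))

include hG in
theorem rigid_of_coset [IsMonHom u] [IsMonHom v]
    (hpb : IsPullback (fst E G) ((E ◁ u) ≫ μ[E]) v v)
    (G₀ : Over (Spec (CommRingCat.of k))) [GrpObj G₀] (i : G₀ ⟶ E) [IsMonHom i]
    (hrange : Set.range i.left = Z0 E)
    (hcoset : ∀ x : E.left, ∃ (z : Z) (x₀ : E.left), x₀ ∈ Z0 E ∧ (rz eG u z).left x₀ = x)
    (φ : E ⟶ E) [IsMonHom φ] (hφu : u ≫ φ = u) (hφv : φ ≫ v = v) : φ = 𝟙 E := by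
  obtain ⟨gam, hφ⟩ := exists_gammaN u v hpb φ hφv
  obtain ⟨pt⟩ : Nonempty ↥(𝟙_ (Over (Spec (CommRingCat.of k)))).left :=
    ⟨IsLocalRing.closedPoint k⟩
  have hc_lc : IsLocallyConstant (fun x : E.left => idx ((gam ≫ eG.hom).left x)) := by
    rw [IsLocallyConstant.iff_isOpen_fiber]
    intro z
    exact (isOpen_idx_fiber z).preimage (gam ≫ eG.hom).left.continuous
  have heta : η[E] ≫ gam = 1 :=
    gam_of_fixed u v hpb gam φ hφ η[E] (IsMonHom.one_hom φ)
  have hc_e : idx ((gam ≫ eG.hom).left (ept E)) = 1 := by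
    have h1 : (η[E] ≫ gam ≫ eG.hom).left pt = (gam ≫ eG.hom).left (ept E) := by
      rw [Over.comp_left _ _ _ η[E] (gam ≫ eG.hom), Scheme.Hom.comp_apply, eta_apply]
    rw [← h1]
    have h2 : η[E] ≫ gam ≫ eG.hom =
        (toUnit (𝟙_ (Over (Spec (CommRingCat.of k)))) ≫ cz eG 1) ≫ eG.hom := by
      rw [← Category.assoc, heta, cz_one eG hG, MonObj.comp_one]
    rw [h2]
    exact idx_cz eG 1 pt
  have hc_Z0 : ∀ x ∈ Z0 E, idx ((gam ≫ eG.hom).left x) = 1 := by
    intro x hx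
    rw [← connectedComponent_ept (G := E)] at hx
    have h := hc_lc.apply_eq_of_isPreconnected isPreconnected_connectedComponent hx
      mem_connectedComponent
    exact h.trans hc_e
  have hA : i ≫ gam = 1 := by
    have h1 : (i ≫ gam) ≫ eG.hom = toUnit G₀ ≫ TwC.pt (Spec (CommRingCat.of k)) Z 1 := by
      apply eq_pt_of_idx
      intro y
      have h2 : ((i ≫ gam) ≫ eG.hom).left y = (gam ≫ eG.hom).left (i.left y) := by
        rw [Category.assoc, Over.comp_left _ _ _ i (gam ≫ eG.hom), Scheme.Hom.comp_apply]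
      rw [h2]
      apply hc_Z0
      rw [← hrange]
      exact ⟨y, rfl⟩
    have h3 : i ≫ gam = toUnit G₀ ≫ cz eG 1 := by
      have h' := congrArg (fun k => k ≫ eG.inv) h1
      simp only [Category.assoc, Iso.hom_inv_id, Category.comp_id] at h'
      exact h'
    rw [h3, cz_one eG hG, MonObj.comp_one]
  have hiφ : i ≫ φ = i := by
    rw [comp_phiN u gam φ hφ i, ← Category.assoc, hA, MonObj.one_comp u, _root_.mul_one]
  have hB : ∀ z : Z, (i ≫ rz eG u z) ≫ gam = 1 := by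
    intro z
    apply gam_of_fixed u v hpb gam φ hφ
    rw [Category.assoc, rz_phi eG u φ hφu z, ← Category.assoc, hiφ]
  have hC : ∀ x : E.left, idx ((gam ≫ eG.hom).left x) = 1 := by
    intro x
    obtain ⟨z, x₀, hx₀, hx⟩ := hcoset x
    rw [← hrange] at hx₀
    obtain ⟨y, hy⟩ := hx₀
    have h1 : (((i ≫ rz eG u z) ≫ gam) ≫ eG.hom).left y = (gam ≫ eG.hom).left x := by
      rw [Category.assoc, Over.comp_left _ _ _ (i ≫ rz eG u z) (gam ≫ eG.hom),
        Scheme.Hom.comp_apply, Over.comp_left _ _ _ i (rz eG u z), Scheme.Hom.comp_apply, hy, hx]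
    rw [← h1, hB z]
    have h2 : (1 : G₀ ⟶ G) ≫ eG.hom = (toUnit G₀ ≫ cz eG 1) ≫ eG.hom := by
      rw [cz_one eG hG, MonObj.comp_one]
    rw [h2]
    exact idx_cz eG 1 y
  have hκ : gam ≫ eG.hom = toUnit E ≫ TwC.pt (Spec (CommRingCat.of k)) Z 1 :=
    eq_pt_of_idx _ 1 hC
  have hgam : gam = toUnit E ≫ TwC.pt (Spec (CommRingCat.of k)) Z 1 ≫ eG.inv := by
    have h := congrArg (fun m => m ≫ eG.inv) hκ
    simp only [Category.assoc, Iso.hom_inv_id, Category.comp_id] at h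
    exact h
  rw [hφ, hgam, pt_one eG hG, MonObj.comp_one, MonObj.one_comp u, _root_.mul_one]

theorem S8708_main (k : Type u) [Field k]
    (Z : Type u) [Group Z] (hZ : ∀ z : Z, IsOfFinOrder z → z = 1)
    (P E G : Over (Spec (CommRingCat.of k))) [GrpObj P] [GrpObj E] [GrpObj G]
    [LocallyOfFiniteType P.hom] [ConnectedSpace ↥P.left]
    (eG : G ≅ TwC.const (Spec (CommRingCat.of k)) Z) (hG : TwC.IsConstGrp Z G eG)
    (u : G ⟶ E) (v : E ⟶ P) (hex : NonAbH1.IsExactSeq Scheme.fppfPrecoverage u v) :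
    (∀ φ : E ≅ E, IsMonHom φ.hom → u ≫ φ.hom = u → φ.hom ≫ v = v → φ.hom = 𝟙 E) ∧
      ∃ s : P ⟶ E, IsMonHom s ∧ s ≫ v = 𝟙 P := by
  obtain ⟨hu, hv, huv, hpb, hloc⟩ := hex
  haveI := hu
  haveI := hv
  haveI hvet : Etale v.left := etale_v eG u v hpb hloc
  haveI hElft : LocallyOfFiniteType E.hom := by
    have hw : v.left ≫ P.hom = E.hom := Over.w v
    rw [← hw]
    infer_instance
  haveI hPirr : IrreducibleSpace P.left := Groth.Agent.Lib.Helper4.GrpConn1.main_S0348 k P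
  have hopen : IsOpenMap v.left := v.left.isOpenMap
  have hsurj := surjective_v v hloc
  obtain ⟨G₀, instG₀, i, hi, hci, hfl, hrange, -, hcomp⟩ :=
    Groth.Agent.Lib.Helper4.GrpConn2.exists_identityComponent E
  letI := instG₀
  haveI := hi
  haveI := hci
  haveI := hfl
  haveI := hcomp
  have hcoset := fun x => coset_decomp eG hG u v hpb hopen x
  refine ⟨fun φ hφm hφu hφv => ?_, ?_⟩
  · haveI := hφm
    exact rigid_of_coset eG hG u v hpb G₀ i hrange hcoset φ.hom hφu hφv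
  · haveI hiso : IsIso (i ≫ v) := isIso_comp_v eG hG u v hZ huv hpb hsurj G₀ i hrange
    obtain ⟨e, he⟩ : ∃ e : G₀ ≅ P, e.hom = i ≫ v := ⟨asIso (i ≫ v), rfl⟩
    haveI : IsMonHom e.hom := by
      rw [he]
      infer_instance
    refine ⟨e.inv ≫ i, inferInstance, ?_⟩
    rw [Category.assoc, ← he, Iso.inv_hom_id]

end FieldN

end Groth.Agent.Helper6.ExtRigid
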