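import Mathlib
import Groth.Prelude.Def_NonAbH2
import Groth.Prelude.Def_TwC
import Groth.Prelude.Def_Red
import Groth.Agent.Lib.Helper6.DS.BcGen

/-!
# Base change of exact sequences of group schemes and of constant groups (helper6)

* `constIso`, `isConstGrp_reindex`: reindexing a constant scheme / constant group along a bijection
  (group isomorphism) of index types, possibly in different universes.
* `up`, `down_up`, `up_down`, `down_map`: points of a base change `G ×_S T`.
* `eta_bc_left`: the unit section of a base change.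
* `isExactSeq_bc`: base change of an fppf-exact sequence of group schemes is exact.
* `exists_const_bc`: base change of a constant group is a constant group.
-/

set_option backward.isDefEq.respectTransparency.types false
set_option autoImplicit false
set_option linter.unusedSectionVars false
set_option linter.unusedVariables false
set_option linter.style.haveILetI false
set_option linter.unusedSimpArgs false
set_option maxHeartbeats 800000
set_option synthInstance.maxHeartbeats 400000

open CategoryTheory CategoryTheory.Limits MonoidalCategory CartesianMonoidalCategory MonObj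
  AlgebraicGeometry

namespace Groth.Agent.Helper6.ExtRigid

universe w v u

open Groth.Agent.Lib.Helper6.DS

section Reindex

variable (S : Scheme.{u}) {Z : Type v} {Z' : Type w} [Small.{u} Z] [Small.{u} Z']

theorem pt_constMap (φ : Z → Z') (z : Z) :
    TwC.pt S Z z ≫ TwC.constMap S φ = TwC.pt S Z' (φ z) := by
  apply Over.OverMorphism.ext
  rw [Over.comp_left]
  exact Sigma.ι_desc _ _

theorem const_hom_ext {X : Over S} (a b : TwC.const S Z ⟶ X)
    (h : ∀ z, TwC.pt S Z z ≫ a = TwC.pt S Z z ≫ b) : a = b := by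
  apply Over.OverMorphism.ext
  apply Sigma.hom_ext
  intro z
  have h1 := congrArg (fun k => k.left) (h z)
  simp only [Over.comp_left] at h1
  exact h1

/-- Reindexing a constant scheme along a bijection of index types. -/
noncomputable def constIso (φ : Z ≃ Z') : TwC.const S Z ≅ TwC.const S Z' where
  hom := TwC.constMap S φ
  inv := TwC.constMap S φ.symm
  hom_inv_id := by
    apply const_hom_ext
    intro z
    rw [← Category.assoc, pt_constMap, pt_constMap, Category.comp_id, Equiv.symm_apply_apply]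
  inv_hom_id := by
    apply const_hom_ext
    intro z
    rw [← Category.assoc, pt_constMap, pt_constMap, Category.comp_id, Equiv.apply_symm_apply]

theorem isConstGrp_reindex {G : Over S} [GrpObj G] [Group Z] [Group Z'] (φ : Z ≃* Z')
    (e : G ≅ TwC.const S Z) (hG : TwC.IsConstGrp Z G e) :
    TwC.IsConstGrp Z' G (e ≪≫ constIso S φ.toEquiv) := by
  have key : ∀ m : Z', TwC.pt S Z' m ≫ (e ≪≫ constIso S φ.toEquiv).inv =
      TwC.pt S Z (φ.symm m) ≫ e.inv := by
    intro m
    rw [Iso.trans_inv, ← Category.assoc]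
    show (TwC.pt S Z' m ≫ TwC.constMap S φ.toEquiv.symm) ≫ e.inv = _
    rw [pt_constMap]
    rfl
  intro m n
  rw [key, key, key, hG, map_mul]

end Reindex

section UpDown

variable {S T : Scheme.{u}} (g : T ⟶ S) {G H : Over S} {T' : Over T}

/-- The point of the base change `G ×_S T` determined by a point of `G` over `S`. -/
noncomputable def up (y : Over.mk (T'.hom ≫ g) ⟶ G) : T' ⟶ Red.bc g G :=
  Over.homMk (pullback.lift y.left T'.hom (Over.w y)) (by
    change _ ≫ pullback.snd G.hom g = T'.hom
    exact pullback.lift_snd _ _ _)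

theorem down_up (y : Over.mk (T'.hom ≫ g) ⟶ G) : down g (up g y) = y := by
  apply Over.OverMorphism.ext
  rw [down_left]
  exact pullback.lift_fst _ _ _

theorem up_down (x : T' ⟶ Red.bc g G) : up g (down g x) = x :=
  down_injective g (down_up g _)

theorem down_map (w : G ⟶ H) (x : T' ⟶ Red.bc g G) :
    down g (x ≫ (Over.pullback g).map w) = down g x ≫ w := by
  apply Over.OverMorphism.ext
  rw [down_left, Over.comp_left, Category.assoc, pullback_map_left_fst, ← Category.assoc,
    Over.comp_left, down_left]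

theorem down_down_left {B : Scheme.{u}} (h : B ⟶ T) {B' : Over B}
    (y : B' ⟶ Red.bc h (Red.bc g G)) :
    (down g (down h y)).left =
      y.left ≫ pullback.fst (Red.bc g G).hom h ≫ pullback.fst G.hom g := by
  rw [down_left, down_left, Category.assoc]

variable [GrpObj G]

theorem eta_bc_left : η[Red.bc g G].left ≫ pullback.fst G.hom g = g ≫ η[G].left := by
  have h := down_one g (G := G) (T := 𝟙_ (Over T))
  have h1 := congrArg (fun k => k.left) h
  simp only [down_left, Hom.one_def, Over.comp_left, Over.toUnit_left] at h1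
  simpa using h1

end UpDown

section BCExact

variable {S T : Scheme.{u}} (g : T ⟶ S) {M E P : Over S} [GrpObj M] [GrpObj E] [GrpObj P]
  (u : M ⟶ E) (v : E ⟶ P)

theorem map_one_bc : (Over.pullback g).map (1 : M ⟶ P) = 1 := by
  have h1 : down g ((Over.pullback g).map (1 : M ⟶ P)) = 1 := by
    have h2 := down_map g (1 : M ⟶ P) (𝟙 (Red.bc g M))
    rw [Category.id_comp] at h2
    rw [h2, MonObj.comp_one]
  exact down_injective g (h1.trans (down_one g).symm)

theorem isPullback_bc (hpb : IsPullback (fst E M) ((E ◁ u) ≫ μ[E]) v v) :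
    IsPullback (fst (Red.bc g E) (Red.bc g M))
      ((Red.bc g E ◁ (Over.pullback g).map u) ≫ μ[Red.bc g E])
      ((Over.pullback g).map v) ((Over.pullback g).map v) := by
  have hF := hpb.map (Over.pullback g)
  refine IsPullback.of_iso hF (Functor.Monoidal.μIso (Over.pullback g) E M).symm (Iso.refl _)
    (Iso.refl _) (Iso.refl _) ?_ ?_ ?_ ?_
  · rw [Iso.refl_hom, Category.comp_id, Iso.symm_hom, Iso.eq_inv_comp]
    exact Functor.Monoidal.μ_fst (Over.pullback g) E M
  · rw [Iso.refl_hom, Category.comp_id, Iso.symm_hom, Iso.eq_inv_comp]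
    show Functor.LaxMonoidal.μ (Over.pullback g) E M ≫
      (Over.pullback g).map ((E ◁ u) ≫ μ[E]) = _
    have h2 : μ[Red.bc g E] =
        Functor.LaxMonoidal.μ (Over.pullback g) E E ≫ (Over.pullback g).map μ[E] := rfl
    rw [h2, Functor.map_comp, ← Category.assoc, ← Category.assoc,
      Functor.LaxMonoidal.μ_natural_right]
  · rw [Iso.refl_hom, Iso.refl_hom, Category.comp_id, Category.id_comp]
  · rw [Iso.refl_hom, Iso.refl_hom, Category.comp_id, Category.id_comp]

theorem isLocallyTrivial_bc
    (hloc : NonAbH1.IsLocallyTrivialFor Scheme.fppfPrecoverage (Over.mk v.left : Over P.left)) :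
    NonAbH1.IsLocallyTrivialFor Scheme.fppfPrecoverage
      (Over.mk ((Over.pullback g).map v).left : Over (Red.bc g P).left) := by
  obtain ⟨R, hR, hsec⟩ := hloc
  have hR' : R ∈ Scheme.precoverage (@Flat ⊓ @LocallyOfFinitePresentation) P.left := hR
  have hw : ((Over.pullback g).map v).left ≫ pullback.snd P.hom g = pullback.snd E.hom g :=
    Over.w ((Over.pullback g).map v)
  have hkey : ∀ x' : (Red.bc g P).left, ∃ (Y' : Scheme.{u}) (f' : Y' ⟶ (Red.bc g P).left),
      ((@Flat ⊓ @LocallyOfFinitePresentation : MorphismProperty Scheme.{u}) f' ∧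
        ∃ s' : Y' ⟶ (Red.bc g E).left, s' ≫ ((Over.pullback g).map v).left = f') ∧
      x' ∈ Set.range f' := by
    intro x'
    obtain ⟨Y, f, hRf, hx⟩ :=
      (Presieve.mem_comap_jointlySurjectivePrecoverage_iff _).mp hR'.1
        ((pullback.fst P.hom g) x')
    obtain ⟨y, hy⟩ := hx
    obtain ⟨s, hs⟩ := hsec f hRf
    have hs' : s ≫ v.left = f := hs
    obtain ⟨w, hw1, hw2⟩ := Scheme.Pullback.exists_preimage_pullback (f := f)
      (g := pullback.fst P.hom g) y x' hy
    have hP : (@Flat ⊓ @LocallyOfFinitePresentation : MorphismProperty Scheme.{u}) f :=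
      hR'.2 hRf
    have hcond : (pullback.fst f (pullback.fst P.hom g) ≫ s) ≫ E.hom =
        (pullback.snd f (pullback.fst P.hom g) ≫ pullback.snd P.hom g) ≫ g := by
      have hv : v.left ≫ P.hom = E.hom := Over.w v
      calc (pullback.fst f (pullback.fst P.hom g) ≫ s) ≫ E.hom
          = pullback.fst f (pullback.fst P.hom g) ≫ (s ≫ v.left) ≫ P.hom := by
            rw [← hv]; simp only [Category.assoc]
        _ = (pullback.fst f (pullback.fst P.hom g) ≫ f) ≫ P.hom := by
            rw [hs', Category.assoc]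
        _ = (pullback.snd f (pullback.fst P.hom g) ≫ pullback.fst P.hom g) ≫ P.hom := by
            rw [pullback.condition]
        _ = pullback.snd f (pullback.fst P.hom g) ≫ pullback.snd P.hom g ≫ g := by
            rw [Category.assoc, pullback.condition]
        _ = _ := by rw [Category.assoc]
    refine ⟨pullback f (pullback.fst P.hom g), pullback.snd f (pullback.fst P.hom g),
      ⟨MorphismProperty.pullback_snd (P := @Flat ⊓ @LocallyOfFinitePresentation) _ _ hP,
        pullback.lift (pullback.fst f (pullback.fst P.hom g) ≫ s)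
          (pullback.snd f (pullback.fst P.hom g) ≫ pullback.snd P.hom g) hcond, ?_⟩,
      ⟨w, hw2⟩⟩
    apply pullback.hom_ext
    · rw [Category.assoc, pullback_map_left_fst, ← Category.assoc, pullback.lift_fst,
        Category.assoc, hs', pullback.condition]
    · rw [Category.assoc, hw, pullback.lift_snd]
  refine ⟨fun Y' f' => (@Flat ⊓ @LocallyOfFinitePresentation : MorphismProperty Scheme.{u}) f' ∧
      ∃ s' : Y' ⟶ (Red.bc g E).left, s' ≫ ((Over.pullback g).map v).left = f', ?_, ?_⟩
  · show _ ∈ Scheme.precoverage (@Flat ⊓ @LocallyOfFinitePresentation) (Red.bc g P).left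
    refine ⟨(Presieve.mem_comap_jointlySurjectivePrecoverage_iff _).mpr ?_, ?_⟩
    · intro x'
      obtain ⟨Y', f', hf', hx'⟩ := hkey x'
      exact ⟨Y', f', hf', hx'⟩
    · intro Y' f' hf'
      exact hf'.1
  · intro Y' f' hf'
    exact hf'.2

theorem isExactSeq_bc (hex : NonAbH1.IsExactSeq Scheme.fppfPrecoverage u v) :
    NonAbH1.IsExactSeq Scheme.fppfPrecoverage ((Over.pullback g).map u)
      ((Over.pullback g).map v) := by
  obtain ⟨hu, hv, huv, hpb, hloc⟩ := hex
  haveI := hu
  haveI := hv
  refine ⟨inferInstance, inferInstance, ?_, isPullback_bc g u v hpb, isLocallyTrivial_bc g v hloc⟩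
  rw [← Functor.map_comp, huv]
  exact map_one_bc g

end BCExact

section BCConst

/-- The base change of a constant scheme is constant, compatibly with the canonical points. -/
theorem const_bc_pt {S' N : Scheme.{u}} (ν : N ⟶ S') (I : Type u) :
    ∃ θ : Red.bc ν (TwC.const S' I) ≅ TwC.const N I, ∀ i : I,
      (TwC.pt N I i ≫ θ.inv).left ≫ pullback.fst (TwC.const S' I).hom ν =
        ν ≫ Sigma.ι (fun _ : I => S') i := by
  let d : (∐ fun _ : I => S') ⟶ S' := Sigma.desc (fun _ : I => 𝟙 S')
  have hιd : ∀ i, Sigma.ι (fun _ : I => S') i ≫ d = 𝟙 S' := fun i => by simp [d]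
  have hcond : ∀ i, (ν ≫ Sigma.ι (fun _ : I => S') i) ≫ d = 𝟙 N ≫ ν := by
    intro i
    rw [Category.assoc, hιd, Category.comp_id, Category.id_comp]
  let fN : ∀ _ : I, N ⟶ pullback d ν := fun i =>
    pullback.lift (ν ≫ Sigma.ι (fun _ : I => S') i) (𝟙 N) (hcond i)
  have hfN1 : ∀ i, fN i ≫ pullback.fst d ν = ν ≫ Sigma.ι (fun _ : I => S') i :=
    fun i => pullback.lift_fst _ _ _
  have hfN2 : ∀ i, fN i ≫ pullback.snd d ν = 𝟙 N := fun i => pullback.lift_snd _ _ _
  have sq : ∀ i, IsPullback (fN i) ν (pullback.fst d ν) (Sigma.ι (fun _ : I => S') i) := by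
    intro i
    refine IsPullback.of_right ?_ (hfN1 i) (IsPullback.of_hasPullback d ν).flip
    rw [hfN2 i, hιd i]
    exact IsPullback.id_horiz ν
  haveI : ∀ i, IsOpenImmersion (fN i) := fun i =>
    MorphismProperty.of_isPullback (P := @IsOpenImmersion) (sq i).flip inferInstance
  have hcov : ⨆ i, (fN i).opensRange = ⊤ := by
    rw [eq_top_iff]
    rintro t -
    obtain ⟨⟨i, x⟩, hx⟩ := (sigmaMk (fun _ : I => S')).surjective (pullback.fst d ν t)
    rw [sigmaMk_mk] at hx
    obtain ⟨w, hw1, -⟩ := Scheme.Pullback.exists_preimage_pullback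
      (f := pullback.fst d ν) (g := Sigma.ι (fun _ : I => S') i) t x hx.symm
    refine TopologicalSpace.Opens.mem_iSup.2 ⟨i, (sq i).isoPullback.inv w, ?_⟩
    rw [← Scheme.Hom.comp_apply, (sq i).isoPullback_inv_fst]
    exact hw1
  have hdisj : Pairwise (Function.onFun Disjoint (fun i => (fN i).opensRange)) := by
    intro i j hij
    show Disjoint (fN i).opensRange (fN j).opensRange
    rw [disjoint_iff, eq_bot_iff]
    rintro t ⟨⟨n, hn⟩, ⟨m, hm⟩⟩
    have h1 : pullback.fst d ν t ∈ (Sigma.ι (fun _ : I => S') i).opensRange := by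
      refine ⟨ν n, ?_⟩
      rw [← hn, ← Scheme.Hom.comp_apply, ← Scheme.Hom.comp_apply, hfN1]
    have h2 : pullback.fst d ν t ∈ (Sigma.ι (fun _ : I => S') j).opensRange := by
      refine ⟨ν m, ?_⟩
      rw [← hm, ← Scheme.Hom.comp_apply, ← Scheme.Hom.comp_apply, hfN1]
    have := (disjoint_opensRange_sigmaι (fun _ : I => S') i j hij).le_bot ⟨h1, h2⟩
    simp at this
  obtain ⟨hc⟩ := nonempty_isColimit_cofanMk_of fN hcov hdisj
  let θ : pullback d ν ≅ ∐ (fun _ : I => N) :=
    hc.coconePointUniqueUpToIso (colimit.isColimit _)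
  have hθι : ∀ i, fN i ≫ θ.hom = Sigma.ι (fun _ : I => N) i := fun i =>
    hc.comp_coconePointUniqueUpToIso_hom (colimit.isColimit _) ⟨i⟩
  have hθ : θ.hom ≫ Sigma.desc (fun _ : I => 𝟙 N) = pullback.snd d ν := by
    refine Cofan.IsColimit.hom_ext hc _ _ (fun i => ?_)
    show fN i ≫ θ.hom ≫ Sigma.desc (fun _ : I => 𝟙 N) = fN i ≫ pullback.snd d ν
    rw [← Category.assoc, hθι i, hfN2 i]
    simp
  obtain ⟨Θ, hΘ⟩ : ∃ Θ : Red.bc ν (TwC.const S' I) ≅ TwC.const N I, Θ.inv.left = θ.inv :=
    ⟨Over.isoMk θ hθ, rfl⟩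
  refine ⟨Θ, fun i => ?_⟩
  have h3 : (TwC.pt N I i ≫ Θ.inv).left = fN i := by
    rw [Over.comp_left, hΘ]
    show Sigma.ι (fun _ : I => N) i ≫ θ.inv = fN i
    rw [← hθι i, Category.assoc, Iso.hom_inv_id, Category.comp_id]
  rw [h3]
  exact hfN1 i

theorem exists_const_bc {T T' : Scheme.{u}} (h : T' ⟶ T) (Z : Type u) [Group Z] (G : Over T)
    [GrpObj G] (e : G ≅ TwC.const T Z) (hG : TwC.IsConstGrp Z G e) :
    ∃ e' : Red.bc h G ≅ TwC.const T' Z, TwC.IsConstGrp Z (Red.bc h G) e' := by
  obtain ⟨θ, hθ⟩ := const_bc_pt h Z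
  refine ⟨(Over.pullback h).mapIso e ≪≫ θ, ?_⟩
  obtain ⟨hh, hhl⟩ : ∃ hh : Over.mk ((𝟙_ (Over T')).hom ≫ h) ⟶ 𝟙_ (Over T), hh.left = h :=
    ⟨Over.homMk h (by
      show h ≫ 𝟙 T = 𝟙 T' ≫ h
      rw [Category.comp_id, Category.id_comp]), rfl⟩
  have key : ∀ z : Z, down h (TwC.pt T' Z z ≫ ((Over.pullback h).mapIso e ≪≫ θ).inv) =
      hh ≫ (TwC.pt T Z z ≫ e.inv) := by
    intro z
    have h1 : TwC.pt T' Z z ≫ ((Over.pullback h).mapIso e ≪≫ θ).inv =
        (TwC.pt T' Z z ≫ θ.inv) ≫ (Over.pullback h).map e.inv := by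
      rw [Iso.trans_inv, Functor.mapIso_inv, Category.assoc]
    rw [h1, down_map, ← Category.assoc hh]
    congr 1
    apply Over.OverMorphism.ext
    rw [down_left, Over.comp_left _ _ _ hh (TwC.pt T Z z), hhl]
    exact hθ z
  intro m n
  apply down_injective h
  rw [down_mul, key, key, key, ← MonObj.comp_mul, hG]

end BCConst

end Groth.Agent.Helper6.ExtRigid
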