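import Mathlib
import Groth.Prelude.Def_NonAbH2
import Groth.Prelude.Def_TwC
import Groth.Prelude.Def_MoreMor
import Groth.Agent.Lib.Helper6.ExtRigid.ER4
import Groth.Agent.Lib.Helper6.ExtRigid.ER5
import Groth.Agent.Lib.Helper6.FlatQ.FCov
import Groth.Agent.Lib.Lead.FpqcProp1
import Groth.Agent.Lib.Helper4.UnramSec1

/-!
# Extensions of a smooth group scheme with geometrically connected fibres by a twisted lattice
split (S8712)

Let `1 → M → E → P → 1` be an fppf-exact sequence of group schemes over `S`, with `P` smooth,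
quasi-compact and quasi-separated with geometrically connected fibres and `M` locally constant for
the fpqc topology with torsion-free fibres.  Then `M → S` is étale and separated (fpqc descent), so
its unit section is an open and closed immersion; this gives `Hom(P, M) = 1`.  The morphism
`E → P` is étale and separated, `E → S` is smooth, and the union `U` of the identity components of
the fibres of `E → S` is open.  The map `U → P` is étale, surjective and a monomorphism: both facts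
are checked after base change to a field over which `M` becomes constant, where they are the
statements about the identity component proved in `ER4`.  Hence `U ≅ P`, which gives the section;
it is a homomorphism because the obstruction is a morphism `P × P → M` which is trivial on
`P × e`.
-/

set_option backward.isDefEq.respectTransparency.types false
set_option autoImplicit false
set_option linter.unusedSectionVars false
set_option linter.unusedVariables false
set_option linter.style.haveILetI false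
set_option linter.unusedSimpArgs false
set_option maxHeartbeats 800000
set_option synthInstance.maxHeartbeats 400000

open CategoryTheory CategoryTheory.Limits MonoidalCategory CartesianMonoidalCategory MonObj
  AlgebraicGeometry

namespace Groth.Agent.Helper6.ExtRigid

universe v u

open Groth.Agent.Lib.Helper6.DS

section CatD

variable {C : Type u} [Category.{v} C] [CartesianMonoidalCategory C]
  {E G P : C} [GrpObj E] [GrpObj G] [GrpObj P]
  (u : G ⟶ E) (v : E ⟶ P)

theorem exists_diff (hpb : IsPullback (fst E G) ((E ◁ u) ≫ μ[E]) v v) {T : C} (a b : T ⟶ E)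
    (h : a ≫ v = b ≫ v) : ∃ δ : T ⟶ G, b = a * (δ ≫ u) := by
  obtain ⟨w, hw1, hw2⟩ : ∃ w : T ⟶ E ⊗ G, w ≫ fst E G = a ∧ w ≫ (E ◁ u) ≫ μ[E] = b :=
    ⟨hpb.lift a b h, hpb.lift_fst _ _ _, hpb.lift_snd _ _ _⟩
  refine ⟨w ≫ snd E G, ?_⟩
  have h1 : w = lift a (w ≫ snd E G) := by
    apply CartesianMonoidalCategory.hom_ext
    · rw [lift_fst, hw1]
    · rw [lift_snd]
  have h2 : lift a (w ≫ snd E G) ≫ (E ◁ u) ≫ μ[E] = b := by
    rw [← h1]
    exact hw2
  rw [lift_whisker_mulN] at h2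
  exact h2.symm

end CatD

section FieldPack

open Groth.Agent.Lib.Helper4.GrpIrr1 Groth.Agent.Lib.Helper4.GrpConn1
  Groth.Agent.Lib.Helper4.GrpIrr3

theorem field_pack (k : Type u) [Field k] (Z : Type u) [Group Z]
    (hZ : ∀ z : Z, IsOfFinOrder z → z = 1)
    (P E G : Over (Spec (CommRingCat.of k))) [GrpObj P] [GrpObj E] [GrpObj G]
    [LocallyOfFiniteType P.hom] [ConnectedSpace ↥P.left]
    (eG : G ≅ TwC.const (Spec (CommRingCat.of k)) Z) (hG : TwC.IsConstGrp Z G eG)
    (u : G ⟶ E) (v : E ⟶ P) (hex : NonAbH1.IsExactSeq Scheme.fppfPrecoverage u v) :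
    (∀ x : P.left, ∃ y : E.left, y ∈ connectedComponent (ept E) ∧ v.left y = x) ∧
    (∀ (y₁ y₂ : 𝟙_ (Over (Spec (CommRingCat.of k))) ⟶ E)
      (d : 𝟙_ (Over (Spec (CommRingCat.of k))) ⟶ G),
      y₁ = y₂ * (d ≫ u) → (∀ t, y₁.left t ∈ connectedComponent (ept E)) →
      (∀ t, y₂.left t ∈ connectedComponent (ept E)) → d = 1) := by
  obtain ⟨hu, hv, huv, hpb, hloc⟩ := hex
  haveI := hu
  haveI := hv
  haveI hvet : Etale v.left := etale_v eG u v hpb hloc
  haveI hElft : LocallyOfFiniteType E.hom := by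
    have hw : v.left ≫ P.hom = E.hom := Over.w v
    rw [← hw]
    infer_instance
  haveI hPirr : IrreducibleSpace P.left := Groth.Agent.Lib.Helper4.GrpConn1.main_S0348 k P
  have hopen : IsOpenMap v.left := v.left.isOpenMap
  have hsurj := surjective_v v hloc
  obtain ⟨G₀, instG₀, i, hi, hci, hfl, hrange, -, hcomp⟩ :=
    Groth.Agent.Lib.Helper4.GrpConn2.exists_identityComponent E
  letI := instG₀
  haveI := hi
  haveI := hci
  haveI := hfl
  haveI := hcomp
  have hZ0 : connectedComponent (ept E) = Z0 E := connectedComponent_ept (G := E)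
  refine ⟨fun x => ?_, fun y₁ y₂ d hrel h₁ h₂ => ?_⟩
  · obtain ⟨x', hx'⟩ := hsurj x
    obtain ⟨z, x₀, hx₀, hxz⟩ := coset_decomp eG hG u v hpb hopen x'
    refine ⟨x₀, by rw [hZ0]; exact hx₀, ?_⟩
    rw [← rz_v_apply eG u v huv z x₀, hxz, hx']
  · obtain ⟨m, hm⟩ : ∃ m : 𝟙_ (Over (Spec (CommRingCat.of k))) ⟶ E ⊗ G, m = lift y₂ d :=
      ⟨_, rfl⟩
    have hm1 : m ≫ fst E G = y₂ := by rw [hm, lift_fst]
    have hm2 : m ≫ snd E G = d := by rw [hm, lift_snd]
    have hm3 : m ≫ (E ◁ u) ≫ μ[E] = y₁ := by rw [hm, lift_whisker_mulN, hrel]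
    have hone : ∀ t, idx ((d ≫ eG.hom).left t) = 1 := by
      intro t
      have h1 := ract_apply eG hG u m t
      rw [hm3, hm1, ← Category.assoc, hm2] at h1
      refine stab_eq_one eG hG u v hZ huv hpb G₀ i hrange _ (y₂.left t) ?_ ?_
      · rw [← hZ0]
        exact h₂ t
      · rw [← h1, ← hZ0]
        exact h₁ t
    have hκ : d ≫ eG.hom = toUnit _ ≫ TwC.pt (Spec (CommRingCat.of k)) Z 1 :=
      eq_pt_of_idx _ 1 hone
    have hd : d = toUnit _ ≫ TwC.pt (Spec (CommRingCat.of k)) Z 1 ≫ eG.inv := by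
      have h := congrArg (fun m => m ≫ eG.inv) hκ
      simp only [Category.assoc, Iso.hom_inv_id, Category.comp_id] at h
      exact h
    rw [hd, pt_one eG hG, MonObj.comp_one]

/-- over a field, the section components are the connected component of the identity -/
theorem sc_field (k : Type u) [Field k] (G : Over (Spec (CommRingCat.of k))) [GrpObj G] :
    MoreMor.sectionComponents G.hom η[G].left = connectedComponent (ept G) := by
  ext x
  unfold MoreMor.sectionComponents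
  rw [Set.mem_ofPred_eq]
  have h1 : G.hom ⁻¹' {G.hom x} = Set.univ := by
    ext y
    simp only [Set.mem_preimage, Set.mem_singleton_iff, Set.mem_univ, iff_true]
    exact Subsingleton.elim _ _
  have h2 : η[G].left (G.hom x) = ept G := eta_apply G _
  rw [h1, h2, connectedComponentIn_univ]

end FieldPack

section Descent

open Groth.Agent.Lib.Helper6.FlatQ Groth.Agent.Helper6.TwCEt

theorem prop_of_fpqc_const (P' : MorphismProperty Scheme.{u})
    [IsZariskiLocalAtTarget P'] [P'.DescendsAlong FQC.{u}]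
    (hconst : ∀ (T : Scheme.{u}) (I : Type u), P' (dd T I))
    {S S' : Scheme.{u}} (M : Over S) (f : S' ⟶ S) (hf : FQC f)
    (hloc : ∀ s' : S', ∃ U : S'.Opens, s' ∈ U ∧ ∃ I : Type u,
      Nonempty (Red.bc (U.ι ≫ f) M ≅ TwC.const U I)) : P' M.hom := by
  refine MorphismProperty.of_pullback_snd_of_descendsAlong (P := P') (Q := FQC.{u})
    (f := M.hom) (g := f) hf ?_
  choose U hU I hI using hloc
  have hcover : TopologicalSpace.IsOpenCover U :=
    eq_top_iff.2 fun x _ => TopologicalSpace.Opens.mem_iSup.2 ⟨x, hU x⟩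
  refine IsZariskiLocalAtTarget.of_openCover (P := P')
    (Scheme.openCoverOfIsOpenCover S' U hcover) ?_
  intro s'
  show P' (pullback.snd (pullback.snd M.hom f) (U s').ι)
  rw [← pullbackLeftPullbackSndIso_hom_snd M.hom f (U s').ι, P'.cancel_left_of_respectsIso]
  obtain ⟨e⟩ := hI s'
  have hw : e.hom.left ≫ dd (U s') (I s') = pullback.snd M.hom ((U s').ι ≫ f) := Over.w e.hom
  haveI : IsIso e.hom.left := by
    have := (Over.forget ((U s' : S'.Opens) : Scheme.{u})).map_isIso e.hom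
    exact this
  rw [← hw]
  exact (P'.cancel_left_of_respectsIso _ _).mpr (hconst _ _)

end Descent

section PropV

variable {S : Scheme.{u}} {P E M : Over S} [GrpObj P] [GrpObj E] [GrpObj M]
  (u : M ⟶ E) (v : E ⟶ P)

theorem prop_v (P' : MorphismProperty Scheme.{u}) [P'.IsStableUnderBaseChange]
    [P'.IsLocalAtTarget Scheme.fppfPrecoverage] (hM : P' M.hom)
    (hpb : IsPullback (fst E M) ((E ◁ u) ≫ μ[E]) v v)
    (hloc : NonAbH1.IsLocallyTrivialFor Scheme.fppfPrecoverage (Over.mk v.left : Over P.left)) :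
    P' v.left := by
  have hpbS : IsPullback (fst E M).left ((E ◁ u) ≫ μ[E]).left v.left v.left :=
    hpb.map (Over.forget _)
  have hfstG : P' (fst E M).left := by
    show P' (pullback.fst E.hom M.hom)
    exact MorphismProperty.pullback_fst (P := P') E.hom M.hom hM
  have hfst : P' (pullback.fst v.left v.left) := by
    have e2 : pullback.fst v.left v.left = hpbS.isoPullback.inv ≫ (fst E M).left := by
      rw [hpbS.isoPullback_inv_fst]
    rw [e2]
    exact (P'.cancel_left_of_respectsIso _ _).mpr hfstG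
  have hsnd : P' (pullback.snd v.left v.left) := by
    have e3 : pullback.snd v.left v.left =
        (pullbackSymmetry v.left v.left).hom ≫ pullback.fst v.left v.left :=
      (pullbackSymmetry_hom_comp_fst _ _).symm
    rw [e3]
    exact (P'.cancel_left_of_respectsIso _ _).mpr hfst
  obtain ⟨R, hR, hsec⟩ := hloc
  apply MorphismProperty.IsLocalAtTarget.of_forall_pullbackSnd (P := P')
    (K := Scheme.fppfPrecoverage) hR
  intro U g _ hg
  obtain ⟨s, hs⟩ := hsec g hg
  have hs' : s ≫ v.left = g := hs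
  let l : pullback v.left g ⟶ pullback v.left v.left :=
    pullback.lift (pullback.fst v.left g) (pullback.snd v.left g ≫ s) (by
      rw [Category.assoc, hs', pullback.condition])
  have sq : IsPullback l (pullback.snd v.left g) (pullback.snd v.left v.left) s := by
    refine IsPullback.of_right ?_ (pullback.lift_snd _ _ _)
      (IsPullback.of_hasPullback v.left v.left)
    have : l ≫ pullback.fst v.left v.left = pullback.fst v.left g := pullback.lift_fst _ _ _
    rw [this, hs']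
    exact IsPullback.of_hasPullback v.left g
  exact MorphismProperty.of_isPullback sq hsnd

theorem eq_one_of_range [IsOpenImmersion η[M].left] {X : Over S} (δ : X ⟶ M)
    (h : Set.range δ.left ⊆ Set.range η[M].left) : δ = 1 := by
  obtain ⟨δ', hδ'⟩ : ∃ δ' : X.left ⟶ (𝟙_ (Over S)).left, δ' ≫ η[M].left = δ.left :=
    ⟨IsOpenImmersion.lift _ _ h, IsOpenImmersion.lift_fac _ _ _⟩
  have hw : η[M].left ≫ M.hom = 𝟙 S := Over.w η[M]
  have h1 : δ' = X.hom := by
    calc δ' = δ' ≫ η[M].left ≫ M.hom := by rw [hw]; exact (Category.comp_id _).symm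
      _ = δ.left ≫ M.hom := by rw [← Category.assoc, hδ']
      _ = X.hom := Over.w δ
  rw [Hom.one_def]
  apply Over.OverMorphism.ext
  rw [Over.comp_left, Over.toUnit_left, ← hδ', h1]

theorem eq_one_of_clopen [IsOpenImmersion η[M].left] (hcl : IsClosed (Set.range η[M].left))
    {X : Over S} (δ : X ⟶ M)
    (hconn : ∀ x : X.left, ∃ C : Set X.left, _root_.IsPreconnected C ∧ x ∈ C ∧
      ∃ x₀ ∈ C, δ.left x₀ ∈ Set.range η[M].left) : δ = 1 := by
  apply eq_one_of_range
  rintro _ ⟨x, rfl⟩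
  obtain ⟨C, hC, hxC, x₀, hx₀C, hx₀⟩ := hconn x
  have hclopen : IsClopen (δ.left ⁻¹' Set.range η[M].left) :=
    ⟨hcl.preimage δ.left.continuous,
      η[M].left.isOpenEmbedding.isOpen_range.preimage δ.left.continuous⟩
  exact hC.subset_isClopen hclopen ⟨x₀, hx₀C, hx₀⟩ hxC

end PropV

section Pr2

variable {S T B : Scheme.{u}} (g : T ⟶ S) (h : B ⟶ T)

/-- the projection from a double base change -/
noncomputable def pr2 (X : Over S) : (Red.bc h (Red.bc g X)).left ⟶ X.left :=
  pullback.fst (Red.bc g X).hom h ≫ pullback.fst X.hom g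

theorem pr2_map {X Y : Over S} (w : X ⟶ Y) :
    ((Over.pullback h).map ((Over.pullback g).map w)).left ≫ pr2 g h Y = pr2 g h X ≫ w.left := by
  unfold pr2
  rw [← Category.assoc, pullback_map_left_fst h ((Over.pullback g).map w), Category.assoc,
    pullback_map_left_fst g w, Category.assoc]

theorem isPullback_pr2 (X : Over S) :
    IsPullback (pr2 g h X) (Red.bc h (Red.bc g X)).hom X.hom (h ≫ g) :=
  (IsPullback.of_hasPullback (Red.bc g X).hom h).paste_horiz (IsPullback.of_hasPullback X.hom g)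

theorem eta_pr2 (X : Over S) [GrpObj X] :
    η[Red.bc h (Red.bc g X)].left ≫ pr2 g h X = (h ≫ g) ≫ η[X].left := by
  unfold pr2
  rw [← Category.assoc, eta_bc_left h (G := Red.bc g X), Category.assoc, eta_bc_left g (G := X),
    Category.assoc]

theorem down_down_pr2 {X : Over S} {B' : Over B} (y : B' ⟶ Red.bc h (Red.bc g X)) :
    (down g (down h y)).left = y.left ≫ pr2 g h X :=
  down_down_left g h y

end Pr2

section Transfer

open Groth.Agent.Lib.Helper4.GrpIrr1 Groth.Agent.Lib.Helper4.GrpConn1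
open Groth.Agent.Helper7.GeomConn

variable {S : Scheme.{u}} {P E M : Over S} [GrpObj P] [GrpObj E] [GrpObj M]
  (u : M ⟶ E) (v : E ⟶ P)

/-- local constancy data for `M` over `g : T ⟶ S` -/
def LD (M : Over S) [GrpObj M] (T : Scheme.{u}) (g : T ⟶ S) : Prop :=
  ∃ (Z : Type u) (_ : Group Z), (∀ z : Z, IsOfFinOrder z → z = 1) ∧
    ∃ e : Red.bc g M ≅ TwC.const T Z, TwC.IsConstGrp Z (Red.bc g M) e

theorem field_transfer [Smooth P.hom] [GeometricallyConnected P.hom]
    (hex : NonAbH1.IsExactSeq Scheme.fppfPrecoverage u v)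
    {T : Scheme.{u}} (g : T ⟶ S) (Z : Type u) [Group Z] (hZ : ∀ z : Z, IsOfFinOrder z → z = 1)
    (e : Red.bc g M ≅ TwC.const T Z) (hG : TwC.IsConstGrp Z (Red.bc g M) e)
    (k : Type u) [Field k] (h : Spec (CommRingCat.of k) ⟶ T) :
    (∀ x : (Red.bc h (Red.bc g P)).left, ∃ y : (Red.bc h (Red.bc g E)).left,
        y ∈ connectedComponent (ept (Red.bc h (Red.bc g E))) ∧
          ((Over.pullback h).map ((Over.pullback g).map v)).left y = x) ∧
    (∀ (y₁ y₂ : 𝟙_ (Over (Spec (CommRingCat.of k))) ⟶ Red.bc h (Red.bc g E))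
      (d : 𝟙_ (Over (Spec (CommRingCat.of k))) ⟶ Red.bc h (Red.bc g M)),
      y₁ = y₂ * (d ≫ (Over.pullback h).map ((Over.pullback g).map u)) →
      (∀ t, y₁.left t ∈ connectedComponent (ept (Red.bc h (Red.bc g E)))) →
      (∀ t, y₂.left t ∈ connectedComponent (ept (Red.bc h (Red.bc g E)))) → d = 1) := by
  have hex₁ := isExactSeq_bc g u v hex
  have hex₂ := isExactSeq_bc h _ _ hex₁
  obtain ⟨e₂, hG₂⟩ := exists_const_bc h Z (Red.bc g M) e hG
  haveI : LocallyOfFiniteType (Red.bc h (Red.bc g P)).hom := by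
    show LocallyOfFiniteType (pullback.snd (pullback.snd P.hom g) h)
    infer_instance
  haveI : ConnectedSpace ↥(Red.bc h (Red.bc g P)).left :=
    GeometricallyConnected.geometrically_connectedSpace (f := P.hom) (h ≫ g) (pr2 g h P)
      (Red.bc h (Red.bc g P)).hom (isPullback_pr2 g h P)
  exact field_pack k Z hZ _ _ _ e₂ hG₂ _ _ hex₂

theorem mem_sc_iff_pr2 {T : Scheme.{u}} (g : T ⟶ S) (k : Type u) [Field k]
    (h : Spec (CommRingCat.of k) ⟶ T) (y : (Red.bc h (Red.bc g E)).left) :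
    pr2 g h E y ∈ MoreMor.sectionComponents E.hom η[E].left ↔
      y ∈ connectedComponent (ept (Red.bc h (Red.bc g E))) := by
  have he : η[E].left ≫ E.hom = 𝟙 S := Over.w η[E]
  have he₂ : η[Red.bc h (Red.bc g E)].left ≫ (Red.bc h (Red.bc g E)).hom = 𝟙 _ :=
    Over.w η[Red.bc h (Red.bc g E)]
  have hbc := sectionComponents_baseChange E.hom η[E].left he (Red.bc h (Red.bc g E)).hom
    (pr2 g h E) (h ≫ g) (isPullback_pr2 g h E) η[Red.bc h (Red.bc g E)].left he₂
    (eta_pr2 g h E)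
  rw [← sc_field k (Red.bc h (Red.bc g E)), hbc]
  rfl

theorem exists_mem_sc_of_LD [Smooth P.hom] [GeometricallyConnected P.hom]
    (hex : NonAbH1.IsExactSeq Scheme.fppfPrecoverage u v)
    {T : Scheme.{u}} (g : T ⟶ S) (hLD : LD M T g) (t : T) (x : P.left) (hx : P.hom x = g t) :
    ∃ y ∈ MoreMor.sectionComponents E.hom η[E].left, v.left y = x := by
  obtain ⟨Z, instZ, hZ, e, hG⟩ := hLD
  letI := instZ
  obtain ⟨k, instk, h, pt, hpt⟩ : ∃ (k : Type u) (_ : Field k)
      (h : Spec (CommRingCat.of k) ⟶ T) (pt : ↥(Spec (CommRingCat.of k))), h pt = t :=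
    ⟨T.residueField t, inferInstance, T.fromSpecResidueField t, IsLocalRing.closedPoint _,
      Scheme.fromSpecResidueField_apply t _⟩
  letI := instk
  obtain ⟨hT1, -⟩ := field_transfer u v hex g Z hZ e hG k h
  obtain ⟨x_T, hxT1, hxT2⟩ :=
    Scheme.Pullback.exists_preimage_pullback (f := P.hom) (g := g) x t hx
  have h2 : (pullback.snd P.hom g) x_T = h pt := by rw [hxT2, hpt]
  obtain ⟨x_B, hxB1, hxB2⟩ := Scheme.Pullback.exists_preimage_pullback
    (f := pullback.snd P.hom g) (g := h) x_T pt h2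
  obtain ⟨y₂, hy₂, hy₂v⟩ := hT1 x_B
  refine ⟨pr2 g h E y₂, (mem_sc_iff_pr2 g k h y₂).2 hy₂, ?_⟩
  have hc := pr2_map g h v
  calc v.left (pr2 g h E y₂) = (pr2 g h E ≫ v.left) y₂ := (Scheme.Hom.comp_apply _ _ _).symm
    _ = (((Over.pullback h).map ((Over.pullback g).map v)).left ≫ pr2 g h P) y₂ := by rw [hc]
    _ = pr2 g h P (((Over.pullback h).map ((Over.pullback g).map v)).left y₂) :=
        Scheme.Hom.comp_apply _ _ _
    _ = pr2 g h P x_B := by rw [hy₂v]
    _ = (pullback.fst P.hom g) ((pullback.fst (pullback.snd P.hom g) h) x_B) := by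
        unfold pr2
        exact Scheme.Hom.comp_apply _ _ _
    _ = x := by rw [hxB1, hxT1]

theorem diff_mem_range_eta [Smooth P.hom] [GeometricallyConnected P.hom]
    (hex : NonAbH1.IsExactSeq Scheme.fppfPrecoverage u v)
    {T : Scheme.{u}} (g : T ⟶ S) (hLD : LD M T g) {D₀ : Over S} (a₁ a₂ : D₀ ⟶ E) (δ : D₀ ⟶ M)
    (hrel : a₁ = a₂ * (δ ≫ u))
    (h₁ : ∀ t, a₁.left t ∈ MoreMor.sectionComponents E.hom η[E].left)
    (h₂ : ∀ t, a₂.left t ∈ MoreMor.sectionComponents E.hom η[E].left)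
    (k : Type u) [Field k] (lam : Spec (CommRingCat.of k) ⟶ D₀.left)
    (h : Spec (CommRingCat.of k) ⟶ T) (hcomm : lam ≫ D₀.hom = h ≫ g)
    (pt : ↥(Spec (CommRingCat.of k))) : δ.left (lam pt) ∈ Set.range η[M].left := by
  obtain ⟨Z, instZ, hZ, e, hG⟩ := hLD
  letI := instZ
  obtain ⟨-, hT2⟩ := field_transfer u v hex g Z hZ e hG k h
  obtain ⟨Lam, hLam⟩ : ∃ Lam : Over.mk ((Over.mk ((𝟙_ (Over (Spec (CommRingCat.of k)))).hom ≫ h) :
      Over T).hom ≫ g) ⟶ D₀, Lam.left = lam :=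
    ⟨Over.homMk lam (by
      show lam ≫ D₀.hom = (𝟙 _ ≫ h) ≫ g
      rw [Category.id_comp, hcomm]), rfl⟩
  obtain ⟨y₁, hy₁⟩ : ∃ y₁ : 𝟙_ (Over (Spec (CommRingCat.of k))) ⟶ Red.bc h (Red.bc g E),
      down g (down h y₁) = Lam ≫ a₁ := ⟨up h (up g (Lam ≫ a₁)), by rw [down_up, down_up]⟩
  obtain ⟨y₂, hy₂⟩ : ∃ y₂ : 𝟙_ (Over (Spec (CommRingCat.of k))) ⟶ Red.bc h (Red.bc g E),
      down g (down h y₂) = Lam ≫ a₂ := ⟨up h (up g (Lam ≫ a₂)), by rw [down_up, down_up]⟩
  obtain ⟨d₂, hd₂⟩ : ∃ d₂ : 𝟙_ (Over (Spec (CommRingCat.of k))) ⟶ Red.bc h (Red.bc g M),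
      down g (down h d₂) = Lam ≫ δ := ⟨up h (up g (Lam ≫ δ)), by rw [down_up, down_up]⟩
  have hrel₂ : y₁ = y₂ * (d₂ ≫ (Over.pullback h).map ((Over.pullback g).map u)) := by
    apply down_injective h
    apply down_injective g
    rw [down_mul, down_mul, down_map, down_map, hy₁, hy₂, hd₂, hrel, MonObj.comp_mul,
      Category.assoc]
  have hmem : ∀ (y : 𝟙_ (Over (Spec (CommRingCat.of k))) ⟶ Red.bc h (Red.bc g E))
      (a : D₀ ⟶ E), down g (down h y) = Lam ≫ a →
      (∀ t, a.left t ∈ MoreMor.sectionComponents E.hom η[E].left) →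
      ∀ t, y.left t ∈ connectedComponent (ept (Red.bc h (Red.bc g E))) := by
    intro y a hya ha t
    rw [← mem_sc_iff_pr2 g k h]
    have h3 : y.left ≫ pr2 g h E = lam ≫ a.left := by
      rw [← down_down_pr2 g h y, hya, Over.comp_left, hLam]
    rw [← Scheme.Hom.comp_apply, h3, Scheme.Hom.comp_apply]
    exact ha _
  have hd1 : d₂ = 1 := hT2 y₁ y₂ d₂ hrel₂ (hmem y₁ a₁ hy₁ h₁) (hmem y₂ a₂ hy₂ h₂)
  have h4 : Lam ≫ δ = 1 := by
    rw [← hd₂, hd1, down_one, down_one]
  have h5 := congrArg (fun m => m.left) h4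
  simp only [Over.comp_left, hLam, Hom.one_def, Over.toUnit_left] at h5
  have h6 : (lam ≫ δ.left) pt = δ.left (lam pt) := Scheme.Hom.comp_apply _ _ _
  rw [← h6, h5, Scheme.Hom.comp_apply]
  exact ⟨_, rfl⟩

end Transfer

section Main

open Groth.Agent.Lib.Helper6.FlatQ Groth.Agent.Helper6.TwCEt Groth.Agent.Helper7.GeomConn

variable {S : Scheme.{u}} {P E M : Over S} [GrpObj P] [GrpObj E] [GrpObj M]
  (u : M ⟶ E) (v : E ⟶ P)

theorem eq_of_mem_sc [Smooth P.hom] [GeometricallyConnected P.hom]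
    (hex : NonAbH1.IsExactSeq Scheme.fppfPrecoverage u v) [IsOpenImmersion η[M].left]
    {S' : Scheme.{u}} (f : S' ⟶ S) (hfs : Function.Surjective f)
    (hLD : ∀ s' : S', ∃ U : S'.Opens, s' ∈ U ∧ LD M U (U.ι ≫ f))
    {T₀ : Scheme.{u}} (b₁ b₂ : T₀ ⟶ E.left) (hb : b₁ ≫ v.left = b₂ ≫ v.left)
    (h₁ : ∀ t, b₁ t ∈ MoreMor.sectionComponents E.hom η[E].left)
    (h₂ : ∀ t, b₂ t ∈ MoreMor.sectionComponents E.hom η[E].left) : b₁ = b₂ := by
  have hex' := hex
  obtain ⟨hu, hv, huv, hpb, hloc⟩ := hex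
  haveI := hu
  haveI := hv
  have hEw : v.left ≫ P.hom = E.hom := Over.w v
  obtain ⟨a₁, ha₁⟩ : ∃ a₁ : Over.mk (b₁ ≫ E.hom) ⟶ E, a₁.left = b₁ := ⟨Over.homMk b₁ rfl, rfl⟩
  have hβ : b₂ ≫ E.hom = b₁ ≫ E.hom := by
    rw [← hEw, ← Category.assoc, ← Category.assoc, hb]
  obtain ⟨a₂, ha₂⟩ : ∃ a₂ : Over.mk (b₁ ≫ E.hom) ⟶ E, a₂.left = b₂ := ⟨Over.homMk b₂ hβ, rfl⟩
  have hav : a₂ ≫ v = a₁ ≫ v := by
    apply Over.OverMorphism.ext
    rw [Over.comp_left _ _ _ a₂ v, Over.comp_left _ _ _ a₁ v, ha₁, ha₂]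
    exact hb.symm
  obtain ⟨δ, hδ⟩ := exists_diff u v hpb a₂ a₁ hav
  have hδ1 : δ = 1 := by
    apply eq_one_of_range
    rintro _ ⟨τ, rfl⟩
    obtain ⟨s', hs'⟩ := hfs ((b₁ ≫ E.hom) τ)
    obtain ⟨U, hs'U, hLDU⟩ := hLD s'
    have hgt : (b₁ ≫ E.hom) τ = (U.ι ≫ f) ⟨s', hs'U⟩ := by
      rw [Scheme.Hom.comp_apply U.ι f]
      exact hs'.symm
    obtain ⟨w, hw1, hw2⟩ := Scheme.Pullback.exists_preimage_pullback (f := b₁ ≫ E.hom)
      (g := U.ι ≫ f) τ ⟨s', hs'U⟩ hgt
    obtain ⟨k, instk, lam, h, pt, hlam, hcomm⟩ : ∃ (k : Type u) (_ : Field k)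
        (lam : Spec (CommRingCat.of k) ⟶ (Over.mk (b₁ ≫ E.hom)).left)
        (h : Spec (CommRingCat.of k) ⟶ (U : Scheme.{u})) (pt : ↥(Spec (CommRingCat.of k))),
        lam pt = τ ∧ lam ≫ (Over.mk (b₁ ≫ E.hom)).hom = h ≫ (U.ι ≫ f) := by
      refine ⟨(pullback (b₁ ≫ E.hom) (U.ι ≫ f)).residueField w, inferInstance,
        (pullback (b₁ ≫ E.hom) (U.ι ≫ f)).fromSpecResidueField w ≫
          pullback.fst (b₁ ≫ E.hom) (U.ι ≫ f),
        (pullback (b₁ ≫ E.hom) (U.ι ≫ f)).fromSpecResidueField w ≫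
          pullback.snd (b₁ ≫ E.hom) (U.ι ≫ f),
        IsLocalRing.closedPoint _, ?_, ?_⟩
      · rw [Scheme.Hom.comp_apply, Scheme.fromSpecResidueField_apply]
        exact hw1
      · show (_ ≫ pullback.fst (b₁ ≫ E.hom) (U.ι ≫ f)) ≫ (b₁ ≫ E.hom) = _
        rw [Category.assoc, Category.assoc, pullback.condition]
    letI := instk
    have h7 := diff_mem_range_eta u v hex' (U.ι ≫ f) hLDU a₁ a₂ δ hδ
      (fun t => by rw [ha₁]; exact h₁ t) (fun t => by rw [ha₂]; exact h₂ t) k lam h hcomm pt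
    rw [hlam] at h7
    exact h7
  have h8 : a₁ = a₂ := by
    rw [hδ, hδ1, MonObj.one_comp u, _root_.mul_one]
  rw [← ha₁, ← ha₂, h8]

theorem S8712_core [Smooth P.hom] [QuasiCompact P.hom] [QuasiSeparated P.hom]
    [GeometricallyConnected P.hom] {S' : Scheme.{u}} (f : S' ⟶ S) (hf : FQC f)
    (hLD : ∀ s' : S', ∃ U : S'.Opens, s' ∈ U ∧ LD M U (U.ι ≫ f))
    (hex : NonAbH1.IsExactSeq Scheme.fppfPrecoverage u v) :
    (∀ φ : P ⟶ M, IsMonHom φ → φ = 1) ∧ ∃ s : P ⟶ E, IsMonHom s ∧ s ≫ v = 𝟙 P := by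
  have hfs : Function.Surjective f := hf.2.surjective.surj
  have hloc' : ∀ s' : S', ∃ U : S'.Opens, s' ∈ U ∧ ∃ I : Type u,
      Nonempty (Red.bc (U.ι ≫ f) M ≅ TwC.const U I) := by
    intro s'
    obtain ⟨U, hU, Z, instZ, hZ, e, hG⟩ := hLD s'
    exact ⟨U, hU, Z, ⟨e⟩⟩
  haveI hMet : Etale M.hom :=
    prop_of_fpqc_const @Etale (fun T I => etale_dd T I) M f hf hloc'
  haveI hMsep : IsSeparated M.hom :=
    prop_of_fpqc_const @IsSeparated (fun T I => isSeparated_dd T I) M f hf hloc'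
  have hηsec : η[M].left ≫ M.hom = 𝟙 S := Over.w η[M]
  haveI hηop : IsOpenImmersion η[M].left :=
    Groth.Agent.Lib.Helper4.UnramSec1.section_isOpenImmersion M.hom η[M].left hηsec
  haveI hηcl : IsClosedImmersion η[M].left :=
    Groth.Agent.Lib.Helper4.UnramSec1.section_isClosedImmersion M.hom η[M].left hηsec
  have hcl : IsClosed (Set.range η[M].left) := η[M].left.isClosedEmbedding.isClosed_range
  have hex' := hex
  obtain ⟨hu, hv, huv, hpb, hloc⟩ := hex
  haveI := hu
  haveI := hv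
  haveI hvet : Etale v.left := prop_v u v @Etale hMet hpb hloc
  haveI hvsep : IsSeparated v.left := prop_v u v @IsSeparated hMsep hpb hloc
  refine ⟨fun φ hφ => ?_, ?_⟩
  · haveI := hφ
    apply eq_one_of_clopen hcl φ
    intro x
    refine ⟨P.hom ⁻¹' {P.hom x},
      (P.hom.isConnected_preimage_singleton (P.hom x)).isPreconnected, rfl,
      η[P].left (P.hom x), ?_, ⟨P.hom x, ?_⟩⟩
    · show P.hom (η[P].left (P.hom x)) = P.hom x
      rw [← Scheme.Hom.comp_apply]
      have h1 : η[P].left ≫ P.hom = 𝟙 S := Over.w η[P]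
      rw [h1]
      rfl
    · have h1 : η[P] ≫ φ = η[M] := IsMonHom.one_hom φ
      rw [← h1, Over.comp_left, Scheme.Hom.comp_apply]
  · have hEw : v.left ≫ P.hom = E.hom := Over.w v
    haveI : Smooth E.hom := by
      rw [← hEw]
      infer_instance
    haveI : QuasiSeparated E.hom := by
      rw [← hEw]
      infer_instance
    have he' : η[E].left ≫ E.hom = 𝟙 S := Over.w η[E]
    have hopen := isOpen_sectionComponents_of_qs E.hom η[E].left he'
    obtain ⟨U', hU'⟩ : ∃ U' : E.left.Opens,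
        (U' : Set E.left) = MoreMor.sectionComponents E.hom η[E].left := ⟨⟨_, hopen⟩, rfl⟩
    have hrange : Set.range U'.ι = MoreMor.sectionComponents E.hom η[E].left := by
      rw [Scheme.Opens.range_ι, hU']
    have hsurj : Function.Surjective (U'.ι ≫ v.left) := by
      intro x
      obtain ⟨s', hs'⟩ := hfs (P.hom x)
      obtain ⟨U, hs'U, hLDU⟩ := hLD s'
      have hx : P.hom x = (U.ι ≫ f) ⟨s', hs'U⟩ := by
        rw [Scheme.Hom.comp_apply U.ι f]
        exact hs'.symm
      obtain ⟨y, hy, hyx⟩ := exists_mem_sc_of_LD u v hex' (U.ι ≫ f) hLDU ⟨s', hs'U⟩ x hx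
      rw [← hrange] at hy
      obtain ⟨w, hw⟩ := hy
      exact ⟨w, by rw [Scheme.Hom.comp_apply, hw, hyx]⟩
    haveI hmono : Mono (U'.ι ≫ v.left) := by
      constructor
      intro T₀ α β hαβ
      have h3 : α ≫ U'.ι = β ≫ U'.ι := by
        apply eq_of_mem_sc u v hex' f hfs hLD
        · rw [Category.assoc, Category.assoc]
          exact hαβ
        · intro t
          rw [← hrange, Scheme.Hom.comp_apply]
          exact ⟨_, rfl⟩
        · intro t
          rw [← hrange, Scheme.Hom.comp_apply]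
          exact ⟨_, rfl⟩
      exact (cancel_mono U'.ι).1 h3
    haveI : Etale (U'.ι ≫ v.left) := inferInstance
    haveI : IsOpenImmersion (U'.ι ≫ v.left) := IsOpenImmersion.of_flat_of_mono _
    haveI : Surjective (U'.ι ≫ v.left) := ⟨hsurj⟩
    haveI : IsIso (U'.ι ≫ v.left) :=
      (isIso_iff_isOpenImmersion_and_surjective _).2 ⟨inferInstance, inferInstance⟩
    obtain ⟨e'', he''⟩ : ∃ e'' : S ⟶ (U' : Scheme.{u}), e'' ≫ U'.ι = η[E].left := by
      refine ⟨IsOpenImmersion.lift U'.ι η[E].left ?_, IsOpenImmersion.lift_fac _ _ _⟩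
      rintro _ ⟨s, rfl⟩
      rw [hrange]
      exact section_mem_sectionComponents E.hom η[E].left he' s
    obtain ⟨σ, hσ⟩ : ∃ σ : P.left ⟶ E.left, σ = inv (U'.ι ≫ v.left) ≫ U'.ι := ⟨_, rfl⟩
    have hσv : σ ≫ v.left = 𝟙 P.left := by
      rw [hσ, Category.assoc, IsIso.inv_hom_id]
    have hσe : η[P].left ≫ σ = η[E].left := by
      have h1 : η[E] ≫ v = η[P] := IsMonHom.one_hom v
      have h2 : η[P].left = e'' ≫ (U'.ι ≫ v.left) := by
        rw [← h1, Over.comp_left, ← Category.assoc, he'']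
      rw [h2, hσ, Category.assoc, IsIso.hom_inv_id_assoc, he'']
    obtain ⟨s, hs⟩ : ∃ s : P ⟶ E, s.left = σ :=
      ⟨Over.homMk σ (by rw [← hEw, ← Category.assoc, hσv, Category.id_comp]), rfl⟩
    have hsv : s ≫ v = 𝟙 P := by
      apply Over.OverMorphism.ext
      rw [Over.comp_left, hs, hσv]
      rfl
    have hse : η[P] ≫ s = η[E] := by
      apply Over.OverMorphism.ext
      rw [Over.comp_left, hs, hσe]
    have hb₁v : (μ[P] ≫ s) ≫ v = μ[P] := by
      rw [Category.assoc, hsv, Category.comp_id]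
    have hb₂v : ((fst P P ≫ s) * (snd P P ≫ s)) ≫ v = μ[P] := by
      rw [MonObj.mul_comp (fst P P ≫ s) (snd P P ≫ s) v, Category.assoc, Category.assoc, hsv,
        Category.comp_id, Category.comp_id, Hom.mul_def, lift_fst_snd, Category.id_comp]
    obtain ⟨δ, hδ⟩ := exists_diff u v hpb (μ[P] ≫ s) ((fst P P ≫ s) * (snd P P ≫ s))
      (hb₁v.trans hb₂v.symm)
    obtain ⟨t₁, ht₁⟩ : ∃ t₁ : P ⟶ P ⊗ P, t₁ = lift (𝟙 P) (toUnit P ≫ η[P]) := ⟨_, rfl⟩
    have ht₁μ : t₁ ≫ μ[P] = 𝟙 P := by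
      rw [ht₁, ← Hom.mul_def, ← Hom.one_def, _root_.mul_one]
    have ht₁b₁ : t₁ ≫ (μ[P] ≫ s) = s := by
      rw [← Category.assoc, ht₁μ, Category.id_comp]
    have ht₁b₂ : t₁ ≫ ((fst P P ≫ s) * (snd P P ≫ s)) = s := by
      rw [MonObj.comp_mul, ← Category.assoc, ← Category.assoc, ht₁, lift_fst, lift_snd,
        Category.id_comp, Category.assoc, hse, ← Hom.one_def, _root_.mul_one]
    have hδt : t₁ ≫ δ = 1 := by
      have h2 : t₁ ≫ ((fst P P ≫ s) * (snd P P ≫ s)) = t₁ ≫ ((μ[P] ≫ s) * (δ ≫ u)) := by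
        rw [← hδ]
      rw [ht₁b₂, MonObj.comp_mul, ht₁b₁, ← Category.assoc] at h2
      have h3 : (t₁ ≫ δ) ≫ u = 1 := by
        have h4 : s * ((t₁ ≫ δ) ≫ u) = s * 1 := by
          rw [← h2, _root_.mul_one]
        exact mul_left_cancel h4
      apply u_cancelN u v hpb
      rw [h3, MonObj.one_comp u]
    have hδ1 : δ = 1 := by
      apply eq_one_of_clopen hcl δ
      intro x
      haveI : GeometricallyConnected (fst P P).left := by
        show GeometricallyConnected (pullback.fst P.hom P.hom)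
        infer_instance
      refine ⟨(fst P P).left ⁻¹' {(fst P P).left x},
        ((fst P P).left.isConnected_preimage_singleton _).isPreconnected, rfl,
        t₁.left ((fst P P).left x), ?_, ?_⟩
      · show (fst P P).left (t₁.left ((fst P P).left x)) = (fst P P).left x
        rw [← Scheme.Hom.comp_apply, ← Over.comp_left, ht₁, lift_fst]
        rfl
      · rw [← Scheme.Hom.comp_apply, ← Over.comp_left, hδt, Hom.one_def, Over.comp_left,
          Scheme.Hom.comp_apply]
        exact ⟨_, rfl⟩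
    have hb : (fst P P ≫ s) * (snd P P ≫ s) = μ[P] ≫ s := by
      rw [hδ, hδ1, MonObj.one_comp u, _root_.mul_one]
    refine ⟨s, ⟨hse, ?_⟩, hsv⟩
    rw [← hb, Hom.mul_def, lift_fst_comp_snd_comp]

theorem torsionFree_lattice (r : ℕ) (z : ULift.{u} (Multiplicative (Fin r → ℤ)))
    (hz : IsOfFinOrder z) : z = 1 := by
  obtain ⟨n, hn, hzn⟩ := isOfFinOrder_iff_pow_eq_one.mp hz
  have h1 : z.down ^ n = 1 := congrArg ULift.down hzn
  have h2 : n • Multiplicative.toAdd z.down = 0 := by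
    rw [← toAdd_pow, h1, toAdd_one]
  have h3 : Multiplicative.toAdd z.down = 0 :=
    (smul_eq_zero.mp h2).resolve_left (by omega)
  apply ULift.ext
  exact toAdd_eq_zero.mp h3

end Main

end Groth.Agent.Helper6.ExtRigid
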