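import Mathlib
import Groth.Prelude.Def_NonAbH2
import Groth.Prelude.Def_TwC
import Groth.Agent.Lib.Helper6.ExtRigid.ER6

/-!
# The middle term of an exact sequence is a torsor over the quotient (helper6, for S8717)

Let `1 → G → E → P → 1` be an fppf-exact sequence of group schemes over `B`.  Then `E`, over
`P.left` through `v`, carries an action of `G ×_B P` (by right translation through the inverse)
making it a torsor for the fppf topology.  If `B` is irreducible with geometrically unibranch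
local rings, `G` is constant torsion free and `P` is smooth, the torsor is trivial (`S8707`),
i.e. `v` has a section.
-/

set_option backward.isDefEq.respectTransparency.types false
set_option autoImplicit false
set_option linter.unusedSectionVars false
set_option linter.unusedVariables false
set_option linter.style.haveILetI false
set_option linter.unusedSimpArgs false
set_option maxHeartbeats 800000
set_option synthInstance.maxHeartbeats 400000

open CategoryTheory CategoryTheory.Limits MonoidalCategory CartesianMonoidalCategory MonObj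
  AlgebraicGeometry

namespace Groth.Agent.Helper6.ExtRigid

universe v u

open Groth.Agent.Lib.Helper6.DS

noncomputable section

section SMap

variable {S S' : Scheme.{u}} (f : S' ⟶ S) {G H : Over S} {T T' T'' : Over S'}

/-- the map induced on sources of points over `S` -/
def sMap (m : T' ⟶ T) : Over.mk (T'.hom ≫ f) ⟶ Over.mk (T.hom ≫ f) :=
  Over.homMk m.left (by
    show m.left ≫ T.hom ≫ f = T'.hom ≫ f
    rw [← Category.assoc, Over.w m])

theorem sMap_left (m : T' ⟶ T) : (sMap f m).left = m.left := rfl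

theorem down_comp (m : T' ⟶ T) (x : T ⟶ Red.bc f G) :
    down f (m ≫ x) = sMap f m ≫ down f x := by
  apply Over.OverMorphism.ext
  rw [down_left, Over.comp_left, Over.comp_left, down_left, sMap_left, Category.assoc]

theorem up_comp (m : T' ⟶ T) (y : Over.mk (T.hom ≫ f) ⟶ G) :
    up f (sMap f m ≫ y) = m ≫ up f y := by
  apply down_injective f
  rw [down_up, down_comp, down_up]

variable [GrpObj G]

theorem up_mul (a b : Over.mk (T.hom ≫ f) ⟶ G) : up f (a * b) = up f a * up f b := by
  apply down_injective f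
  rw [down_up, down_mul, down_up, down_up]

theorem up_one : up f (1 : Over.mk (T.hom ≫ f) ⟶ G) = 1 := by
  apply down_injective f
  rw [down_up, down_one]

theorem down_inv (x : T ⟶ Red.bc f G) : down f x⁻¹ = (down f x)⁻¹ := by
  apply eq_inv_of_mul_eq_one_left
  rw [← down_mul, inv_mul_cancel, down_one]

theorem up_inv (a : Over.mk (T.hom ≫ f) ⟶ G) : up f a⁻¹ = (up f a)⁻¹ := by
  apply down_injective f
  rw [down_up, down_inv, down_up]

end SMap

section BPt

variable {B : Scheme.{u}} {G E P : Over B} [GrpObj G] [GrpObj E] [GrpObj P]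
  (u : G ⟶ E) (v : E ⟶ P)

/-- `E` as a scheme over `P.left` through `v`. -/
abbrev XP : Over P.left := Over.mk v.left

variable {T T' : Over P.left}

/-- the tautological point of `P` -/
def tauP (T : Over P.left) : Over.mk (T.hom ≫ P.hom) ⟶ P := Over.homMk T.hom rfl

theorem sMap_tauP (m : T' ⟶ T) : sMap P.hom m ≫ tauP T = tauP T' := by
  apply Over.OverMorphism.ext
  rw [Over.comp_left]
  exact Over.w m

/-- a point of `E` over `P.left` as a point of `E` over `B` -/
def bpt (x : T ⟶ XP v) : Over.mk (T.hom ≫ P.hom) ⟶ E :=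
  Over.homMk x.left (by
    have h1 : x.left ≫ v.left = T.hom := Over.w x
    have h2 : v.left ≫ P.hom = E.hom := Over.w v
    show x.left ≫ E.hom = T.hom ≫ P.hom
    rw [← h2, ← Category.assoc, h1])

theorem bpt_left (x : T ⟶ XP v) : (bpt v x).left = x.left := rfl

theorem bpt_v (x : T ⟶ XP v) : bpt v x ≫ v = tauP T := by
  apply Over.OverMorphism.ext
  rw [Over.comp_left]
  exact Over.w x

theorem bpt_injective : Function.Injective (bpt v (T := T)) := fun a b h => by
  apply Over.OverMorphism.ext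
  exact congrArg (fun k => k.left) h

/-- a point of `E` over `B` lying over the tautological point of `P` is a point over `P.left` -/
def ofBpt (e : Over.mk (T.hom ≫ P.hom) ⟶ E) (h : e ≫ v = tauP T) : T ⟶ XP v :=
  Over.homMk e.left (by
    have h1 := congrArg (fun k => k.left) h
    simp only [Over.comp_left] at h1
    exact h1)

theorem bpt_ofBpt (e : Over.mk (T.hom ≫ P.hom) ⟶ E) (h : e ≫ v = tauP T) :
    bpt v (ofBpt v e h) = e := by
  apply Over.OverMorphism.ext
  rfl

theorem bpt_comp (m : T' ⟶ T) (x : T ⟶ XP v) :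
    bpt v (m ≫ x) = sMap P.hom m ≫ bpt v x := by
  apply Over.OverMorphism.ext
  rw [bpt_left, Over.comp_left, Over.comp_left, bpt_left, sMap_left]

variable [IsMonHom u] [IsMonHom v] (huv : u ≫ v = 1)

include huv in
theorem act_aux (e : Over.mk (T.hom ≫ P.hom) ⟶ E) (g : Over.mk (T.hom ≫ P.hom) ⟶ G)
    (h : e ≫ v = tauP T) : (e * (g ≫ u)⁻¹) ≫ v = tauP T := by
  rw [MonObj.mul_comp, GrpObj.inv_comp, Category.assoc, huv, MonObj.comp_one, _root_.inv_one,
    _root_.mul_one, h]

/-- the action of `G ×_B P` on `E` over `P`: `(g, e) ↦ e · u(g)⁻¹` -/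
def actM : Red.bc P.hom G ⊗ XP v ⟶ XP v :=
  ofBpt v (bpt v (snd (Red.bc P.hom G) (XP v)) *
      (down P.hom (fst (Red.bc P.hom G) (XP v)) ≫ u)⁻¹)
    (act_aux u v huv _ _ (bpt_v v _))

theorem bpt_comp_actM (m : T ⟶ Red.bc P.hom G ⊗ XP v) :
    bpt v (m ≫ actM u v huv) =
      bpt v (m ≫ snd (Red.bc P.hom G) (XP v)) *
        (down P.hom (m ≫ fst (Red.bc P.hom G) (XP v)) ≫ u)⁻¹ := by
  rw [bpt_comp, bpt_comp, down_comp]
  unfold actM
  rw [bpt_ofBpt, MonObj.comp_mul, GrpObj.comp_inv, Category.assoc]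

theorem bpt_comp_actM_assoc {W : Over P.left} (m' : T ⟶ W)
    (m : W ⟶ Red.bc P.hom G ⊗ XP v) :
    bpt v (m' ≫ m ≫ actM u v huv) =
      bpt v (m' ≫ m ≫ snd (Red.bc P.hom G) (XP v)) *
        (down P.hom (m' ≫ m ≫ fst (Red.bc P.hom G) (XP v)) ≫ u)⁻¹ := by
  rw [← Category.assoc, bpt_comp_actM, Category.assoc, Category.assoc]

theorem actM_one :
    (η[Red.bc P.hom G] ▷ XP v) ≫ actM u v huv = (λ_ (XP v)).hom := by
  apply bpt_injective v
  rw [bpt_comp_actM, whiskerRight_snd, whiskerRight_fst, leftUnitor_hom]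
  have h1 : fst (𝟙_ (Over P.left)) (XP v) ≫ η[Red.bc P.hom G] = 1 := by
    rw [Hom.one_def]
    congr 1
  rw [h1, down_one, MonObj.one_comp u, _root_.inv_one, _root_.mul_one]

theorem actM_mul :
    (μ[Red.bc P.hom G] ▷ XP v) ≫ actM u v huv =
      (α_ (Red.bc P.hom G) (Red.bc P.hom G) (XP v)).hom ≫
        (Red.bc P.hom G ◁ actM u v huv) ≫ actM u v huv := by
  apply bpt_injective v
  have hμ : μ[Red.bc P.hom G] = fst (Red.bc P.hom G) (Red.bc P.hom G) *
      snd (Red.bc P.hom G) (Red.bc P.hom G) := by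
    rw [Hom.mul_def, lift_fst_snd, Category.id_comp]
  have hL : bpt v ((μ[Red.bc P.hom G] ▷ XP v) ≫ actM u v huv) =
      bpt v (snd (Red.bc P.hom G ⊗ Red.bc P.hom G) (XP v)) *
        ((down P.hom (fst (Red.bc P.hom G ⊗ Red.bc P.hom G) (XP v) ≫
            snd (Red.bc P.hom G) (Red.bc P.hom G)) ≫ u)⁻¹ *
          (down P.hom (fst (Red.bc P.hom G ⊗ Red.bc P.hom G) (XP v) ≫
            fst (Red.bc P.hom G) (Red.bc P.hom G)) ≫ u)⁻¹) := by
    rw [bpt_comp_actM, whiskerRight_snd, whiskerRight_fst, hμ, MonObj.comp_mul, down_mul,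
      MonObj.mul_comp _ _ u, _root_.mul_inv_rev]
  have hR : bpt v ((α_ (Red.bc P.hom G) (Red.bc P.hom G) (XP v)).hom ≫
        (Red.bc P.hom G ◁ actM u v huv) ≫ actM u v huv) =
      (bpt v (snd (Red.bc P.hom G ⊗ Red.bc P.hom G) (XP v)) *
        (down P.hom (fst (Red.bc P.hom G ⊗ Red.bc P.hom G) (XP v) ≫
            snd (Red.bc P.hom G) (Red.bc P.hom G)) ≫ u)⁻¹) *
          (down P.hom (fst (Red.bc P.hom G ⊗ Red.bc P.hom G) (XP v) ≫
            fst (Red.bc P.hom G) (Red.bc P.hom G)) ≫ u)⁻¹ := by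
    rw [bpt_comp_actM_assoc, whiskerLeft_snd, whiskerLeft_fst, associator_hom_fst,
      bpt_comp_actM_assoc, associator_hom_snd_snd, associator_hom_snd_fst]
  rw [hL, hR, _root_.mul_assoc]

theorem isIso_shear (hpb : IsPullback (fst E G) ((E ◁ u) ≫ μ[E]) v v) :
    IsIso (lift (actM u v huv) (snd (Red.bc P.hom G) (XP v))) := by
  apply isIso_of_yoneda_map_bijective
  intro T
  constructor
  · intro m₁ m₂ h
    have h' : m₁ ≫ lift (actM u v huv) (snd (Red.bc P.hom G) (XP v)) =
        m₂ ≫ lift (actM u v huv) (snd (Red.bc P.hom G) (XP v)) := h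
    have ha : m₁ ≫ actM u v huv = m₂ ≫ actM u v huv := by
      have := congrArg (fun k => k ≫ fst (XP v) (XP v)) h'
      simpa only [Category.assoc, lift_fst] using this
    have hs : m₁ ≫ snd (Red.bc P.hom G) (XP v) = m₂ ≫ snd (Red.bc P.hom G) (XP v) := by
      have := congrArg (fun k => k ≫ snd (XP v) (XP v)) h'
      simpa only [Category.assoc, lift_snd] using this
    have hb := congrArg (bpt v) ha
    rw [bpt_comp_actM, bpt_comp_actM, hs] at hb
    have h3 : down P.hom (m₁ ≫ fst (Red.bc P.hom G) (XP v)) ≫ u =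
        down P.hom (m₂ ≫ fst (Red.bc P.hom G) (XP v)) ≫ u :=
      inv_injective (mul_left_cancel hb)
    have h4 := u_cancelN u v hpb _ _ h3
    have h5 := down_injective P.hom h4
    apply CartesianMonoidalCategory.hom_ext
    · exact h5
    · exact hs
  · intro n
    obtain ⟨δ, hδ⟩ := exists_diff u v hpb (bpt v (n ≫ snd (XP v) (XP v)))
      (bpt v (n ≫ fst (XP v) (XP v))) (by rw [bpt_v, bpt_v])
    refine ⟨lift (up P.hom δ⁻¹) (n ≫ snd (XP v) (XP v)), ?_⟩
    show lift (up P.hom δ⁻¹) (n ≫ snd (XP v) (XP v)) ≫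
      lift (actM u v huv) (snd (Red.bc P.hom G) (XP v)) = n
    apply CartesianMonoidalCategory.hom_ext
    · rw [Category.assoc, lift_fst]
      apply bpt_injective v
      rw [bpt_comp_actM, lift_snd, lift_fst, down_up, GrpObj.inv_comp, _root_.inv_inv, hδ]
    · rw [Category.assoc, lift_snd, lift_snd]

end BPt

section Sec

theorem exists_section_of_exact (B : Scheme.{u}) [IrreducibleSpace ↥B]
    (hB : ∀ s : ↥B, CAlg2.IsGeomUnibranch ↑(B.presheaf.stalk s))
    (Z : Type u) [Group Z] (hZ : ∀ z : Z, IsOfFinOrder z → z = 1)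
    (G E P : Over B) [GrpObj G] [GrpObj E] [GrpObj P] [Smooth P.hom]
    (eG : G ≅ TwC.const B Z) (hG : TwC.IsConstGrp Z G eG)
    (u : G ⟶ E) (v : E ⟶ P) (hex : NonAbH1.IsExactSeq Scheme.fppfPrecoverage u v) :
    ∃ s : P ⟶ E, s ≫ v = 𝟙 P := by
  obtain ⟨hu, hv, huv, hpb, hloc⟩ := hex
  haveI := hu
  haveI := hv
  obtain ⟨eG', hG'⟩ := exists_const_bc P.hom Z G eG hG
  obtain ⟨σ, hσ⟩ := S8707_main B hB Z hZ P.left P.hom (Red.bc P.hom G) eG' hG'
    ⟨XP v, ⟨actM u v huv, actM_one u v huv, actM_mul u v huv⟩,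
      ⟨isIso_shear u v huv hpb, hloc⟩⟩
  have hσ' : σ ≫ v.left = 𝟙 P.left := hσ
  have hEw : v.left ≫ P.hom = E.hom := Over.w v
  refine ⟨Over.homMk σ (by rw [← hEw, ← Category.assoc, hσ', Category.id_comp]), ?_⟩
  apply Over.OverMorphism.ext
  rw [Over.comp_left]
  exact hσ'

end Sec

end

end Groth.Agent.Helper6.ExtRigid
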