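import Mathlib
import Groth.Prelude.Def_NonAbH2
import Groth.Prelude.Def_TwC
import Groth.Agent.Lib.Helper6.ExtRigid.ER6
import Groth.Agent.Lib.Helper6.ExtRigid.ER8

/-!
# Morphisms to a constant scheme and the generic fibre (helper6, for S8717)

* morphisms `T ⟶ Z_S` over `S` are the same as locally constant functions `T → Z`
  (`hom_ext_idx`, `exists_hom_idx`, and the versions `hom_ext_cidx`, `exists_hom_cidx` for a scheme
  isomorphic to `Z_S`);
* for `X` smooth over an irreducible scheme `S` with geometrically unibranch local rings and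
  generic point `ξ`, every morphism from the generic fibre `X_ξ` to `Z_S` extends uniquely to `X`
  (`gen_inj`, `gen_surj`).
-/

set_option backward.isDefEq.respectTransparency.types false
set_option autoImplicit false
set_option linter.unusedSectionVars false
set_option linter.unusedVariables false
set_option linter.style.haveILetI false
set_option linter.unusedSimpArgs false
set_option maxHeartbeats 800000
set_option synthInstance.maxHeartbeats 400000

open CategoryTheory CategoryTheory.Limits MonoidalCategory CartesianMonoidalCategory MonObj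
  AlgebraicGeometry

namespace Groth.Agent.Helper6.ExtRigid

universe v u

open Groth.Agent.Lib.Helper6.DS

noncomputable section

section LocConst

variable {S : Scheme.{u}} {Z : Type u}

theorem isLocallyConstant_idx : IsLocallyConstant (idx (S := S) (Z := Z)) :=
  IsLocallyConstant.iff_isOpen_fiber.2 (fun z => isOpen_idx_fiber z)

/-- level sets of a locally constant function -/
def lvl {X : Scheme.{u}} (f : X → Z) (hf : IsLocallyConstant f) (z : Z) : X.Opens :=
  ⟨f ⁻¹' {z}, hf.isOpen_fiber z⟩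

theorem isColimit_lvl {X : Scheme.{u}} (f : X → Z) (hf : IsLocallyConstant f) :
    Nonempty (IsColimit (Cofan.mk X (fun z : Z => (lvl f hf z).ι))) := by
  apply nonempty_isColimit_cofanMk_of
  · rw [eq_top_iff]
    rintro x -
    refine TopologicalSpace.Opens.mem_iSup.2 ⟨f x, ?_⟩
    rw [Scheme.Opens.opensRange_ι]
    exact rfl
  · intro z z' hzz
    show Disjoint (lvl f hf z).ι.opensRange (lvl f hf z').ι.opensRange
    rw [Scheme.Opens.opensRange_ι, Scheme.Opens.opensRange_ι, disjoint_iff, eq_bot_iff]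
    rintro x ⟨h1, h2⟩
    exact (hzz (h1.symm.trans h2)).elim

theorem lvl_comp_eq {T : Over S} (f : T.left → Z) (hf : IsLocallyConstant f)
    (a : T ⟶ TwC.const S Z) (z : Z) (h : ∀ t, f t = z → idx (a.left t) = z) :
    (lvl f hf z).ι ≫ a.left = ((lvl f hf z).ι ≫ T.hom) ≫ Sigma.ι (fun _ : Z => S) z := by
  have hsub : Set.range ((lvl f hf z).ι ≫ a.left) ⊆ Set.range (Sigma.ι (fun _ : Z => S) z) := by
    rintro _ ⟨t, rfl⟩
    rw [Scheme.Hom.comp_apply]
    have ht : (lvl f hf z).ι t ∈ ((lvl f hf z : T.left.Opens) : Set T.left) := by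
      rw [← Scheme.Opens.range_ι]
      exact ⟨t, rfl⟩
    exact (idx_eq_iff _ z).1 (h _ ht)
  have h1 := factor_sigma (S := S) (Z := Z) ((lvl f hf z).ι ≫ a.left) z hsub
  have hw : a.left ≫ Sigma.desc (fun _ : Z => 𝟙 S) = T.hom := Over.w a
  have h2 : ((lvl f hf z).ι ≫ a.left) ≫ Sigma.desc (fun _ : Z => 𝟙 S) =
      (lvl f hf z).ι ≫ T.hom := by
    rw [Category.assoc, hw]
  rw [h2] at h1
  exact h1

theorem hom_ext_idx {T : Over S} (a b : T ⟶ TwC.const S Z)
    (h : ∀ t : T.left, idx (a.left t) = idx (b.left t)) : a = b := by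
  have hf : IsLocallyConstant (fun t : T.left => idx (a.left t)) :=
    isLocallyConstant_idx.comp_continuous a.left.continuous
  obtain ⟨hc⟩ := isColimit_lvl (fun t : T.left => idx (a.left t)) hf
  apply Over.OverMorphism.ext
  refine Cofan.IsColimit.hom_ext hc _ _ (fun z => ?_)
  show (lvl _ hf z).ι ≫ a.left = (lvl _ hf z).ι ≫ b.left
  rw [lvl_comp_eq _ hf a z (fun t ht => ht),
    lvl_comp_eq _ hf b z (fun t ht => by rw [← h t]; exact ht)]

theorem exists_hom_idx {T : Over S} (f : T.left → Z) (hf : IsLocallyConstant f) :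
    ∃ a : T ⟶ TwC.const S Z, ∀ t, idx (a.left t) = f t := by
  obtain ⟨hc⟩ := isColimit_lvl f hf
  obtain ⟨α, hα⟩ : ∃ α : T.left ⟶ ∐ fun _ : Z => S, ∀ z,
      (lvl f hf z).ι ≫ α = ((lvl f hf z).ι ≫ T.hom) ≫ Sigma.ι (fun _ : Z => S) z :=
    ⟨Cofan.IsColimit.desc hc
      (fun z => ((lvl f hf z).ι ≫ T.hom) ≫ Sigma.ι (fun _ : Z => S) z),
      fun z => Cofan.IsColimit.fac hc _ z⟩
  have hw : α ≫ Sigma.desc (fun _ : Z => 𝟙 S) = T.hom := by
    refine Cofan.IsColimit.hom_ext hc _ _ (fun z => ?_)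
    show (lvl f hf z).ι ≫ α ≫ Sigma.desc (fun _ : Z => 𝟙 S) = (lvl f hf z).ι ≫ T.hom
    rw [← Category.assoc, hα z, Category.assoc, Sigma.ι_desc, Category.comp_id]
  refine ⟨Over.homMk α hw, fun t => ?_⟩
  obtain ⟨z, hz⟩ : ∃ z, f t = z := ⟨_, rfl⟩
  rw [hz, idx_eq_iff]
  show α t ∈ Set.range (Sigma.ι (fun _ : Z => S) z)
  have ht : t ∈ Set.range (lvl f hf z).ι := by
    rw [Scheme.Opens.range_ι]
    exact hz
  obtain ⟨t', rfl⟩ := ht
  rw [← Scheme.Hom.comp_apply, hα, Scheme.Hom.comp_apply]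
  exact ⟨_, rfl⟩

variable {G : Over S} (eG : G ≅ TwC.const S Z)

/-- the locally constant function attached to a morphism to a constant scheme -/
def cidx {T : Over S} (a : T ⟶ G) (t : T.left) : Z := idx ((a ≫ eG.hom).left t)

theorem isLocallyConstant_cidx {T : Over S} (a : T ⟶ G) : IsLocallyConstant (cidx eG a) :=
  isLocallyConstant_idx.comp_continuous (a ≫ eG.hom).left.continuous

theorem hom_ext_cidx {T : Over S} (a b : T ⟶ G) (h : ∀ t, cidx eG a t = cidx eG b t) :
    a = b := by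
  have h1 : a ≫ eG.hom = b ≫ eG.hom := hom_ext_idx _ _ h
  exact (cancel_mono eG.hom).1 h1

theorem exists_hom_cidx {T : Over S} (f : T.left → Z) (hf : IsLocallyConstant f) :
    ∃ a : T ⟶ G, ∀ t, cidx eG a t = f t := by
  obtain ⟨a₀, ha₀⟩ := exists_hom_idx (S := S) f hf
  refine ⟨a₀ ≫ eG.inv, fun t => ?_⟩
  unfold cidx
  rw [Category.assoc, Iso.inv_hom_id, Category.comp_id]
  exact ha₀ t

theorem cidx_comp {T T' : Over S} (m : T' ⟶ T) (a : T ⟶ G) (t' : T'.left) :
    cidx eG (m ≫ a) t' = cidx eG a (m.left t') := by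
  unfold cidx
  rw [Category.assoc, Over.comp_left _ _ _ m (a ≫ eG.hom), Scheme.Hom.comp_apply]

end LocConst

section Gen

variable {S : Scheme.{u}} (ξ : S)

/-- the generic fibre of `X`, as a scheme over `S` -/
abbrev gen (X : Over S) : Over S :=
  Over.mk ((Red.bc (S.fromSpecResidueField ξ) X).hom ≫ S.fromSpecResidueField ξ)

/-- the inclusion of the generic fibre -/
def jj (X : Over S) : gen ξ X ⟶ X :=
  down (S.fromSpecResidueField ξ) (𝟙 (Red.bc (S.fromSpecResidueField ξ) X))

theorem jj_left (X : Over S) : (jj ξ X).left = X.hom.fiberι ξ := by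
  unfold jj
  rw [down_left, Over.id_left, Category.id_comp]
  rfl

theorem range_jj (X : Over S) : Set.range (jj ξ X).left = X.hom ⁻¹' {ξ} := by
  rw [jj_left]
  exact Scheme.Hom.range_fiberι X.hom ξ

theorem isEmbedding_jj (X : Over S) : Topology.IsEmbedding (jj ξ X).left := by
  rw [jj_left]
  exact (X.hom.fiberι ξ).isEmbedding

theorem eq_sMap_jj {T : Over (Spec (S.residueField ξ))} {W : Over S}
    (m : Over.mk (T.hom ≫ S.fromSpecResidueField ξ) ⟶ W) :
    m = sMap (S.fromSpecResidueField ξ) (up (S.fromSpecResidueField ξ) m) ≫ jj ξ W := by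
  unfold jj
  rw [← down_comp, Category.comp_id, down_up]

theorem jj_comp {W W' : Over S} (x : W' ⟶ W) :
    jj ξ W' ≫ x = down (S.fromSpecResidueField ξ)
      ((Over.pullback (S.fromSpecResidueField ξ)).map x) := by
  unfold jj
  rw [← down_map, Category.id_comp]

variable (hξ : IsGenericPoint ξ (Set.univ : Set S))

include hξ in
theorem dense_jj (X : Over S) [Smooth X.hom] : Dense (Set.range (jj ξ X).left) := by
  rw [range_jj, dense_iff_inter_open]
  intro U hU hne
  have hopen : IsOpen (X.hom '' U) := X.hom.isOpenMap U hU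
  have h1 : ξ ∈ X.hom '' U := by
    rw [hξ.mem_open_set_iff hopen]
    obtain ⟨x, hx⟩ := hne
    exact ⟨X.hom x, Set.mem_univ _, x, hx, rfl⟩
  obtain ⟨y, hyU, hy⟩ := h1
  exact ⟨y, hyU, hy⟩

include hξ in
theorem gen_fibre_irr (X : Over S) [Smooth X.hom] (N : Set X.left) (hNo : IsOpen N)
    (hN : IsIrreducible N) :
    (∃ w : (gen ξ X).left, (jj ξ X).left w ∈ N) ∧
      _root_.IsPreconnected ((jj ξ X).left ⁻¹' N) := by
  have hex : ∃ w : (gen ξ X).left, (jj ξ X).left w ∈ N := by
    obtain ⟨x, hxN, w, hw⟩ := dense_iff_inter_open.1 (dense_jj ξ hξ X) N hNo hN.nonempty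
    exact ⟨w, by rw [hw]; exact hxN⟩
  refine ⟨hex, ?_⟩
  obtain ⟨g, hg⟩ : ∃ g, g = hN.genericPoint := ⟨_, rfl⟩
  have hgen : IsGenericPoint g (closure N) := by
    rw [hg]
    exact hN.isGenericPoint_genericPoint_closure
  have hgN : g ∈ N := by
    rw [hgen.mem_open_set_iff hNo]
    obtain ⟨x, hx⟩ := hN.nonempty
    exact ⟨x, subset_closure hx, hx⟩
  have hgξ : X.hom g = ξ := by
    obtain ⟨w, hw⟩ := hex
    have hn : X.hom ((jj ξ X).left w) = ξ := by
      have : (jj ξ X).left w ∈ X.hom ⁻¹' {ξ} := by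
        rw [← range_jj]
        exact ⟨w, rfl⟩
      exact this
    have h1 : g ⤳ (jj ξ X).left w := hgen.specializes (subset_closure hw)
    have h2 : X.hom g ⤳ X.hom ((jj ξ X).left w) := h1.map X.hom.continuous
    have h3 : ξ ⤳ X.hom g := hξ.specializes (Set.mem_univ _)
    rw [hn] at h2
    exact (h2.antisymm h3).eq
  rw [← (isEmbedding_jj ξ X).toIsInducing.isPreconnected_image,
    Set.image_preimage_eq_inter_range, range_jj]
  refine IsPreconnected.subset_closure (s := {g}) isPreconnected_singleton ?_ ?_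
  · rw [Set.singleton_subset_iff]
    exact ⟨hgN, hgξ⟩
  · intro y hy
    rw [hgen.def]
    exact subset_closure hy.1

include hξ in
theorem gen_inj {Z : Type u} {G : Over S} (eG : G ≅ TwC.const S Z) (X : Over S)
    [Smooth X.hom] (a b : X ⟶ G) (h : jj ξ X ≫ a = jj ξ X ≫ b) : a = b := by
  apply hom_ext_cidx eG
  letI : TopologicalSpace Z := ⊥
  haveI : DiscreteTopology Z := ⟨rfl⟩
  have h1 : cidx eG a = cidx eG b := by
    refine Continuous.ext_on (dense_jj ξ hξ X) (isLocallyConstant_cidx eG a).continuous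
      (isLocallyConstant_cidx eG b).continuous ?_
    rintro _ ⟨w, rfl⟩
    rw [← cidx_comp, ← cidx_comp, h]
  exact fun t => congrFun h1 t

include hξ in
theorem gen_surj [IrreducibleSpace S]
    (hS : ∀ s : S, CAlg2.IsGeomUnibranch (S.presheaf.stalk s))
    {Z : Type u} {G : Over S} (eG : G ≅ TwC.const S Z) (X : Over S) [Smooth X.hom]
    (a' : gen ξ X ⟶ G) : ∃ a : X ⟶ G, jj ξ X ≫ a = a' := by
  have hloc := hloc_smooth X.hom hS
  choose N hNo hxN hNirr using hloc
  have hpre : ∀ x, (∃ w : (gen ξ X).left, (jj ξ X).left w ∈ N x) ∧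
      _root_.IsPreconnected ((jj ξ X).left ⁻¹' N x) :=
    fun x => gen_fibre_irr ξ hξ X (N x) (hNo x) (hNirr x)
  choose w hw using fun x => (hpre x).1
  have hlc : IsLocallyConstant (cidx eG a') := isLocallyConstant_cidx eG a'
  have hconst : ∀ (x : X.left) (w₁ w₂ : (gen ξ X).left), (jj ξ X).left w₁ ∈ N x →
      (jj ξ X).left w₂ ∈ N x → cidx eG a' w₁ = cidx eG a' w₂ :=
    fun x w₁ w₂ h₁ h₂ => hlc.apply_eq_of_isPreconnected (hpre x).2 h₁ h₂
  have hflc : IsLocallyConstant (fun x : X.left => cidx eG a' (w x)) := by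
    rw [IsLocallyConstant.iff_exists_open]
    intro x
    refine ⟨N x, hNo x, hxN x, fun x' hx' => ?_⟩
    obtain ⟨y, ⟨hy1, hy2⟩, w'', hw''⟩ := dense_iff_inter_open.1 (dense_jj ξ hξ X)
      (N x ∩ N x') ((hNo x).inter (hNo x')) ⟨x', hx', hxN x'⟩
    show cidx eG a' (w x') = cidx eG a' (w x)
    have e1 : cidx eG a' (w x') = cidx eG a' w'' :=
      hconst x' _ _ (hw x') (by rw [hw'']; exact hy2)
    have e2 : cidx eG a' (w x) = cidx eG a' w'' :=
      hconst x _ _ (hw x) (by rw [hw'']; exact hy1)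
    rw [e1, e2]
  obtain ⟨a, ha⟩ := exists_hom_cidx eG _ hflc
  refine ⟨a, ?_⟩
  apply hom_ext_cidx eG
  intro t
  rw [cidx_comp, ha]
  exact hconst _ _ _ (hw _) (hxN _)

end Gen

end

end Groth.Agent.Helper6.ExtRigid
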