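import Mathlib
import Groth.Prelude.Def_NonAbH2
import Groth.Prelude.Def_TwC
import Groth.Agent.Lib.Helper6.ExtRigid.ER8
import Groth.Agent.Lib.Helper6.ExtRigid.ER9

/-!
# Points of a split extension over the generic fibre (helper6, for S8717)

Given an exact sequence `1 → G_η → E' → P_η → 1` over the generic point `η` of `S` with a
scheme-theoretic section `s'` of `v'`, the points of `E'` are pairs of a point of `G` and a point
of `P` (`Psi`).  For `W` smooth over `S`, morphisms `W ⟶ G ×_S P` are determined by their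
`P`-component and the induced morphism `W_η ⟶ E'` (`ev_inj`), and every compatible pair arises
(`ev_surj`).
-/

set_option backward.isDefEq.respectTransparency.types false
set_option autoImplicit false
set_option linter.unusedSectionVars false
set_option linter.unusedVariables false
set_option linter.style.haveILetI false
set_option linter.unusedSimpArgs false
set_option maxHeartbeats 800000
set_option synthInstance.maxHeartbeats 400000

open CategoryTheory CategoryTheory.Limits MonoidalCategory CartesianMonoidalCategory MonObj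
  AlgebraicGeometry

namespace Groth.Agent.Helper6.ExtRigid

universe v u

open Groth.Agent.Lib.Helper6.DS

noncomputable section

section CatOne

variable {C : Type u} [Category.{v} C] [CartesianMonoidalCategory C]

theorem one_eq_eta (M : C) [MonObj M] : (1 : 𝟙_ C ⟶ M) = η[M] := by
  rw [Hom.one_def, toUnit_unique (toUnit (𝟙_ C)) (𝟙 _), Category.id_comp]

end CatOne

section PsiSec

variable {S S' : Scheme.{u}} (f : S' ⟶ S) {G P : Over S} [GrpObj G] [GrpObj P]
  {E' : Over S'} [GrpObj E'] (u' : Red.bc f G ⟶ E') (v' : E' ⟶ Red.bc f P)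
  (s' : Red.bc f P ⟶ E') {T T' : Over S'}

/-- the point `s'(p) · u'(g)` of `E'` -/
def Psi (g : Over.mk (T.hom ≫ f) ⟶ G) (p : Over.mk (T.hom ≫ f) ⟶ P) : T ⟶ E' :=
  (up f p ≫ s') * (up f g ≫ u')

theorem Psi_nat (m : T' ⟶ T) (g : Over.mk (T.hom ≫ f) ⟶ G) (p : Over.mk (T.hom ≫ f) ⟶ P) :
    Psi f u' s' (sMap f m ≫ g) (sMap f m ≫ p) = m ≫ Psi f u' s' g p := by
  unfold Psi
  rw [up_comp, up_comp, MonObj.comp_mul, Category.assoc, Category.assoc]

variable [IsMonHom u'] [IsMonHom v'] (huv : u' ≫ v' = 1) (hs : s' ≫ v' = 𝟙 (Red.bc f P))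

include huv hs in
theorem Psi_v (g : Over.mk (T.hom ≫ f) ⟶ G) (p : Over.mk (T.hom ≫ f) ⟶ P) :
    Psi f u' s' g p ≫ v' = up f p := by
  unfold Psi
  rw [MonObj.mul_comp, Category.assoc, hs, Category.comp_id, Category.assoc, huv,
    MonObj.comp_one, _root_.mul_one]

include huv hs in
theorem Psi_inj (hpb : IsPullback (fst E' (Red.bc f G)) ((E' ◁ u') ≫ μ[E']) v' v')
    (g g' : Over.mk (T.hom ≫ f) ⟶ G) (p p' : Over.mk (T.hom ≫ f) ⟶ P)
    (h : Psi f u' s' g p = Psi f u' s' g' p') : g = g' ∧ p = p' := by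
  have hp : p = p' := by
    have h1 := congrArg (fun k => k ≫ v') h
    simp only [Psi_v f u' v' s' huv hs] at h1
    have h2 := congrArg (down f) h1
    rwa [down_up, down_up] at h2
  subst hp
  refine ⟨?_, rfl⟩
  unfold Psi at h
  have h3 := mul_left_cancel h
  have h4 := u_cancelN u' v' hpb _ _ h3
  have h5 := congrArg (down f) h4
  rwa [down_up, down_up] at h5

include hs in
theorem Psi_surj (hpb : IsPullback (fst E' (Red.bc f G)) ((E' ◁ u') ≫ μ[E']) v' v')
    (ω : T ⟶ E') :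
    ∃ (g : Over.mk (T.hom ≫ f) ⟶ G) (p : Over.mk (T.hom ≫ f) ⟶ P), Psi f u' s' g p = ω := by
  obtain ⟨δ, hδ⟩ := exists_diff u' v' hpb ((ω ≫ v') ≫ s') ω
    (by rw [Category.assoc, hs, Category.comp_id])
  refine ⟨down f δ, down f (ω ≫ v'), ?_⟩
  unfold Psi
  rw [up_down, up_down, ← hδ]

theorem Psi_mul_right (g₁ g₂ : Over.mk (T.hom ≫ f) ⟶ G) (p : Over.mk (T.hom ≫ f) ⟶ P) :
    Psi f u' s' (g₁ * g₂) p = Psi f u' s' g₁ p * (up f g₂ ≫ u') := by
  unfold Psi
  rw [up_mul, MonObj.mul_comp, _root_.mul_assoc]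

theorem Psi_one (hs1 : η[Red.bc f P] ≫ s' = η[E']) (g : Over.mk (T.hom ≫ f) ⟶ G) :
    Psi f u' s' g 1 = up f g ≫ u' := by
  unfold Psi
  rw [up_one, Hom.one_def, Category.assoc, hs1, ← Hom.one_def, _root_.one_mul]

include hs in
theorem exists_normalized_section :
    ∃ s'' : Red.bc f P ⟶ E', s'' ≫ v' = 𝟙 (Red.bc f P) ∧ η[Red.bc f P] ≫ s'' = η[E'] := by
  obtain ⟨c, hc⟩ : ∃ c : 𝟙_ (Over S') ⟶ E', c = η[Red.bc f P] ≫ s' := ⟨_, rfl⟩
  have hcv : c ≫ v' = 1 := by
    rw [hc, Category.assoc, hs, Category.comp_id]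
    exact (one_eq_eta _).symm
  refine ⟨s' * (toUnit _ ≫ c⁻¹), ?_, ?_⟩
  · rw [MonObj.mul_comp, hs, Category.assoc, GrpObj.inv_comp, hcv, _root_.inv_one,
      MonObj.comp_one, _root_.mul_one]
  · rw [MonObj.comp_mul, ← hc, ← Category.assoc,
      toUnit_unique (η[Red.bc f P] ≫ toUnit (Red.bc f P)) (𝟙 _), Category.id_comp,
      _root_.mul_inv_cancel]
    exact one_eq_eta _

end PsiSec

section Tw

variable {S : Scheme.{u}}

/-- the underlying scheme of the extension: `G ×_S P` -/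
def tw (G P : Over S) : Over S := G ⊗ P

variable {G P : Over S}

def twFst : tw G P ⟶ G := fst G P

def twSnd : tw G P ⟶ P := snd G P

def twLift {W : Over S} (a : W ⟶ G) (b : W ⟶ P) : W ⟶ tw G P := lift a b

theorem twLift_fst {W : Over S} (a : W ⟶ G) (b : W ⟶ P) : twLift a b ≫ twFst = a :=
  lift_fst _ _

theorem twLift_snd {W : Over S} (a : W ⟶ G) (b : W ⟶ P) : twLift a b ≫ twSnd = b :=
  lift_snd _ _

theorem comp_twLift {W W' : Over S} (x : W' ⟶ W) (a : W ⟶ G) (b : W ⟶ P) :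
    x ≫ twLift a b = twLift (x ≫ a) (x ≫ b) := comp_lift _ _ _

theorem tw_ext {W : Over S} (a b : W ⟶ tw G P) (h1 : a ≫ twFst = b ≫ twFst)
    (h2 : a ≫ twSnd = b ≫ twSnd) : a = b :=
  CartesianMonoidalCategory.hom_ext _ _ h1 h2

theorem twLift_eta {W : Over S} (x : W ⟶ tw G P) : twLift (x ≫ twFst) (x ≫ twSnd) = x := by
  apply tw_ext
  · rw [twLift_fst]
  · rw [twLift_snd]

theorem smooth_tensor (X Y : Over S) [Smooth X.hom] [Smooth Y.hom] : Smooth (X ⊗ Y).hom := by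
  rw [Over.tensorObj_hom]
  infer_instance

theorem smooth_unit : Smooth (𝟙_ (Over S)).hom := by
  show Smooth (𝟙 S)
  infer_instance

theorem smooth_tw [Smooth G.hom] [Smooth P.hom] : Smooth (tw G P).hom := smooth_tensor G P

end Tw

section SetupSec

/-- the data of an extension over the generic fibre with a normalised section -/
structure Setup {S : Scheme.{u}} (ξ : S) (Z : Type u) (G P : Over S) [GrpObj G] [GrpObj P]
    (E' : Over (Spec (S.residueField ξ))) [GrpObj E'] where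
  irr : IrreducibleSpace S
  hS : ∀ s : S, CAlg2.IsGeomUnibranch (S.presheaf.stalk s)
  hξ : IsGenericPoint ξ (Set.univ : Set S)
  eG : G ≅ TwC.const S Z
  u' : Red.bc (S.fromSpecResidueField ξ) G ⟶ E'
  v' : E' ⟶ Red.bc (S.fromSpecResidueField ξ) P
  s' : Red.bc (S.fromSpecResidueField ξ) P ⟶ E'
  hu : IsMonHom u'
  hv : IsMonHom v'
  huv : u' ≫ v' = 1
  hpb : IsPullback (fst E' (Red.bc (S.fromSpecResidueField ξ) G)) ((E' ◁ u') ≫ μ[E']) v' v'
  hs : s' ≫ v' = 𝟙 (Red.bc (S.fromSpecResidueField ξ) P)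
  hs1 : η[Red.bc (S.fromSpecResidueField ξ) P] ≫ s' = η[E']

attribute [instance] Setup.hu Setup.hv

variable {S : Scheme.{u}} {ξ : S} {Z : Type u} {G P : Over S} [GrpObj G] [GrpObj P]
  {E' : Over (Spec (S.residueField ξ))} [GrpObj E'] (D : Setup ξ Z G P E')

local notation "io" => Scheme.fromSpecResidueField S ξ

/-- the point of `E'` attached to a point of `G ×_S P` -/
def PsiE {T : Over (Spec (S.residueField ξ))} (x : Over.mk (T.hom ≫ io) ⟶ tw G P) : T ⟶ E' :=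
  Psi io D.u' D.s' (x ≫ twFst) (x ≫ twSnd)

theorem PsiE_nat {T T' : Over (Spec (S.residueField ξ))} (m : T' ⟶ T)
    (x : Over.mk (T.hom ≫ io) ⟶ tw G P) : PsiE D (sMap io m ≫ x) = m ≫ PsiE D x := by
  unfold PsiE
  rw [Category.assoc, Category.assoc, Psi_nat]

theorem PsiE_v {T : Over (Spec (S.residueField ξ))} (x : Over.mk (T.hom ≫ io) ⟶ tw G P) :
    PsiE D x ≫ D.v' = up io (x ≫ twSnd) :=
  Psi_v io D.u' D.v' D.s' D.huv D.hs _ _

theorem PsiE_inj {T : Over (Spec (S.residueField ξ))} (x y : Over.mk (T.hom ≫ io) ⟶ tw G P)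
    (h : PsiE D x = PsiE D y) : x = y := by
  obtain ⟨h1, h2⟩ := Psi_inj io D.u' D.v' D.s' D.huv D.hs D.hpb _ _ _ _ h
  exact tw_ext _ _ h1 h2

theorem PsiE_surj {T : Over (Spec (S.residueField ξ))} (ω : T ⟶ E') :
    ∃ x : Over.mk (T.hom ≫ io) ⟶ tw G P, PsiE D x = ω := by
  obtain ⟨g, p, h⟩ := Psi_surj io D.u' D.v' D.s' D.hs D.hpb ω
  refine ⟨twLift g p, ?_⟩
  unfold PsiE
  rw [twLift_fst, twLift_snd]
  exact h

theorem PsiE_jj {T : Over (Spec (S.residueField ξ))} {W : Over S}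
    (m : Over.mk (T.hom ≫ io) ⟶ W) (A : W ⟶ tw G P) :
    PsiE D (m ≫ A) = up io m ≫ PsiE D (jj ξ W ≫ A) := by
  rw [← PsiE_nat, ← Category.assoc, ← eq_sMap_jj]

/-- the pair (`P`-component, induced morphism on generic fibres) of a morphism to `G ×_S P` -/
def ev {W : Over S} (A : W ⟶ tw G P) : (W ⟶ P) × (Red.bc io W ⟶ E') :=
  (A ≫ twSnd, PsiE D (jj ξ W ≫ A))

/-- pulling back pairs -/
def pb {W W' : Over S} (x : W' ⟶ W) (c : (W ⟶ P) × (Red.bc io W ⟶ E')) :
    (W' ⟶ P) × (Red.bc io W' ⟶ E') :=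
  (x ≫ c.1, (Over.pullback io).map x ≫ c.2)

theorem pb_mul {W W' : Over S} (x : W' ⟶ W) (c d : (W ⟶ P) × (Red.bc io W ⟶ E')) :
    pb (ξ := ξ) x (c * d) = pb x c * pb x d :=
  Prod.ext (MonObj.comp_mul x c.1 d.1) (MonObj.comp_mul ((Over.pullback io).map x) c.2 d.2)

theorem pb_inv {W W' : Over S} (x : W' ⟶ W) (c : (W ⟶ P) × (Red.bc io W ⟶ E')) :
    pb (ξ := ξ) x c⁻¹ = (pb x c)⁻¹ :=
  Prod.ext (GrpObj.comp_inv x c.1) (GrpObj.comp_inv ((Over.pullback io).map x) c.2)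

theorem pb_one {W W' : Over S} (x : W' ⟶ W) :
    pb (ξ := ξ) (P := P) (E' := E') x 1 = 1 :=
  Prod.ext (MonObj.comp_one x) (MonObj.comp_one ((Over.pullback io).map x))

theorem ev_comp {W W' : Over S} (x : W' ⟶ W) (A : W ⟶ tw G P) :
    ev D (x ≫ A) = pb x (ev D A) := by
  unfold ev pb
  refine Prod.ext (Category.assoc _ _ _) ?_
  show PsiE D (jj ξ W' ≫ x ≫ A) = (Over.pullback io).map x ≫ PsiE D (jj ξ W ≫ A)
  rw [← Category.assoc, PsiE_jj, jj_comp, up_down]

/-- compatibility of a pair -/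
def Compat (W : Over S) (c : (W ⟶ P) × (Red.bc io W ⟶ E')) : Prop :=
  c.2 ≫ D.v' = up io (jj ξ W ≫ c.1)

theorem compat_ev {W : Over S} (A : W ⟶ tw G P) : Compat D W (ev D A) := by
  show PsiE D (jj ξ W ≫ A) ≫ D.v' = up io (jj ξ W ≫ A ≫ twSnd)
  rw [PsiE_v, Category.assoc]

theorem compat_mul {W : Over S} (c d : (W ⟶ P) × (Red.bc io W ⟶ E')) (hc : Compat D W c)
    (hd : Compat D W d) : Compat D W (c * d) := by
  show (c.2 * d.2) ≫ D.v' = up io (jj ξ W ≫ (c.1 * d.1))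
  rw [MonObj.mul_comp, hc, hd, MonObj.comp_mul, up_mul]

theorem compat_inv {W : Over S} (c : (W ⟶ P) × (Red.bc io W ⟶ E')) (hc : Compat D W c) :
    Compat D W c⁻¹ := by
  show (c.2)⁻¹ ≫ D.v' = up io (jj ξ W ≫ (c.1)⁻¹)
  rw [GrpObj.inv_comp, hc, GrpObj.comp_inv, up_inv]

theorem compat_one {W : Over S} : Compat D W 1 := by
  show (1 : Red.bc io W ⟶ E') ≫ D.v' = up io (jj ξ W ≫ (1 : W ⟶ P))
  rw [MonObj.one_comp, MonObj.comp_one, up_one]

theorem ev_inj {W : Over S} [Smooth W.hom] (A B : W ⟶ tw G P) (h : ev D A = ev D B) :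
    A = B := by
  have h1 : A ≫ twSnd = B ≫ twSnd := congrArg Prod.fst h
  have h2 : PsiE D (jj ξ W ≫ A) = PsiE D (jj ξ W ≫ B) := congrArg Prod.snd h
  have h3 := PsiE_inj D _ _ h2
  apply tw_ext _ _ ?_ h1
  apply gen_inj ξ D.hξ D.eG W
  rw [← Category.assoc, ← Category.assoc, h3]

theorem ev_surj {W : Over S} [Smooth W.hom] (c : (W ⟶ P) × (Red.bc io W ⟶ E'))
    (hc : Compat D W c) : ∃ A : W ⟶ tw G P, ev D A = c := by
  haveI := D.irr
  obtain ⟨x, hx⟩ := PsiE_surj D c.2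
  obtain ⟨a, ha⟩ := gen_surj ξ D.hξ D.hS D.eG W (x ≫ twFst)
  have hx2 : x ≫ twSnd = jj ξ W ≫ c.1 := by
    have h1 := PsiE_v D x
    rw [hx, hc] at h1
    have h2 := congrArg (down io) h1
    rw [down_up, down_up] at h2
    exact h2.symm
  refine ⟨twLift a c.1, ?_⟩
  have hjx : jj ξ W ≫ twLift a c.1 = x := by
    apply tw_ext
    · rw [Category.assoc, twLift_fst, ha]
    · rw [Category.assoc, twLift_snd, hx2]
  unfold ev
  rw [twLift_snd, hjx, hx]

end SetupSec

end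

end Groth.Agent.Helper6.ExtRigid
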