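import Mathlib
import Groth.Prelude.Def_NonAbH2
import Groth.Prelude.Def_TwC
import Groth.Agent.Lib.Helper6.ExtRigid.ER10

/-!
# The group structure on `G ×_S P` extending a given extension over the generic fibre
(helper6, for S8717)

Using `ev_inj` and `ev_surj` of `ER10`, the group law, inverse and unit of `E'` over the generic
point extend uniquely to morphisms of the smooth `S`-scheme `G ×_S P`; the group axioms follow
from uniqueness.
-/

set_option backward.isDefEq.respectTransparency.types false
set_option autoImplicit false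
set_option linter.unusedSectionVars false
set_option linter.unusedVariables false
set_option linter.style.haveILetI false
set_option linter.unusedSimpArgs false
set_option maxHeartbeats 800000
set_option synthInstance.maxHeartbeats 400000

open CategoryTheory CategoryTheory.Limits MonoidalCategory CartesianMonoidalCategory MonObj
  AlgebraicGeometry

namespace Groth.Agent.Helper6.ExtRigid

universe v u

open Groth.Agent.Lib.Helper6.DS

noncomputable section

section GroupSec

variable {S : Scheme.{u}} {ξ : S} {Z : Type u} {G P : Over S} [GrpObj G] [GrpObj P]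
  [Smooth G.hom] [Smooth P.hom]
  {E' : Over (Spec (S.residueField ξ))} [GrpObj E'] (D : Setup ξ Z G P E')

local notation "io" => Scheme.fromSpecResidueField S ξ

attribute [local instance] smooth_tensor smooth_unit smooth_tw

theorem exists_mE : ∃ m : tw G P ⊗ tw G P ⟶ tw G P,
    ev D m = ev D (fst (tw G P) (tw G P)) * ev D (snd (tw G P) (tw G P)) :=
  ev_surj D _ (compat_mul D _ _ (compat_ev D _) (compat_ev D _))

/-- the extended multiplication -/
def mE : tw G P ⊗ tw G P ⟶ tw G P := (exists_mE D).choose

theorem ev_mE : ev D (mE D) = ev D (fst (tw G P) (tw G P)) * ev D (snd (tw G P) (tw G P)) :=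
  (exists_mE D).choose_spec

theorem exists_iE : ∃ i : tw G P ⟶ tw G P, ev D i = (ev D (𝟙 (tw G P)))⁻¹ :=
  ev_surj D _ (compat_inv D _ (compat_ev D _))

/-- the extended inverse -/
def iE : tw G P ⟶ tw G P := (exists_iE D).choose

theorem ev_iE : ev D (iE D) = (ev D (𝟙 (tw G P)))⁻¹ := (exists_iE D).choose_spec

theorem exists_oE : ∃ o : 𝟙_ (Over S) ⟶ tw G P, ev D o = 1 :=
  ev_surj D _ (compat_one D)

/-- the extended unit -/
def oE : 𝟙_ (Over S) ⟶ tw G P := (exists_oE D).choose

theorem ev_oE : ev D (oE D) = 1 := (exists_oE D).choose_spec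

theorem ev_M {W : Over S} (x : W ⟶ tw G P ⊗ tw G P) :
    ev D (x ≫ mE D) =
      ev D (x ≫ fst (tw G P) (tw G P)) * ev D (x ≫ snd (tw G P) (tw G P)) := by
  rw [ev_comp, ev_mE, pb_mul, ← ev_comp, ← ev_comp]

theorem ev_M_assoc {W W' : Over S} (x : W ⟶ W') (y : W' ⟶ tw G P ⊗ tw G P) :
    ev D (x ≫ y ≫ mE D) =
      ev D (x ≫ y ≫ fst (tw G P) (tw G P)) * ev D (x ≫ y ≫ snd (tw G P) (tw G P)) := by
  have h := ev_M D (x ≫ y)
  simpa only [Category.assoc] using h

theorem ev_I {W : Over S} (x : W ⟶ tw G P) : ev D (x ≫ iE D) = (ev D x)⁻¹ := by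
  rw [ev_comp, ev_iE, pb_inv, ← ev_comp, Category.comp_id]

theorem ev_O {W : Over S} (x : W ⟶ 𝟙_ (Over S)) : ev D (x ≫ oE D) = 1 := by
  rw [ev_comp, ev_oE, pb_one]

/-- the group structure on `G ×_S P` extending that of `E'` -/
@[instance_reducible]
def grpTw : GrpObj (tw G P) where
  one := oE D
  mul := mE D
  one_mul := by
    apply ev_inj D
    rw [ev_M, whiskerRight_fst, whiskerRight_snd, ev_O, _root_.one_mul, leftUnitor_hom]
  mul_one := by
    apply ev_inj D
    rw [ev_M, whiskerLeft_fst, whiskerLeft_snd, ev_O, _root_.mul_one, rightUnitor_hom]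
  mul_assoc := by
    apply ev_inj D
    rw [ev_M, whiskerRight_fst, whiskerRight_snd, ev_M, ev_M_assoc, whiskerLeft_fst,
      whiskerLeft_snd, associator_hom_fst, ev_M_assoc, associator_hom_snd_fst,
      associator_hom_snd_snd, _root_.mul_assoc]
  inv := iE D
  left_inv := by
    apply ev_inj D
    rw [ev_M, lift_fst, lift_snd, ev_O, ev_iE, inv_mul_cancel]
  right_inv := by
    apply ev_inj D
    rw [ev_M, lift_fst, lift_snd, ev_O, ev_iE, mul_inv_cancel]

theorem grpTw_mul : (grpTw D).mul = mE D := rfl

theorem grpTw_one : (grpTw D).one = oE D := rfl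

theorem ev_mul_tw {W : Over S} (x y : W ⟶ tw G P) :
    letI := grpTw D
    ev D (x * y) = ev D x * ev D y := by
  letI := grpTw D
  rw [Hom.mul_def]
  show ev D (lift x y ≫ mE D) = _
  rw [ev_M, lift_fst, lift_snd]

theorem ev_one_tw {W : Over S} :
    letI := grpTw D
    ev D (1 : W ⟶ tw G P) = 1 := by
  letI := grpTw D
  rw [Hom.one_def]
  show ev D (toUnit W ≫ oE D) = 1
  rw [ev_O]

end GroupSec

end

end Groth.Agent.Helper6.ExtRigid
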