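import Mathlib
import Groth.Prelude.Def_NonAbH2
import Groth.Prelude.Def_TwC
import Groth.Agent.Lib.Helper6.ExtRigid.ER11
import Groth.Agent.Lib.Helper4.FinCrit1

/-!
# Extensions by a constant torsion-free group extend from the generic fibre (S8717)

Assembly: with the group structure of `ER11` on `G ×_S P`, the inclusion `g ↦ (g, 1)` and the
projection form an fppf-exact sequence over `S` whose generic fibre is the given extension.
-/

set_option backward.isDefEq.respectTransparency.types false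
set_option autoImplicit false
set_option linter.unusedSectionVars false
set_option linter.unusedVariables false
set_option linter.style.haveILetI false
set_option linter.unusedSimpArgs false
set_option maxHeartbeats 800000
set_option synthInstance.maxHeartbeats 400000

open CategoryTheory CategoryTheory.Limits MonoidalCategory CartesianMonoidalCategory MonObj
  AlgebraicGeometry

namespace Groth.Agent.Helper6.ExtRigid

universe v u

open Groth.Agent.Lib.Helper6.DS

noncomputable section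

section ExactSec

variable {S : Scheme.{u}} {ξ : S} {Z : Type u} {G P : Over S} [GrpObj G] [GrpObj P]
  [Smooth G.hom] [Smooth P.hom]
  {E' : Over (Spec (S.residueField ξ))} [GrpObj E'] (D : Setup ξ Z G P E')

local notation "io" => Scheme.fromSpecResidueField S ξ

attribute [local instance] smooth_tensor smooth_unit smooth_tw

/-- the inclusion of `G` -/
def uE : G ⟶ tw G P := twLift (𝟙 G) 1

theorem uE_twSnd : (uE : G ⟶ tw G P) ≫ twSnd = 1 := twLift_snd _ _

theorem uE_twFst : (uE : G ⟶ tw G P) ≫ twFst = 𝟙 G := twLift_fst _ _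

/-- the pair attached to a point of `G` -/
def evG {W : Over S} (t : W ⟶ G) : (W ⟶ P) × (Red.bc io W ⟶ E') :=
  (1, up io (jj ξ W ≫ t) ≫ D.u')

theorem ev_uE {W : Over S} (t : W ⟶ G) : ev D (t ≫ uE) = evG D t := by
  refine Prod.ext ?_ ?_
  · show (t ≫ uE) ≫ twSnd = 1
    rw [Category.assoc, uE_twSnd, MonObj.comp_one]
  · show PsiE D (jj ξ W ≫ t ≫ uE) = up io (jj ξ W ≫ t) ≫ D.u'
    have h1 : (jj ξ W ≫ t ≫ (uE : G ⟶ tw G P)) ≫ twFst = jj ξ W ≫ t := by
      rw [Category.assoc, Category.assoc, uE_twFst, Category.comp_id]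
    have h2 : (jj ξ W ≫ t ≫ (uE : G ⟶ tw G P)) ≫ twSnd = 1 := by
      rw [Category.assoc, Category.assoc, uE_twSnd, MonObj.comp_one, MonObj.comp_one]
    unfold PsiE
    rw [h1, h2, Psi_one io D.u' D.s' D.hs1]

theorem evG_mul {W : Over S} (t₁ t₂ : W ⟶ G) : evG D (t₁ * t₂) = evG D t₁ * evG D t₂ := by
  refine Prod.ext (_root_.mul_one (1 : W ⟶ P)).symm ?_
  show up io (jj ξ W ≫ (t₁ * t₂)) ≫ D.u' =
    (up io (jj ξ W ≫ t₁) ≫ D.u') * (up io (jj ξ W ≫ t₂) ≫ D.u')
  rw [MonObj.comp_mul, up_mul, MonObj.mul_comp]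

theorem evG_one {W : Over S} : evG D (1 : W ⟶ G) = 1 := by
  refine Prod.ext rfl ?_
  show up io (jj ξ W ≫ (1 : W ⟶ G)) ≫ D.u' = 1
  rw [MonObj.comp_one, up_one, MonObj.one_comp]

theorem isMonHom_uE :
    letI := grpTw D
    IsMonHom (uE : G ⟶ tw G P) := by
  letI := grpTw D
  refine ⟨?_, ?_⟩
  · show η[G] ≫ uE = oE D
    apply ev_inj D
    rw [ev_uE, ev_oE, ← one_eq_eta, evG_one]
  · show μ[G] ≫ uE = ((uE : G ⟶ tw G P) ⊗ₘ (uE : G ⟶ tw G P)) ≫ mE D
    apply ev_inj D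
    have hμ : μ[G] = fst G G * snd G G := by
      rw [Hom.mul_def, lift_fst_snd, Category.id_comp]
    rw [ev_uE, ev_M, tensorHom_fst, tensorHom_snd, ev_uE, ev_uE, hμ, evG_mul]

theorem isMonHom_twSnd :
    letI := grpTw D
    IsMonHom (twSnd : tw G P ⟶ P) := by
  letI := grpTw D
  refine ⟨?_, ?_⟩
  · show oE D ≫ twSnd = η[P]
    have h := congrArg Prod.fst (ev_oE D)
    rw [← one_eq_eta]
    exact h
  · show mE D ≫ twSnd = ((twSnd : tw G P ⟶ P) ⊗ₘ (twSnd : tw G P ⟶ P)) ≫ μ[P]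
    have h := congrArg Prod.fst (ev_mE D)
    have h' : mE D ≫ twSnd =
        (fst (tw G P) (tw G P) ≫ twSnd) * (snd (tw G P) (tw G P) ≫ twSnd) := h
    rw [h', Hom.mul_def, lift_fst_comp_snd_comp]

theorem ev_twLift {W : Over S} (a : W ⟶ G) (q : W ⟶ P) :
    ev D (twLift a q) = (q, Psi io D.u' D.s' (jj ξ W ≫ a) (jj ξ W ≫ q)) := by
  unfold ev PsiE
  rw [twLift_snd, Category.assoc, Category.assoc, twLift_fst, twLift_snd]

theorem ev_eq_Psi {W : Over S} (A : W ⟶ tw G P) :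
    ev D A = (A ≫ twSnd,
      Psi io D.u' D.s' (jj ξ W ≫ A ≫ twFst) (jj ξ W ≫ A ≫ twSnd)) := by
  unfold ev PsiE
  rw [Category.assoc, Category.assoc]

theorem rt_eq : (tw G P ◁ (uE : G ⟶ tw G P)) ≫ mE D =
    twLift ((fst (tw G P) G ≫ twFst) * snd (tw G P) G) (fst (tw G P) G ≫ twSnd) := by
  apply ev_inj D
  rw [ev_M, whiskerLeft_fst, whiskerLeft_snd, ev_uE, ev_twLift, MonObj.comp_mul,
    Psi_mul_right, ev_eq_Psi]
  refine Prod.ext ?_ ?_
  · exact _root_.mul_one _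
  · rfl

theorem isPullback_tw :
    IsPullback (fst (tw G P) G) ((tw G P ◁ (uE : G ⟶ tw G P)) ≫ mE D)
      (twSnd : tw G P ⟶ P) twSnd := by
  rw [rt_eq]
  have hw : fst (tw G P) G ≫ (twSnd : tw G P ⟶ P) =
      twLift ((fst (tw G P) G ≫ twFst) * snd (tw G P) G) (fst (tw G P) G ≫ twSnd) ≫
        twSnd := by
    rw [twLift_snd]
  refine ⟨⟨hw⟩, ⟨PullbackCone.IsLimit.mk hw
    (fun c => lift c.fst ((c.fst ≫ twFst)⁻¹ * (c.snd ≫ twFst))) ?_ ?_ ?_⟩⟩
  · intro c
    rw [lift_fst]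
  · intro c
    rw [comp_twLift, MonObj.comp_mul, lift_fst_assoc, lift_snd, lift_fst_assoc,
      mul_inv_cancel_left, c.condition, twLift_eta]
  · intro c m h1 h2
    apply CartesianMonoidalCategory.hom_ext
    · rw [lift_fst, h1]
    · rw [lift_snd]
      have h3 := congrArg (fun k => k ≫ twFst) h2
      simp only [Category.assoc, twLift_fst, MonObj.comp_mul] at h3
      rw [← Category.assoc, h1] at h3
      exact eq_inv_mul_of_mul_eq h3

theorem locTriv_tw :
    NonAbH1.IsLocallyTrivialFor Scheme.fppfPrecoverage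
      (Over.mk (twSnd : tw G P ⟶ P).left : Over P.left) := by
  obtain ⟨σ, hσ⟩ : ∃ σ : P ⟶ tw G P, σ ≫ twSnd = 𝟙 P := ⟨twLift 1 (𝟙 P), twLift_snd _ _⟩
  refine ⟨Presieve.singleton (𝟙 P.left),
    Scheme.fppfPrecoverage.mem_coverings_of_isIso (𝟙 P.left), ?_⟩
  rintro S' f ⟨⟩
  refine ⟨σ.left, ?_⟩
  show σ.left ≫ (twSnd : tw G P ⟶ P).left = 𝟙 P.left
  rw [← Over.comp_left, hσ]
  rfl

/-- the comparison isomorphism on the generic fibre -/
def phiE : Red.bc io (tw G P) ⟶ E' := PsiE D (jj ξ (tw G P))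

theorem comp_phiE {T : Over (Spec (S.residueField ξ))} (y : T ⟶ Red.bc io (tw G P)) :
    y ≫ phiE D = PsiE D (down io y) := by
  unfold phiE
  have h := PsiE_jj D (down io y) (𝟙 (tw G P))
  rw [Category.comp_id, Category.comp_id, up_down] at h
  exact h.symm

theorem isIso_phiE : IsIso (phiE D) := by
  apply isIso_of_yoneda_map_bijective
  intro T
  constructor
  · intro y₁ y₂ h
    have h' : y₁ ≫ phiE D = y₂ ≫ phiE D := h
    rw [comp_phiE, comp_phiE] at h'
    exact down_injective io (PsiE_inj D _ _ h')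
  · intro ω
    obtain ⟨x, hx⟩ := PsiE_surj D ω
    refine ⟨up io x, ?_⟩
    show up io x ≫ phiE D = ω
    rw [comp_phiE, down_up, hx]

theorem PsiE_mE {T : Over (Spec (S.residueField ξ))}
    (x : Over.mk (T.hom ≫ io) ⟶ tw G P ⊗ tw G P) :
    PsiE D (x ≫ mE D) =
      PsiE D (x ≫ fst (tw G P) (tw G P)) * PsiE D (x ≫ snd (tw G P) (tw G P)) := by
  rw [PsiE_jj, PsiE_jj D x (fst (tw G P) (tw G P)), PsiE_jj D x (snd (tw G P) (tw G P)),
    ← MonObj.comp_mul]
  congr 1
  exact congrArg Prod.snd (ev_mE D)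

theorem PsiE_oE {T : Over (Spec (S.residueField ξ))}
    (x : Over.mk (T.hom ≫ io) ⟶ 𝟙_ (Over S)) : PsiE D (x ≫ oE D) = 1 := by
  rw [PsiE_jj]
  have h : PsiE D (jj ξ (𝟙_ (Over S)) ≫ oE D) = 1 := congrArg Prod.snd (ev_oE D)
  rw [h, MonObj.comp_one]

theorem isMonHom_phiE :
    letI := grpTw D
    IsMonHom (phiE D) := by
  letI := grpTw D
  have hmul : ∀ {T : Over (Spec (S.residueField ξ))} (y₁ y₂ : T ⟶ Red.bc io (tw G P)),
      (y₁ * y₂) ≫ phiE D = (y₁ ≫ phiE D) * (y₂ ≫ phiE D) := by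
    intro T y₁ y₂
    have h1 : down io y₁ * down io y₂ = lift (down io y₁) (down io y₂) ≫ mE D := rfl
    rw [comp_phiE, comp_phiE, comp_phiE, down_mul, h1, PsiE_mE, lift_fst, lift_snd]
  refine ⟨?_, ?_⟩
  · rw [← one_eq_eta, ← one_eq_eta, comp_phiE, down_one]
    show PsiE D (toUnit _ ≫ oE D) = 1
    exact PsiE_oE D _
  · have hμ : μ[Red.bc io (tw G P)] = fst (Red.bc io (tw G P)) (Red.bc io (tw G P)) *
        snd (Red.bc io (tw G P)) (Red.bc io (tw G P)) := by
      rw [Hom.mul_def, lift_fst_snd, Category.id_comp]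
    rw [hμ, hmul, Hom.mul_def, lift_fst_comp_snd_comp]

theorem map_uE_phiE : (Over.pullback io).map (uE : G ⟶ tw G P) ≫ phiE D = D.u' := by
  rw [comp_phiE]
  have h1 : down io ((Over.pullback io).map (uE : G ⟶ tw G P)) = jj ξ G ≫ uE :=
    (jj_comp ξ uE).symm
  rw [h1]
  have h2 := congrArg Prod.snd (ev_uE D (𝟙 G))
  have h3 : PsiE D (jj ξ G ≫ 𝟙 G ≫ uE) = up io (jj ξ G ≫ 𝟙 G) ≫ D.u' := h2
  rw [Category.id_comp, Category.comp_id] at h3
  rw [h3]
  unfold jj
  rw [up_down, Category.id_comp]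

theorem phiE_v : phiE D ≫ D.v' = (Over.pullback io).map (twSnd : tw G P ⟶ P) := by
  unfold phiE
  rw [PsiE_v, jj_comp, up_down]

end ExactSec

section Main

theorem field_base (K : Type u) [Field K] :
    IrreducibleSpace ↥(Spec (CommRingCat.of K)) ∧
      ∀ s : ↥(Spec (CommRingCat.of K)),
        CAlg2.IsGeomUnibranch ↑((Spec (CommRingCat.of K)).presheaf.stalk s) :=
  ⟨inferInstance, fun s =>
    Groth.Agent.Lib.Helper4.FinCrit1.isGeomUnibranch_stalk_Spec_of_normal K s⟩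

theorem S8717_main (S : Scheme.{u}) [IrreducibleSpace ↥S]
    (hS : ∀ s : ↥S, CAlg2.IsGeomUnibranch ↑(S.presheaf.stalk s))
    (ξ : ↥S) (hξ : IsGenericPoint ξ (Set.univ : Set ↥S))
    (Z : Type u) [Group Z] (hZ : ∀ z : Z, IsOfFinOrder z → z = 1)
    (G P : Over S) [GrpObj G] [GrpObj P] (eG : G ≅ TwC.const S Z)
    (hG : TwC.IsConstGrp Z G eG) [Smooth P.hom]
    (E' : Over (Spec (S.residueField ξ))) [GrpObj E']
    (u' : Red.bc (S.fromSpecResidueField ξ) G ⟶ E')
    (v' : E' ⟶ Red.bc (S.fromSpecResidueField ξ) P)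
    (hex' : NonAbH1.IsExactSeq Scheme.fppfPrecoverage u' v') :
    ∃ (E : Over S) (_ : GrpObj E) (u : G ⟶ E) (v : E ⟶ P)
      (φ : Red.bc (S.fromSpecResidueField ξ) E ≅ E'),
      NonAbH1.IsExactSeq Scheme.fppfPrecoverage u v ∧ IsMonHom φ.hom ∧
        (Over.pullback (S.fromSpecResidueField ξ)).map u ≫ φ.hom = u' ∧
        φ.hom ≫ v' = (Over.pullback (S.fromSpecResidueField ξ)).map v := by
  haveI hGsm : Smooth G.hom := by
    have h1 : eG.hom.left ≫ (TwC.const S Z).hom = G.hom := Over.w eG.hom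
    haveI : IsIso eG.hom.left := by
      have := (Over.forget S).map_isIso eG.hom
      exact this
    haveI : Etale (TwC.const S Z).hom := Groth.Agent.Helper6.TwCEt.etale_dd S Z
    rw [← h1]
    infer_instance
  have hfb := field_base (IsLocalRing.ResidueField (S.presheaf.stalk ξ))
  haveI hirr : IrreducibleSpace ↥(Spec (S.residueField ξ)) := hfb.1
  have hB : ∀ s : ↥(Spec (S.residueField ξ)),
      CAlg2.IsGeomUnibranch ↑((Spec (S.residueField ξ)).presheaf.stalk s) := hfb.2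
  obtain ⟨eGη, hGη⟩ := exists_const_bc (S.fromSpecResidueField ξ) Z G eG hG
  haveI : Smooth (Red.bc (S.fromSpecResidueField ξ) P).hom := by
    show Smooth (pullback.snd P.hom (S.fromSpecResidueField ξ))
    infer_instance
  obtain ⟨s₀, hs₀⟩ := exists_section_of_exact (Spec (S.residueField ξ)) hB Z hZ
    (Red.bc (S.fromSpecResidueField ξ) G) E' (Red.bc (S.fromSpecResidueField ξ) P) eGη hGη
    u' v' hex'
  obtain ⟨hu, hv, huv, hpb, hloc⟩ := hex'
  haveI := hu
  haveI := hv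
  obtain ⟨s', hs', hs1⟩ := exists_normalized_section (S.fromSpecResidueField ξ) v' s₀ hs₀
  obtain ⟨D, hDu, hDv⟩ : ∃ D : Setup ξ Z G P E', D.u' = u' ∧ D.v' = v' :=
    ⟨⟨inferInstance, hS, hξ, eG, u', v', s', hu, hv, huv, hpb, hs', hs1⟩, rfl, rfl⟩
  refine ⟨tw G P, grpTw D, uE, twSnd, @asIso _ _ _ _ (phiE D) (isIso_phiE D),
    ⟨isMonHom_uE D, isMonHom_twSnd D, uE_twSnd, isPullback_tw D, locTriv_tw⟩,
    isMonHom_phiE D, ?_, ?_⟩
  · show (Over.pullback (S.fromSpecResidueField ξ)).map uE ≫ phiE D = u'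
    rw [map_uE_phiE, hDu]
  · show phiE D ≫ v' = _
    rw [← hDv, phiE_v]

end Main

end

end Groth.Agent.Helper6.ExtRigid
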