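import Mathlib
import Groth.Prelude.Def_NonAbH2
import Groth.Prelude.Def_TwC
import Groth.Prelude.Def_MoreMor
import Groth.Agent.Lib.Helper6.ExtRigid.ER6

/-!
# S8712: extensions of a smooth connected group by a twisted lattice split (final assembly)
-/

set_option backward.isDefEq.respectTransparency.types false
set_option autoImplicit false
set_option linter.unusedSectionVars false
set_option linter.unusedVariables false
set_option linter.style.haveILetI false
set_option maxHeartbeats 800000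
set_option synthInstance.maxHeartbeats 400000

open CategoryTheory CategoryTheory.Limits MonoidalCategory CartesianMonoidalCategory MonObj
  AlgebraicGeometry

namespace Groth.Agent.Helper6.ExtRigid

universe u

open Groth.Agent.Lib.Helper6.FlatQ

theorem LD_of_lattice {S : Scheme.{u}} (M : Over S) [GrpObj M] {T : Scheme.{u}} (g : T ⟶ S)
    (r : ℕ) (e : Red.bc g M ≅ TwC.const T (Multiplicative (Fin r → ℤ)))
    (hG : TwC.IsConstGrp (Multiplicative (Fin r → ℤ)) (Red.bc g M) e) : LD M T g := by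
  obtain ⟨φ, hφ⟩ : ∃ φ : Multiplicative (Fin r → ℤ) ≃* ULift.{u} (Multiplicative (Fin r → ℤ)),
      φ = MulEquiv.ulift.symm := ⟨_, rfl⟩
  have h1 := isConstGrp_reindex (S := T) φ e hG
  exact ⟨ULift.{u} (Multiplicative (Fin r → ℤ)), inferInstance, torsionFree_lattice r,
    e ≪≫ constIso T φ.toEquiv, h1⟩

theorem S8712_main (S : Scheme.{u})
    (P E M : Over S) [GrpObj P] [GrpObj E] [GrpObj M]
    [Smooth P.hom] [QuasiCompact P.hom] [QuasiSeparated P.hom] [GeometricallyConnected P.hom]
    (hM : TwC.Locally S TwC.Topology.fpqc (fun S' f =>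
      ∃ (r : ℕ) (e : Red.bc f M ≅ TwC.const S' (Multiplicative (Fin r → ℤ))),
        TwC.IsConstGrp (Multiplicative (Fin r → ℤ)) (Red.bc f M) e))
    (u : M ⟶ E) (v : E ⟶ P) (hex : NonAbH1.IsExactSeq Scheme.fppfPrecoverage u v) :
    (∀ φ : P ⟶ M, IsMonHom φ → φ = 1) ∧ ∃ s : P ⟶ E, IsMonHom s ∧ s ≫ v = 𝟙 P := by
  obtain ⟨S', f, hflat, hsurj, hcov, hloc⟩ := hM
  have hf : FQC f := ⟨hflat, WQC.of_forall f hcov⟩
  refine S8712_core u v f hf ?_ hex
  intro s'
  obtain ⟨U, hU, r, e, hG⟩ := hloc s'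
  exact ⟨U, hU, LD_of_lattice M (U.ι ≫ f) r e hG⟩

end Groth.Agent.Helper6.ExtRigid
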